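import Mathlib
import Cfsg.Agent.Lib.Helper24.PFCycDefs
import Cfsg.Agent.Lib.Helper4.PFTypes

/-!
# PROJECT PF, Peterfalvi section 11 (end game): the carrier record `Frame` (helper64)

Everything the lattice bookkeeping of the end of section 11 needs about a maximal subgroup `M` of
Type III or IV (more generally: of type P with `A(M) = M' \ 1`), bundled in ONE record, so that the
modules of the end game have short statements and do not wait for each other.  All fields are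
conclusions of landed / posted modules of helper24's shared bookkeeping (batch 1, 1b):
`[MU] [MU-ONE] [MU-RES] [MU-IND] [CALS] [MU-GAL] [MU-CONST] [MU-DEG] [LITA] [LITA0] [M-COVER] [B1] [B2]`.

Notation: `K = M'` (`derM M` inside `↥M`), `q = |W₁|`, `p = |W₂|`, `W = W₁ ⊔ W₂`,
`φ` = characters of `W` trivial on `W₂` (`TrivOn W₂ φ`), `ψ` = those trivial on `W₁`,
`μ_ω = mu ω`, `μ_ψ-sum = muSum mu ψ` (`= Ind_K^M θ_ψ`), `μ₀ = muSum mu 1 = Ind_K^M 1`,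
`η_ω` the cyclic TI family of `G`, `τ = tauM M` the Dade isometry attached to `A₀(M)`,
`calS M = {Ind_K^M θ : 1 ≠ θ ∈ Irr K}`; `d = μ_ψ(1)`, `δ = δ_ψ` (`ψ ≠ 1`), `d = δ + n q`.
-/

set_option autoImplicit false

namespace Cfsg.Agent.Lib.Helper64.PF11

open Cfsg Cfsg.Agent.Lib.Helper24.PFCyc Cfsg.Agent.Lib.Helper4.PF

universe u

variable {G : Type u} [Group G]

/-- `M'` as a subgroup of `↥M` (same as `derM` of `PFElevenE3`, restated to keep imports light) -/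
abbrev derK (M : Subgroup G) : Subgroup ↥M := (⁅M, M⁆).subgroupOf M

/-- the Dade isometry of `M` for `A₀(M)` -/
noncomputable abbrev tauM (M : Subgroup G) : (↥M → ℂ) → (G → ℂ) :=
  dadeIsometry (litA0 M) M (supportR M)

/-- `calS(M)`: the characters of `M` induced from the non-principal irreducible characters of
`M'` -/
abbrev calS (M : Subgroup G) [Fintype M] : Set (↥M → ℂ) := inducedIrrAbove (derK M) ⊥

/-- The carrier record of the end game of section 11. -/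
structure Frame [Fintype G] (M W₁ U W₂ : Subgroup G) [Fintype M]
    (mu : WChar W₁ W₂ → (↥M → ℂ)) (dl : WChar W₁ W₂ → ℂ) (η : WChar W₁ W₂ → (G → ℂ))
    (d : ℕ) (δ : ℂ) (n : ℤ) : Prop where
  hP : IsTypePWith M W₁ U W₂
  hodd : Odd (Nat.card G)
  hq : (Nat.card W₁).Prime
  hp : (Nat.card W₂).Prime
  hD : DadeHypothesis (litA0 M) M (supportR M)
  md : MuData M W₁ W₂ mu dl
  hη : IsCyclicTIFamily W₁ W₂ η
  /-- [LITA] -/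
  hA : litA M = ((⁅M, M⁆ : Subgroup G) : Set G) \ {1}
  /-- [LITA0] -/
  hA0 : ∀ w ∈ W₁ ⊔ W₂, w ∉ W₁ → w ∉ W₂ → ∀ m ∈ M, m * w * m⁻¹ ∈ litA0 M ∧
      supportR M (m * w * m⁻¹) = ⊥
  /-- [M-COVER] -/
  cover : ∀ m : G, m ∈ M → m ∉ ⁅M, M⁆ →
    ∃ x ∈ M, x * m * x⁻¹ ∈ W₁ ⊔ W₂ ∧ x * m * x⁻¹ ∉ W₂
  /-- [MU-ONE] -/
  mu_one : mu 1 = fun _ => 1
  /-- [MU-ONE] -/
  dl_one : ∀ φ : WChar W₁ W₂, TrivOn W₂ φ → dl φ = 1
  /-- [MU-RES] -/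
  mu_res : ∀ ω ω' : WChar W₁ W₂, (∀ w : ↥(W₁ ⊔ W₂), (w : G) ∈ W₂ → ω w = ω' w) →
    ∀ k : ↥M, (k : G) ∈ ⁅M, M⁆ → mu ω k = mu ω' k
  /-- [MU-IND] -/
  mu_ind : ∀ ω : WChar W₁ W₂,
    IsIrrCharacter ↥(derK M) (fun k => mu ω (k : ↥M)) ∧
      muSum mu ω = indFun (derK M) (fun k => mu ω (k : ↥M))
  /-- [CALS] -/
  calS_cases : ∀ ζ : ↥M → ℂ, ζ ∈ calS M →
    (IsIrrCharacter ↥M ζ ∧ ∀ ω, ζ ≠ mu ω) ∨
      ∃ ψ : WChar W₁ W₂, TrivOn W₁ ψ ∧ ψ ≠ 1 ∧ ζ = muSum mu ψ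
  /-- [CALS], converse -/
  muSum_mem : ∀ ψ : WChar W₁ W₂, TrivOn W₁ ψ → ψ ≠ 1 → muSum mu ψ ∈ calS M
  /-- [MU-GAL] -/
  mu_gal : ∀ (σ : ℂ ≃+* ℂ) (ω : WChar W₁ W₂),
    mu (galChar σ ω) = (fun m => σ (mu ω m)) ∧ dl (galChar σ ω) = dl ω
  /-- [MU-CONST] -/
  dl_psi : ∀ ψ : WChar W₁ W₂, TrivOn W₁ ψ → ψ ≠ 1 → dl ψ = δ
  /-- [MU-CONST] -/
  deg_psi : ∀ ψ : WChar W₁ W₂, TrivOn W₁ ψ → ψ ≠ 1 → mu ψ 1 = (d : ℂ)
  /-- `md.sign` -/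
  hδ : δ = 1 ∨ δ = -1
  /-- [MU-DEG] -/
  hdq : 2 * Nat.card W₁ - 1 ≤ d
  /-- [MU-DEG] -/
  hdn : (d : ℂ) - δ = (n : ℂ) * (Nat.card W₁ : ℂ)
  /-- [B1] `dade_rect` -/
  rect : ∀ φ ψ : WChar W₁ W₂, TrivOn W₂ φ → TrivOn W₁ ψ → φ ≠ 1 → ψ ≠ 1 →
    tauM M ((fun _ => 1) - mu φ - δ • mu ψ + δ • mu (φ * ψ)) =
      fun g => 1 - η φ g - η ψ g + η (φ * ψ) g
  /-- [B2] `dade_mu_sub` -/
  muSum_sub : ∀ ψ ψ' : WChar W₁ W₂, TrivOn W₁ ψ → TrivOn W₁ ψ' → ψ ≠ 1 → ψ' ≠ 1 → ψ ≠ ψ' →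
    tauM M (muSum mu ψ - muSum mu ψ') = δ • (etaSum η ψ - etaSum η ψ')

end Cfsg.Agent.Lib.Helper64.PF11
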