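import Mathlib
import Cfsg.Agent.Lib.Helper64.PFElevenFrame

/-!
# PROJECT PF, Peterfalvi section 11 (end game): `calS0` (helper64)

`calS0 M mu = calS(M) ∪ {μ₀}`, `μ₀ = muSum mu 1 = Ind_{M'}^M 1`: the integer span of this set, cut
down to the functions vanishing at `1`, is the part of the domain of the Dade isometry of `A₀(M)`
used in the end game of section 11.  Module sheet: `Cfsg/Agent/Lib/Helper64/PF11_MODULES.md`.
-/

set_option autoImplicit false

namespace Cfsg.Agent.Lib.Helper64.PF11

open Cfsg Cfsg.Agent.Lib.Helper24.PFCyc Cfsg.Agent.Lib.Helper4.PF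

universe u

variable {G : Type u} [Group G]

/-- `calS(M) ∪ {μ₀}` -/
abbrev calS0 (M : Subgroup G) [Fintype M] {W₁ W₂ : Subgroup G} [Finite G]
    (mu : WChar W₁ W₂ → (↥M → ℂ)) : Set (↥M → ℂ) := insert (muSum mu 1) (calS M)

end Cfsg.Agent.Lib.Helper64.PF11
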