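import Mathlib
import Cfsg.Agent.S1517
import Cfsg.Agent.S1519
import Cfsg.Agent.S1520
import Cfsg.Agent.S1521

/-!
# PF section 11: the coherence steps of (11.4), (11.5), (11.6) in abstract form (helper64)

`L` is a finite group, `K` a solvable normal subgroup, `(S(⊥), τ, R)` a coherence system with
`S(A) = inducedIrrAbove K A`, and `S(⊥)` is NOT coherent (Peterfalvi (10.8) / (11.3)).

* `index_le_of_coherent` (11.4): if `F ≤ K` is a nilpotent normal subgroup of `L`, `[F,F] ≤ B ≤ F`,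
  `|F:B| > 4|L:K|²+1` and `S(H₁)` is coherent for some normal `H₁ < K`, then `|K:H₁| ≤ 2|L:F| + 1`.
* `coherent_derived`: `S(K')` is coherent (constant degree).
* `derived_index_le` (11.5): hence `|K:K'| ≤ 2|L:F| + 1`.
* `not_coherent_facts` (11.6)/(Type IV): the contrapositive of S1521.
-/

set_option autoImplicit false

namespace Cfsg.Agent.Lib.Helper64.PF11

open Cfsg

universe u v

variable {L : Type u} [Group L] [Fintype L] {G : Type v} [Group G] [Fintype G]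

/-- (11.4), abstract form. -/
theorem index_le_of_coherent (K : Subgroup L) [hK : K.Normal] (hsolv : Group.IsSolvable K)
    (τ : (L → ℂ) → (G → ℂ)) (R : (L → ℂ) → Finset (G → ℂ))
    (hS : IsCoherenceSystem (inducedIrrAbove K ⊥) τ R)
    (hnc : ¬ IsCoherent (inducedIrrAbove K ⊥) {1}ᶜ τ)
    (F B : Subgroup L) [F.Normal] [B.Normal] (hBF : B ≤ F) (hFK : F ≤ K)
    (hnil : Group.IsNilpotent F) (hcomm : ⁅F, F⁆ ≤ B)
    (hbig : 4 * K.index ^ 2 + 1 < B.relIndex F)
    (H₁ : Subgroup L) [H₁.Normal] (hH₁ : H₁ < K)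
    (hcoh : IsCoherent (inducedIrrAbove K H₁) {1}ᶜ τ) :
    H₁.relIndex K ≤ 2 * F.index + 1 := by
  by_contra hlt
  push Not at hlt
  apply hnc
  have hBK : B < K := by
    refine lt_of_le_of_ne (hBF.trans hFK) ?_
    intro h
    have hFB : F ≤ B := by rw [h]; exact hFK
    have : B.relIndex F = 1 := Subgroup.relIndex_eq_one.mpr hFB
    rw [this] at hbig
    omega
  have hcohB : IsCoherent (inducedIrrAbove K B) {1}ᶜ τ := by
    refine Cfsg.Agent.S1519.result K hsolv τ R hS H₁ B F F hH₁ hBK hBF le_rfl hFK ?_ hcoh ?_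
    · intro x hx y hy
      apply hcomm
      have := Subgroup.commutator_mem_commutator hx hy
      rwa [commutatorElement_def] at this
    · rw [Subgroup.relIndex_self, mul_one]
      have h1 : 2 * F.index < H₁.relIndex K - 1 := by omega
      calc 4 * F.index ^ 2 = (2 * F.index) ^ 2 := by ring
        _ < (H₁.relIndex K - 1) ^ 2 := Nat.pow_lt_pow_left h1 (by norm_num)
  have hbotn : ((⊥ : Subgroup L).subgroupOf F).Normal := by
    rw [Subgroup.bot_subgroupOf]; infer_instance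
  have hnilq : Group.IsNilpotent (↥F ⧸ (⊥ : Subgroup L).subgroupOf F) := inferInstance
  exact Cfsg.Agent.S1520.result K hsolv τ R hS ⊥ B F bot_le hBF hFK hnilq hcohB hbig

/-- `S(K')` is coherent: all its members have degree `|L:K|`. -/
theorem coherent_derived (K : Subgroup L) [hK : K.Normal] (hsolv : Group.IsSolvable K)
    (τ : (L → ℂ) → (G → ℂ)) (R : (L → ℂ) → Finset (G → ℂ))
    (hS : IsCoherenceSystem (inducedIrrAbove K ⊥) τ R) (hK' : ⁅K, K⁆ < K) :
    IsCoherent (inducedIrrAbove K ⁅K, K⁆) {1}ᶜ τ := by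
  have hsub : IsCoherenceSystem (inducedIrrAbove K ⁅K, K⁆) τ R := by
    refine Cfsg.Agent.S1521.isCoherenceSystem_subset hS
      (Cfsg.Agent.Lib.Helper25.CohDescent.inducedIrrAbove_subset_bot K _) ?_
      (fun χ hχ => Cfsg.Agent.Lib.Helper25.CohDescent.conj_mem_inducedIrrAbove K _ hχ)
    obtain ⟨χ, hχ, -⟩ := Cfsg.Agent.Lib.Helper25.CohDescent.exists_linear_mem K ⁅K, K⁆ hsolv hK'
    exact ⟨χ, hχ⟩
  refine Cfsg.Agent.S1517.result _ τ R hsub ?_
  intro φ hφ ψ hψ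
  rw [Cfsg.Agent.S1521.apply_one_of_mem_abelian K ⁅K, K⁆ hK'.le le_rfl hφ,
    Cfsg.Agent.S1521.apply_one_of_mem_abelian K ⁅K, K⁆ hK'.le le_rfl hψ]

/-- (11.5), abstract form: `|K:K'| ≤ 2|L:F| + 1`. -/
theorem derived_index_le (K : Subgroup L) [hK : K.Normal] (hsolv : Group.IsSolvable K)
    (τ : (L → ℂ) → (G → ℂ)) (R : (L → ℂ) → Finset (G → ℂ))
    (hS : IsCoherenceSystem (inducedIrrAbove K ⊥) τ R)
    (hnc : ¬ IsCoherent (inducedIrrAbove K ⊥) {1}ᶜ τ)
    (F B : Subgroup L) [F.Normal] [B.Normal] (hBF : B ≤ F) (hFK : F ≤ K)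
    (hnil : Group.IsNilpotent F) (hcomm : ⁅F, F⁆ ≤ B)
    (hbig : 4 * K.index ^ 2 + 1 < B.relIndex F) (hK1 : K ≠ ⊥) :
    (⁅K, K⁆).relIndex K ≤ 2 * F.index + 1 := by
  have hK' : ⁅K, K⁆ < K := by
    refine lt_of_le_of_ne (Subgroup.commutator_le_self K) ?_
    intro h
    -- a solvable group equal to its derived subgroup is trivial
    have hnt : Nontrivial ↥K := (Subgroup.nontrivial_iff_ne_bot K).mpr hK1
    have hlt := Group.IsSolvable.commutator_lt_top_of_nontrivial ↥K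
    have hmap : (commutator ↥K).map K.subtype = ⁅K, K⁆ := by
      rw [commutator_def, Subgroup.map_commutator, ← MonoidHom.range_eq_map, Subgroup.range_subtype]
    apply hlt.ne
    apply Subgroup.map_injective K.subtype_injective
    rw [hmap, h, ← MonoidHom.range_eq_map, Subgroup.range_subtype]
  have : (⁅K, K⁆ : Subgroup L).Normal := inferInstance
  exact index_le_of_coherent K hsolv τ R hS hnc F B hBF hFK hnil hcomm hbig ⁅K, K⁆ hK'
    (coherent_derived K hsolv τ R hS hK')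

/-- the contrapositive of S1521 (Peterfalvi (6.8)): what non-coherence of `S(M)` forces. -/
theorem not_coherent_facts (K : Subgroup L) [hK : K.Normal] (hsolv : Group.IsSolvable K)
    (τ : (L → ℂ) → (G → ℂ)) (R : (L → ℂ) → Finset (G → ℂ))
    (hS : IsCoherenceSystem (inducedIrrAbove K ⊥) τ R) (hodd : Odd (Nat.card L))
    (M : Subgroup L) [M.Normal] (hMK : M ≤ K) [(M.subgroupOf K).Normal]
    (hnil : Group.IsNilpotent (↥K ⧸ M.subgroupOf K)) (hH₁K : ⁅K, K⁆ ⊔ M < K) (hKL : K < ⊤)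
    (hfrob : ∀ k ∈ K, k ∉ ⁅K, K⁆ ⊔ M → ∀ x : L, x * k * x⁻¹ * k⁻¹ ∈ ⁅K, K⁆ ⊔ M → x ∈ K)
    (hnc : ¬ IsCoherent (inducedIrrAbove K M) {1}ᶜ τ) :
    (¬ ∃ N : Subgroup L, N.Normal ∧ ⁅K, K⁆ ⊔ M < N ∧ N < K) ∧
      (⁅K, K⁆ ⊔ M).relIndex K ≤ 4 * K.index ^ 2 + 1 ∧
      (∃ p m : ℕ, p.Prime ∧ M.relIndex K = p ^ m) ∧ ¬ ⁅K, K⁆ ≤ M ∧
      ∀ p m : ℕ, p.Prime → M.relIndex K = p ^ m → ¬ K.index ∣ p - 1 := by
  have key := fun hgood => hnc (Cfsg.Agent.S1521.result K hsolv τ R hS hodd M hMK hnil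
    (⁅K, K⁆ ⊔ M) rfl hH₁K hKL hfrob hgood)
  refine ⟨fun h => key (Or.inl h), ?_, ?_, fun h => key (Or.inr (Or.inr (Or.inr (Or.inl h)))), ?_⟩
  · by_contra h
    push Not at h
    exact key (Or.inr (Or.inl h))
  · by_contra h
    exact key (Or.inr (Or.inr (Or.inl h)))
  · intro p m hp hpm hdvd
    exact key (Or.inr (Or.inr (Or.inr (Or.inr ⟨p, m, hp, hpm, hdvd⟩))))

end Cfsg.Agent.Lib.Helper64.PF11
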