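import Mathlib
import Cfsg.Agent.Lib.Helper4.PFNineA
import Cfsg.Agent.Lib.Helper4.PFTypes
import Cfsg.Agent.Lib.Helper64.PFElevenCoh
import Cfsg.Agent.Lib.Helper50.PFElevenE3g

set_option autoImplicit false

/-!
PROJECT PF, Peterfalvi section 11: assembly (E3) = (E2) + `coherent_derived` + (E3g), i.e. Peterfalvi
(11.5)/(11.6): for `M` of type P with `U ≠ 1`, `|W₁| = q` prime, `|M|` odd, if
`|H : H'| > 4 q² + 1` and the set of characters induced from `M'` is not coherent then
`[H, U] = H`, `C_U(H) = U'`, `C_H(U) ≤ H'` and `M'' = H C_U(H)`.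

The module (E2) (Peterfalvi (11.4)) enters as the explicit hypothesis `hE2`.
-/

namespace Cfsg.Agent.Lib.Helper64.PF11

open Cfsg Cfsg.Agent.Lib.Helper4.PF9

/-- `C = C_U(H)` -/
abbrev CU {G : Type*} [Group G] (M U : Subgroup G) : Subgroup G :=
  U ⊓ Subgroup.centralizer (fittingHallOf M : Set G)

/-- `M'` as a subgroup of `↥M` -/
abbrev derM {G : Type*} [Group G] (M : Subgroup G) : Subgroup ↥M := (⁅M, M⁆).subgroupOf M

/-- An extension `K = H U` of a solvable normal subgroup `H` by a solvable subgroup `U` is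
solvable. -/
theorem isSolvable_of_isComplIn {G : Type*} [Group G] {H U K : Subgroup G} (hc : IsComplIn H U K)
    (hKH : K ≤ Subgroup.normalizer (H : Set G)) (hH : Group.IsSolvable ↥H)
    (hU : Group.IsSolvable ↥U) : Group.IsSolvable ↥K := by
  obtain ⟨hHK, hUK, -, hprod⟩ := hc
  have hn : (H.subgroupOf K).Normal := (Subgroup.normal_subgroupOf_iff_le_normalizer hHK).2 hKH
  let g : ↥K →* ↥K ⧸ H.subgroupOf K := QuotientGroup.mk' (H.subgroupOf K)
  let f : ↥H →* ↥K := Subgroup.inclusion hHK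
  have hq : Group.IsSolvable (↥K ⧸ H.subgroupOf K) := by
    let φ : ↥U →* ↥K ⧸ H.subgroupOf K := g.comp (Subgroup.inclusion hUK)
    have hφ : Function.Surjective φ := by
      intro x
      obtain ⟨k, rfl⟩ := QuotientGroup.mk'_surjective (H.subgroupOf K) x
      obtain ⟨a, ha, b, hb, hk⟩ := hprod k k.2
      refine ⟨⟨b, hb⟩, ?_⟩
      change (QuotientGroup.mk' (H.subgroupOf K)) (Subgroup.inclusion hUK ⟨b, hb⟩) =
        (QuotientGroup.mk' (H.subgroupOf K)) k
      rw [QuotientGroup.mk'_eq_mk']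
      refine ⟨⟨b, hUK hb⟩⁻¹ * k, ?_, ?_⟩
      · rw [Subgroup.mem_subgroupOf]
        change b⁻¹ * (k : G) ∈ H
        rw [hk]
        have hb' : b⁻¹ ∈ Subgroup.normalizer (H : Set G) := hKH (K.inv_mem (hUK hb))
        have := (Subgroup.mem_normalizer_iff.1 hb' a).1 ha
        simpa [mul_assoc] using this
      · apply Subtype.ext
        simp
    exact Group.isSolvable_of_surjective hφ
  have hker : g.ker ≤ f.range := by
    intro k hk
    rw [QuotientGroup.ker_mk', Subgroup.mem_subgroupOf] at hk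
    exact ⟨⟨k, hk⟩, rfl⟩
  exact Group.isSolvable_of_ker_le_range f g hker

section
variable {G : Type*} [Group G] [Finite G] {M W₁ U W₂ : Subgroup G}

/-- `M'` is solvable for `M` of type P. -/
theorem isSolvable_derM (hP : IsTypePWith M W₁ U W₂) : Group.IsSolvable ↥(derM M) := by
  have hHM : fittingHallOf M ≤ M := fittingHallOf_le M
  have hKM : ⁅M, M⁆ ≤ M := Subgroup.commutator_le_self M
  have hMH : M ≤ Subgroup.normalizer (fittingHallOf M : Set G) :=
    Cfsg.Agent.Lib.Helper50.PF11.le_normalizer_of_conj_mem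
      (fun m hm h hh => conj_mem_fittingHallOf M hm hh)
  have hK : Group.IsSolvable ↥⁅M, M⁆ :=
    isSolvable_of_isComplIn hP.U_compl (hKM.trans hMH) (H_isSolvable M)
      (let _ := hP.U_nilpotent; inferInstance)
  exact Group.isSolvable_of_isSolvable_injective
    (f := (Subgroup.subgroupOfEquivOfLe hKM).toMonoidHom) (Subgroup.subgroupOfEquivOfLe hKM).injective

end

section
variable {G : Type*} [Group G] [Fintype G] {M W₁ U W₂ : Subgroup G} [Fintype M]

/-- **Peterfalvi (11.5)/(11.6)**, assembled from the module (E2) = (11.4) given as the hypothesis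
`hE2`, the abstract coherence step `coherent_derived` and the group-theoretic module (E3g). -/
theorem typeIII_IV_facts_of_E2 (hP : IsTypePWith M W₁ U W₂) (hU : U ≠ ⊥)
    (hq : (Nat.card W₁).Prime) (hodd : Odd (Nat.card M))
    (τ : (↥M → ℂ) → (G → ℂ)) (R : (↥M → ℂ) → Finset (G → ℂ))
    (hS : IsCoherenceSystem (inducedIrrAbove (derM M) ⊥) τ R)
    (hE2 : ∀ (H₁ : Subgroup ↥M) [H₁.Normal], H₁ < derM M →
      IsCoherent (inducedIrrAbove (derM M) H₁) {1}ᶜ τ →
      H₁.relIndex (derM M) ≤ 2 * Nat.card W₁ * (CU M U).relIndex U + 1) :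
    ⁅fittingHallOf M, U⁆ = fittingHallOf M ∧ CU M U = ⁅U, U⁆ ∧
      fittingHallOf M ⊓ Subgroup.centralizer (U : Set G) ≤ ⁅fittingHallOf M, fittingHallOf M⁆ ∧
      ⁅⁅M, M⁆, ⁅M, M⁆⁆ = fittingHallOf M ⊔ CU M U := by
  have hKM : ⁅M, M⁆ ≤ M := Subgroup.commutator_le_self M
  have hsolv : Group.IsSolvable ↥(derM M) := isSolvable_derM hP
  have hn : (derM M).Normal :=
    (Subgroup.normal_subgroupOf_iff_le_normalizer hKM).2 (Subgroup.normalizer_commutator_ge_left M M)
  -- `M' ≠ 1`
  have hK1 : derM M ≠ ⊥ := by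
    intro h
    apply hU
    rw [eq_bot_iff]
    intro u hu
    have huK : u ∈ ⁅M, M⁆ := hP.U_compl.2.1 hu
    have : (⟨u, hKM huK⟩ : ↥M) ∈ derM M := by
      rw [Subgroup.mem_subgroupOf]; exact huK
    rw [h, Subgroup.mem_bot] at this
    rw [Subgroup.mem_bot]
    exact congrArg Subtype.val this
  have hK' : ⁅derM M, derM M⁆ < derM M := by
    refine lt_of_le_of_ne (Subgroup.commutator_le_self _) ?_
    intro h
    have hnt : Nontrivial ↥(derM M) := (Subgroup.nontrivial_iff_ne_bot _).mpr hK1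
    have hlt := Group.IsSolvable.commutator_lt_top_of_nontrivial ↥(derM M)
    have hmap : (commutator ↥(derM M)).map (derM M).subtype = ⁅derM M, derM M⁆ := by
      rw [commutator_def, Subgroup.map_commutator, ← MonoidHom.range_eq_map, Subgroup.range_subtype]
    apply hlt.ne
    apply Subgroup.map_injective (derM M).subtype_injective
    rw [hmap, h, ← MonoidHom.range_eq_map, Subgroup.range_subtype]
  have hcoh := coherent_derived (derM M) hsolv τ R hS hK'
  have hle := hE2 ⁅derM M, derM M⁆ hK' hcoh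
  -- identification of the index
  have hid : ⁅derM M, derM M⁆ = (⁅⁅M, M⁆, ⁅M, M⁆⁆).subgroupOf M := by
    apply Subgroup.map_injective M.subtype_injective
    rw [Subgroup.map_commutator, Subgroup.map_subgroupOf_eq_of_le hKM,
      Subgroup.map_subgroupOf_eq_of_le ((Subgroup.commutator_le_self _).trans hKM)]
  rw [hid, Subgroup.relIndex_subgroupOf hKM] at hle
  exact Cfsg.Agent.Lib.Helper50.PF11.typeIII_IV_facts_of_index hP hU hq hodd hle

end

end Cfsg.Agent.Lib.Helper64.PF11
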