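import Mathlib
import Cfsg.Agent.Lib.Helper64.PFElevenE3
import Cfsg.Agent.Lib.Helper97.PFElevenE2

set_option autoImplicit false

/-!
PROJECT PF, Peterfalvi section 11: final form of (E3) = Peterfalvi (11.5)/(11.6), obtained by
feeding the module (E2) (`Cfsg.Agent.Lib.Helper97.PF11.bounded_proper_coherent`, Peterfalvi
(11.4)) into `typeIII_IV_facts_of_E2`.
-/

namespace Cfsg.Agent.Lib.Helper64.PF11

open Cfsg Cfsg.Agent.Lib.Helper4.PF9

variable {G : Type*} [Group G] [Fintype G] {M W₁ U W₂ : Subgroup G} [Fintype M]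

/-- **Peterfalvi (11.5)/(11.6)**: for `M` of type P with `U ≠ 1`, `|W₁| = q` prime and `|M|` odd,
if `|H : H'| > 4 q² + 1` (`H = M_F`) and the set of characters of `M` induced from the
non-principal irreducible characters of `M'` is not coherent, then `[H, U] = H`,
`C_U(H) = U'`, `C_H(U) ≤ H'` and `M'' = H C_U(H)`. -/
theorem typeIII_IV_facts (hP : IsTypePWith M W₁ U W₂) (hU : U ≠ ⊥)
    (hq : (Nat.card W₁).Prime) (hodd : Odd (Nat.card M))
    (hbig : 4 * Nat.card W₁ ^ 2 + 1 <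
      (⁅fittingHallOf M, fittingHallOf M⁆).relIndex (fittingHallOf M))
    (τ : (↥M → ℂ) → (G → ℂ)) (R : (↥M → ℂ) → Finset (G → ℂ))
    (hS : IsCoherenceSystem (inducedIrrAbove (derM M) ⊥) τ R)
    (hnc : ¬ IsCoherent (inducedIrrAbove (derM M) ⊥) {1}ᶜ τ) :
    ⁅fittingHallOf M, U⁆ = fittingHallOf M ∧ CU M U = ⁅U, U⁆ ∧
      fittingHallOf M ⊓ Subgroup.centralizer (U : Set G) ≤ ⁅fittingHallOf M, fittingHallOf M⁆ ∧
      ⁅⁅M, M⁆, ⁅M, M⁆⁆ = fittingHallOf M ⊔ CU M U :=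
  typeIII_IV_facts_of_E2 hP hU hq hodd τ R hS
    (fun H₁ _ h1 h2 =>
      Cfsg.Agent.Lib.Helper97.PF11.bounded_proper_coherent hP hU hq hodd hbig τ R hS hnc H₁ h1 h2)

end Cfsg.Agent.Lib.Helper64.PF11
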