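import Mathlib
import Cfsg.Agent.Lib.Helper64.PFElevenDefs
import Cfsg.Agent.Lib.Helper64.PFElevenE3b
import Cfsg.Agent.Lib.Helper58.PFNineDefs

/-!
# PROJECT PF, Peterfalvi section 11 (end game): the group-side record `Struct34` (helper64)

`Struct34 M W₁ U W₂` = the conclusions of Peterfalvi (11.5)-(11.7) (my `typeIII_IV_facts` + helper12's
`fittingHall_abelian_of_facts`) for a maximal subgroup of Type III or IV whose `calS` is not coherent.
`Ctx34 M W₁ U W₂` = helper58's section-9 context for the group `↥M` with `H₀ = 1`.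
Module sheet: `Cfsg/Agent/Lib/Helper64/PF11_MODULES2.md`.
-/

set_option autoImplicit false

namespace Cfsg.Agent.Lib.Helper64.PF11

open Cfsg Cfsg.Agent.Lib.Helper24.PFCyc Cfsg.Agent.Lib.Helper4.PF Cfsg.Agent.Lib.Helper58.PF9

universe u

variable {G : Type u} [Group G]

/-- The group-theoretic facts of Peterfalvi (11.5)-(11.7) for `M` of Type III or IV
(`H = M_F`, `C = C_U(H) = CU M U`). -/
structure Struct34 [Finite G] (M W₁ U W₂ : Subgroup G) : Prop where
  hP : IsTypePWith M W₁ U W₂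
  hU : U ≠ ⊥
  hq : (Nat.card W₁).Prime
  hp : (Nat.card W₂).Prime
  hodd : Odd (Nat.card G)
  hHU : ⁅fittingHallOf M, U⁆ = fittingHallOf M
  hCU : CU M U = ⁅U, U⁆
  hK2 : ⁅⁅M, M⁆, ⁅M, M⁆⁆ = fittingHallOf M ⊔ CU M U
  hHab : ⁅fittingHallOf M, fittingHallOf M⁆ = ⊥
  hCH : fittingHallOf M ⊓ Subgroup.centralizer (U : Set G) = ⊥
  hHcard : Nat.card (fittingHallOf M) = Nat.card W₂ ^ Nat.card W₁
  hHel : IsElementaryAbelian (Nat.card W₂) (fittingHallOf M)

/-- the sec.9 context of `↥M` with `H₀ = 1` -/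
abbrev Ctx34 [Finite G] (M W₁ U W₂ : Subgroup G) : Prop :=
  Ctx (derK M) ((fittingHallOf M).subgroupOf M) (U.subgroupOf M) (W₁.subgroupOf M)
    (W₂.subgroupOf M) (⊥ : Subgroup ↥M) (Nat.card W₂) (Nat.card W₁)

end Cfsg.Agent.Lib.Helper64.PF11
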