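import Mathlib
import Cfsg.Prelude.Def_LieExceptional
import Cfsg.Agent.Lib.Helper59.Zassenhaus
import Cfsg.Agent.Lib.Helper59.ZassKernel

/-!
# The Frobenius structure of a point stabiliser of a Zassenhaus group (helper64)
-/

set_option autoImplicit false
set_option linter.unusedSectionVars false

namespace Cfsg.Agent.Lib.Helper64

open MulAction Cfsg.Agent.Lib.Helper59

section

variable {G Ω : Type*} [Group G] [Finite G] [MulAction G Ω] [Fintype Ω]
  (hZ : Cfsg.IsZassenhausGroup G Ω) {a b : Ω} (hab : a ≠ b)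
  (H : Subgroup G) (hHa : H ≤ stabilizer G a) (hHcard : Nat.card H + 1 = Fintype.card Ω)
  (hHfix : ∀ u ∈ H, u ≠ 1 → ∀ c : Ω, u • c = c → c = a)

include hZ hHa hHcard hHfix

/-- an element of the point stabiliser outside the kernel fixes a second point -/
theorem zass_exists_fixed_of_not_mem {x : G} (hxa : x • a = a) (hxH : x ∉ H) :
    x ≠ 1 ∧ ∃ c : Ω, c ≠ a ∧ x • c = c := by
  have hk := eq_zassKernel hZ a H hHa (by rw [Nat.card_eq_fintype_card (α := Ω)]; exact hHcard) hHfix
  have hx : x ∉ zassKernel G a := by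
    rw [← hk]; exact hxH
  have hx' : ¬ (x • a = a ∧ (x = 1 ∨ ∀ c : Ω, x • c = c → c = a)) := hx
  push Not at hx'
  obtain ⟨h1, c, hc, hca⟩ := hx' hxa
  exact ⟨h1, c, hca, hc⟩

/-- the kernel contains the centralisers of its non-identity elements -/
theorem zass_centralizer_le :
    ∀ k ∈ H, k ≠ 1 → Subgroup.centralizer ({k} : Set G) ≤ H := by
  intro k hk hk1 g hg
  rw [Subgroup.mem_centralizer_singleton_iff] at hg
  have hka : k • a = a := hHa hk
  have hga : g • a = a := by
    apply hHfix k hk hk1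
    rw [← mul_smul, ← hg, mul_smul, hka]
  by_contra hgH
  obtain ⟨hg1, c, hca, hgc⟩ := zass_exists_fixed_of_not_mem hZ H hHa hHcard hHfix hga hgH
  have hkc : k • c ≠ c := fun h => hca (hHfix k hk hk1 c h)
  have hkca : k • c ≠ a := by
    intro h
    apply hca
    have : k • c = k • a := by rw [h, hka]
    exact smul_left_cancel k this
  have hgkc : g • (k • c) = k • c := by
    rw [← mul_smul, hg, mul_smul, hgc]
  exact hg1 (zass_three hZ g a c (k • c) (Ne.symm hca) (Ne.symm hkc) (Ne.symm hkca) hga hgc hgkc)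

/-- an element of the point stabiliser outside the kernel is conjugate in the point stabiliser
into the two-point stabiliser -/
theorem zass_conj_into_stab2 (hab : a ≠ b) {x : G} (hxa : x • a = a) (hxH : x ∉ H) :
    ∃ n : G, n • a = a ∧ n * x * n⁻¹ ∈ stabilizer G a ⊓ stabilizer G b := by
  obtain ⟨-, c, hca, hxc⟩ := zass_exists_fixed_of_not_mem hZ H hHa hHcard hHfix hxa hxH
  obtain ⟨n, hna, hnc⟩ := zass_two_trans hZ a c a b (Ne.symm hca) hab
  refine ⟨n, hna, mem_stab2.2 ⟨?_, ?_⟩⟩
  · rw [mul_smul, mul_smul, inv_smul_eq_iff.mpr hna.symm, hxa, hna]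
  · rw [mul_smul, mul_smul, inv_smul_eq_iff.mpr hnc.symm, hxc, hnc]

/-- the kernel is transitive on the other points -/
theorem zass_kernel_trans (hab : a ≠ b) {c : Ω} (hca : c ≠ a) : ∃ u ∈ H, u • b = c := by
  classical
  let f : H → {c : Ω // c ≠ a} := fun u => ⟨(u : G) • b, by
    intro h
    apply hab
    have hua : (u : G) • a = a := hHa u.2
    have : (u : G) • b = (u : G) • a := by rw [h, hua]
    exact (smul_left_cancel _ this).symm⟩
  have hinj : Function.Injective f := by
    intro u v huv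
    have h1 : (u : G) • b = (v : G) • b := congrArg Subtype.val huv
    by_contra hne
    have hw : (v : G)⁻¹ * (u : G) ∈ H := H.mul_mem (H.inv_mem v.2) u.2
    have hw1 : (v : G)⁻¹ * (u : G) ≠ 1 := by
      intro h
      apply hne
      apply Subtype.ext
      have := congrArg (fun z => (v : G) * z) h
      simpa using this
    have hwb : ((v : G)⁻¹ * (u : G)) • b = b := by
      rw [mul_smul, h1, inv_smul_smul]
    exact hab (hHfix _ hw hw1 b hwb).symm
  have hcard : Nat.card {c : Ω // c ≠ a} = Nat.card H := by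
    have h1 : Nat.card {c : Ω // c ≠ a} = Fintype.card Ω - 1 := by
      rw [Nat.card_eq_fintype_card, Fintype.card_subtype_compl, Fintype.card_subtype_eq]
    omega
  have hbij : Function.Bijective f :=
    (Nat.bijective_iff_injective_and_card f).2 ⟨hinj, hcard.symm⟩
  obtain ⟨u, hu⟩ := hbij.2 ⟨c, hca⟩
  exact ⟨u, u.2, congrArg Subtype.val hu⟩

/-- the point stabiliser is the product of the kernel and the two-point stabiliser -/
theorem zass_exists_kernel_mul (hab : a ≠ b) {x : G} (hxa : x • a = a) :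
    ∃ u ∈ H, u⁻¹ * x ∈ stabilizer G a ⊓ stabilizer G b := by
  have hxb : x • b ≠ a := by
    intro h
    apply hab
    have : x • b = x • a := by rw [h, hxa]
    exact (smul_left_cancel x this).symm
  obtain ⟨u, hu, hub⟩ := zass_kernel_trans hZ H hHa hHcard hHfix hab hxb
  refine ⟨u, hu, mem_stab2.2 ⟨?_, ?_⟩⟩
  · rw [mul_smul, hxa, inv_smul_eq_iff, hHa hu]
  · rw [mul_smul, ← hub, inv_smul_smul]

end

end Cfsg.Agent.Lib.Helper64
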