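import Mathlib
import Cfsg.Prelude.Def_LieExceptional
import Cfsg.Prelude.Def_Blocks
import Cfsg.Agent.Lib.Helper59.Zassenhaus
import Cfsg.Agent.Lib.Helper25.ZassInv
import Cfsg.Agent.Lib.Helper64.ZassSetup
import Cfsg.Agent.S0739
import Cfsg.Agent.S4768

/-!
# Simple Zassenhaus groups with odd two-point stabiliser: structure facts (helper64)
-/

set_option autoImplicit false
set_option linter.unusedSectionVars false

namespace Cfsg.Agent.Lib.Helper64

open MulAction Cfsg Cfsg.Agent.Lib.Helper59

section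

variable {G Ω : Type*} [Group G] [Finite G] [MulAction G Ω] [Fintype Ω]
  (hZ : Cfsg.IsZassenhausGroup G Ω) {a b : Ω} (hab : a ≠ b)

include hZ hab

/-- a simple Zassenhaus group has no normal `q`-complement -/
theorem zass_simple_no_complement [IsSimpleGroup G] :
    ∀ q : ℕ, q.Prime →
      q ∣ Nat.card ↥(stabilizer G a ⊓ stabilizer G b : Subgroup G) →
      ¬ ∃ N : Subgroup G, N.Normal ∧ N.index = q ^ (Nat.card G).factorization q := by
  have h2 : ∀ a b c d : Ω, a ≠ b → c ≠ d → ∃ g : G, g • a = c ∧ g • b = d :=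
    fun a b c d hab hcd => zass_two_trans hZ a b c d hab hcd
  have hG := Cfsg.Agent.Lib.Helper25.ZassInv.card_group_eq h2 hab
  have hΩ : 2 ≤ Fintype.card Ω := by
    by_contra hcon
    have h1 : Fintype.card Ω ≤ 1 := by omega
    exact hab (Fintype.card_le_one_iff.1 h1 a b)
  rintro q hq hqe ⟨N, hN, hidx⟩
  rcases hN.eq_bot_or_eq_top with rfl | rfl
  · rw [Subgroup.index_bot, hG] at hidx
    set n := Fintype.card Ω with hn
    set e := Nat.card ↥(stabilizer G a ⊓ stabilizer G b : Subgroup G) with he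
    have hpos : 0 < e := Nat.card_pos
    -- a third point
    obtain ⟨x, hx1, hxa, hxb⟩ := zass_stab2_ne_bot hZ hab
    have hn3 : 3 ≤ n := by
      by_contra hcon
      have hn2 : n = 2 := by omega
      -- `x` fixes every point
      have hall : ∀ c : Ω, c = a ∨ c = b := by
        intro c
        by_contra hc
        push Not at hc
        have : 2 < Fintype.card Ω := by
          rw [Fintype.two_lt_card_iff]
          exact ⟨a, b, c, hab, Ne.symm hc.1, Ne.symm hc.2⟩
        omega
      apply hx1
      apply hZ.1.eq_of_smul_eq_smul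
      intro c
      rcases hall c with rfl | rfl
      · rw [hxa, one_smul]
      · rw [hxb, one_smul]
    have hd1 : (n - 1) ∣ q ^ (n * (n - 1) * e).factorization q := by
      rw [← hidx]; exact Dvd.dvd.mul_right (Dvd.intro_left _ rfl) _
    have hd2 : n ∣ q ^ (n * (n - 1) * e).factorization q := by
      rw [← hidx]; exact Dvd.dvd.mul_right (Dvd.intro _ rfl) _
    obtain ⟨k1, -, hk1⟩ := (Nat.dvd_prime_pow hq).mp hd1
    obtain ⟨k2, -, hk2⟩ := (Nat.dvd_prime_pow hq).mp hd2
    have hq1 : q ∣ n - 1 := by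
      rw [hk1]
      apply dvd_pow_self
      intro h0
      rw [h0, pow_zero] at hk1
      omega
    have hq2 : q ∣ n := by
      rw [hk2]
      apply dvd_pow_self
      intro h0
      rw [h0, pow_zero] at hk2
      omega
    have : q ∣ 1 := by
      have h3 : n = (n - 1) + 1 := by omega
      rw [h3] at hq2
      exact (Nat.dvd_add_right hq1).mp hq2
    exact hq.one_lt.ne' (Nat.dvd_one.mp this)
  · rw [Subgroup.index_top] at hidx
    have hv : (Nat.card G).factorization q = 0 := by
      by_contra hv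
      have : 1 < q ^ (Nat.card G).factorization q := Nat.one_lt_pow hv hq.one_lt
      omega
    have hqG : q ∣ Nat.card G := hqe.trans (Subgroup.card_subgroup_dvd_card _)
    rcases (Nat.factorization_eq_zero_iff _ _).mp hv with h' | h' | h'
    · exact h' hq
    · exact h' hqG
    · exact Nat.card_pos.ne' h'

/-- in a simple Zassenhaus group with odd two-point stabiliser `E`, `E` is commutative and
inverted by every element swapping the two points -/
theorem zass_simple_stab2 [IsSimpleGroup G]
    (hodd : Odd (Nat.card ↥(stabilizer G a ⊓ stabilizer G b : Subgroup G))) :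
    (∀ x ∈ stabilizer G a ⊓ stabilizer G b, ∀ y ∈ stabilizer G a ⊓ stabilizer G b,
      x * y = y * x) ∧
    ∀ s : G, s • a = b → s • b = a → ∀ y ∈ stabilizer G a ⊓ stabilizer G b,
      s * y * s⁻¹ = y⁻¹ := by
  obtain ⟨hcyc, -, hinv⟩ := Cfsg.Agent.S0739.result hZ hab hodd (zass_simple_no_complement hZ hab)
  refine ⟨?_, hinv⟩
  intro x hx y hy
  have := hcyc
  have hc : ∀ p q : ↥(stabilizer G a ⊓ stabilizer G b : Subgroup G), p * q = q * p := by
    intro p q
    exact (IsCyclic.commGroup).mul_comm p q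
  have := hc ⟨x, hx⟩ ⟨y, hy⟩
  exact congrArg Subtype.val this

end

section quot

variable {G Ω : Type*} [Group G] [Finite G] [MulAction G Ω] [Fintype Ω]
  (hZ : Cfsg.IsZassenhausGroup G Ω) {a b : Ω} (hab : a ≠ b)
  (H : Subgroup G) (hHa : H ≤ stabilizer G a) (hHcard : Nat.card H + 1 = Fintype.card Ω)
  (hHfix : ∀ u ∈ H, u ≠ 1 → ∀ c : Ω, u • c = c → c = a)

include hZ hab hHa hHcard hHfix

/-- the kernel is normal in the point stabiliser -/
theorem zass_kernel_normal : (H.subgroupOf (stabilizer G a)).Normal := by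
  have hk := eq_zassKernel hZ a H hHa (by rw [Nat.card_eq_fintype_card (α := Ω)]; exact hHcard)
    hHfix
  refine ⟨fun n hn g => ?_⟩
  rw [Subgroup.mem_subgroupOf] at hn ⊢
  have h1 : (n : G) ∈ zassKernel G a := by rw [← hk]; exact hn
  have h2 := conj_mem_zassKernel h1 (mem_stabilizer_iff.1 g.2)
  have h3 : (g : G) * (n : G) * (g : G)⁻¹ ∈ (H : Set G) := by rw [hk]; exact h2
  exact h3

/-- the index of the kernel in the point stabiliser is the order of the two-point stabiliser -/
theorem zass_index_kernel :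
    (H.subgroupOf (stabilizer G a)).index =
      Nat.card ↥(stabilizer G a ⊓ stabilizer G b : Subgroup G) := by
  have h2 : ∀ a b c d : Ω, a ≠ b → c ≠ d → ∃ g : G, g • a = c ∧ g • b = d :=
    fun a b c d hab hcd => zass_two_trans hZ a b c d hab hcd
  have hG := Cfsg.Agent.Lib.Helper25.ZassInv.card_group_eq h2 hab
  have htr : IsPretransitive G Ω := by
    refine ⟨fun c d => ?_⟩
    by_cases hcd : c = d
    · exact ⟨1, by rw [one_smul, hcd]⟩
    · obtain ⟨g, hg, -⟩ := h2 c d d c hcd (Ne.symm hcd)
      exact ⟨g, hg⟩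
  have h1 : Nat.card (stabilizer G a) * Fintype.card Ω = Nat.card G := by
    rw [← (stabilizer G a).card_mul_index, MulAction.index_stabilizer,
      MulAction.orbit_eq_univ, Set.ncard_univ, Nat.card_eq_fintype_card (α := Ω)]
  set H' := H.subgroupOf (stabilizer G a) with hH'
  have h3 : Nat.card H' * H'.index = Nat.card (stabilizer G a) := H'.card_mul_index
  have h4 : Nat.card H' = Nat.card H :=
    Nat.card_congr (Subgroup.subgroupOfEquivOfLe hHa).toEquiv
  set n := Fintype.card Ω with hn
  set e := Nat.card ↥(stabilizer G a ⊓ stabilizer G b : Subgroup G) with he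
  have hn1 : 0 < n - 1 := by
    have : 0 < Nat.card H := Nat.card_pos
    omega
  have h5 : Nat.card H = n - 1 := by omega
  rw [h4, h5] at h3
  rw [← h3, hG] at h1
  have h6 : n * ((n - 1) * H'.index) = n * ((n - 1) * e) := by
    rw [mul_comm n, h1]; ring
  have hn0 : 0 < n := by omega
  have h7 := Nat.eq_of_mul_eq_mul_left hn0 h6
  exact Nat.eq_of_mul_eq_mul_left hn1 h7

/-- irreducible characters of the point stabiliser trivial on the kernel are linear, when the
two-point stabiliser is commutative -/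
theorem zass_linear_of_trivial_on_kernel
    (hcomm : ∀ x ∈ stabilizer G a ⊓ stabilizer G b, ∀ y ∈ stabilizer G a ⊓ stabilizer G b,
      x * y = y * x)
    {ψ : stabilizer G a → ℂ} (hψ : IsIrrCharacter (stabilizer G a) ψ)
    (hψH : ∀ k ∈ H.subgroupOf (stabilizer G a), ψ k = ψ 1) : charDegree ψ = 1 := by
  have := zass_kernel_normal hZ hab H hHa hHcard hHfix
  set H' := H.subgroupOf (stabilizer G a) with hH'
  have hrep : ∀ x : stabilizer G a, ∃ p : stabilizer G a,
      (p : G) ∈ stabilizer G a ⊓ stabilizer G b ∧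
      QuotientGroup.mk' H' x = QuotientGroup.mk' H' p := by
    intro x
    obtain ⟨u, hu, hux⟩ := zass_exists_kernel_mul hZ H hHa hHcard hHfix hab
      (mem_stabilizer_iff.1 x.2)
    refine ⟨⟨u⁻¹ * x, (mem_stab2.1 hux).1⟩, hux, ?_⟩
    rw [QuotientGroup.mk'_apply, QuotientGroup.mk'_apply, QuotientGroup.eq]
    rw [Subgroup.mem_subgroupOf]
    have : ((x⁻¹ * ⟨u⁻¹ * x, (mem_stab2.1 hux).1⟩ : stabilizer G a) : G) =
        (x : G)⁻¹ * u⁻¹ * (x : G) := by
      simp [mul_assoc]
    rw [this]
    have hn := (zass_kernel_normal hZ hab H hHa hHcard hHfix).conj_mem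
      ⟨u⁻¹, hHa (H.inv_mem hu)⟩ (Subgroup.mem_subgroupOf.2 (H.inv_mem hu)) x⁻¹
    rw [Subgroup.mem_subgroupOf] at hn
    simpa using hn
  apply Cfsg.Agent.S4768.degree_eq_one_of_comm_image (QuotientGroup.mk' H')
    (QuotientGroup.mk'_surjective H') ?_ hψ ?_
  · intro A B
    obtain ⟨x, rfl⟩ := QuotientGroup.mk'_surjective H' A
    obtain ⟨y, rfl⟩ := QuotientGroup.mk'_surjective H' B
    obtain ⟨p, hp, hxp⟩ := hrep x
    obtain ⟨q, hq, hyq⟩ := hrep y
    rw [hxp, hyq, ← map_mul, ← map_mul]
    congr 1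
    apply Subtype.ext
    exact hcomm _ hp _ hq
  · intro k hk
    apply hψH
    rw [QuotientGroup.mk'_apply, QuotientGroup.eq_one_iff] at hk
    exact hk

end quot

end Cfsg.Agent.Lib.Helper64
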