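import Mathlib
import Cfsg.Prelude.Def_LieExceptional
import Cfsg.Prelude.Def_Blocks
import Cfsg.Agent.Lib.Helper64.ZassSetup
import Cfsg.Agent.Lib.Helper64.ZassChar
import Cfsg.Agent.Lib.Helper75.Clifford
import Cfsg.Agent.Lib.Helper77.Linear
import Cfsg.Agent.S0881

/-!
# Characters induced from linear characters of the point stabiliser of a simple Zassenhaus
group with odd two-point stabiliser (helper64)
-/

set_option autoImplicit false
set_option linter.unusedSectionVars false

namespace Cfsg.Agent.Lib.Helper64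

open MulAction Cfsg Cfsg.Agent.Lib.Helper59
open scoped ComplexConjugate

section general

variable {G : Type*} [Group G] [Fintype G]

/-- an induced function vanishes at elements with no conjugate in the subgroup -/
theorem indFun_eq_zero_of_forall_not_mem (N : Subgroup G) (μ : N → ℂ) {g : G}
    (hg : ∀ x : G, x⁻¹ * g * x ∉ N) : indFun N μ g = 0 := by
  unfold indFun
  rw [Finset.sum_eq_zero, mul_zero]
  intro x _
  exact Cfsg.Agent.Lib.Helper25.extendByZero_not_mem N μ (hg x)

/-- inducing the complex conjugate of a linear character -/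
theorem indFun_conj_linear (N : Subgroup G) (μ : N → ℂ)
    (h : Cfsg.Agent.S0881.IsLin N (extendByZero N μ)) (g : G) :
    indFun N (fun n => conj (μ n)) g = indFun N μ g⁻¹ := by
  unfold indFun
  congr 1
  apply Finset.sum_congr rfl
  intro x _
  have e1 : x⁻¹ * g⁻¹ * x = (x⁻¹ * g * x)⁻¹ := by group
  by_cases hx : x⁻¹ * g * x ∈ N
  · have hx' : x⁻¹ * g⁻¹ * x ∈ N := by rw [e1]; exact N.inv_mem hx
    rw [Cfsg.Agent.Lib.Helper25.extendByZero_mem N _ hx]
    have h1 := h.norm _ hx
    have h2 := h.mul_inv hx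
    rw [← e1] at h2
    rw [Cfsg.Agent.Lib.Helper25.extendByZero_mem N μ hx] at h1 h2
    have hne : μ ⟨x⁻¹ * g * x, hx⟩ ≠ 0 := by
      intro h0
      rw [h0, zero_mul] at h1
      exact zero_ne_one h1
    exact mul_left_cancel₀ hne (h1.trans h2.symm)
  · have hx' : x⁻¹ * g⁻¹ * x ∉ N := by
      intro h3
      apply hx
      have := N.inv_mem h3
      rw [e1, inv_inv] at this
      exact this
    rw [Cfsg.Agent.Lib.Helper25.extendByZero_not_mem N _ hx,
      Cfsg.Agent.Lib.Helper25.extendByZero_not_mem N μ hx']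

end general

section zass

variable {G Ω : Type*} [Group G] [Fintype G] [MulAction G Ω] [Fintype Ω]
  (hZ : Cfsg.IsZassenhausGroup G Ω) {a b : Ω} (hab : a ≠ b) [IsSimpleGroup G]
  (hodd : Odd (Nat.card ↥(stabilizer G a ⊓ stabilizer G b : Subgroup G)))
  (hlt : Nat.card ↥(stabilizer G a ⊓ stabilizer G b : Subgroup G) < Fintype.card Ω - 2)
  (H : Subgroup G) (hHa : H ≤ stabilizer G a) (hHcard : Nat.card H + 1 = Fintype.card Ω)
  (hHfix : ∀ u ∈ H, u ≠ 1 → ∀ c : Ω, u • c = c → c = a)
  (μ : stabilizer G a → ℂ) (hμ : IsCharacter (stabilizer G a) μ ∧ μ 1 = 1)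
  (hμH : ∀ u : stabilizer G a, (u : G) ∈ H → μ u = 1) (hμne : μ ≠ fun _ => 1)

include hZ hab hodd hlt hHa hHcard hHfix hμ hμH hμne

/-- the induced character takes the same value at an element and its inverse -/
theorem zass_indFun_inv (g : G) :
    indFun (stabilizer G a) μ g⁻¹ = indFun (stabilizer G a) μ g := by
  have hcf := Cfsg.Agent.Lib.Helper75.isClassFunction_indFun (stabilizer G a) μ
  have hval := (Cfsg.Agent.S0881.result hZ hab hodd hlt H hHa hHcard hHfix μ hμ hμH hμne).2
  by_cases hex : ∃ x : G, x⁻¹ * g * x ∈ stabilizer G a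
  · obtain ⟨x, hx⟩ := hex
    have e1 : indFun (stabilizer G a) μ g = indFun (stabilizer G a) μ (x⁻¹ * g * x) := by
      rw [← hcf (x⁻¹ * g * x) x]
      congr 1
      group
    have e2 : indFun (stabilizer G a) μ g⁻¹ = indFun (stabilizer G a) μ (x⁻¹ * g * x)⁻¹ := by
      rw [← hcf (x⁻¹ * g * x)⁻¹ x]
      congr 1
      group
    rw [e1, e2]
    generalize x⁻¹ * g * x = g' at hx
    by_cases hH : g' ∈ H
    · by_cases h1 : g' = 1
      · rw [h1, inv_one]
      · rw [hval g' hH h1, hval g'⁻¹ (H.inv_mem hH) (inv_ne_one.2 h1)]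
    · obtain ⟨n, hna, hnE⟩ := zass_conj_into_stab2 hZ H hHa hHcard hHfix hab
        (mem_stabilizer_iff.1 hx) hH
      obtain ⟨t, hta, htb⟩ := zass_two_trans hZ a b b a hab (Ne.symm hab)
      have hinv := (zass_simple_stab2 hZ hab hodd).2 t hta htb _ hnE
      have h3 : (n * g' * n⁻¹)⁻¹ = n * g'⁻¹ * n⁻¹ := by group
      rw [h3] at hinv
      have h4 : g'⁻¹ = (n⁻¹ * t * n) * g' * (n⁻¹ * t * n)⁻¹ := by
        calc g'⁻¹ = n⁻¹ * (n * g'⁻¹ * n⁻¹) * n := by group
          _ = n⁻¹ * (t * (n * g' * n⁻¹) * t⁻¹) * n := by rw [hinv]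
          _ = _ := by group
      rw [h4, hcf]
  · push Not at hex
    have hex' : ∀ x : G, x⁻¹ * g⁻¹ * x ∉ stabilizer G a := by
      intro x h3
      apply hex x
      have := (stabilizer G a).inv_mem h3
      have e1 : (x⁻¹ * g⁻¹ * x)⁻¹ = x⁻¹ * g * x := by group
      rw [e1] at this
      exact this
    rw [indFun_eq_zero_of_forall_not_mem _ μ hex, indFun_eq_zero_of_forall_not_mem _ μ hex']

/-- the conjugate character induces the same character -/
theorem zass_indFun_conj :
    indFun (stabilizer G a) (fun n => conj (μ n)) = indFun (stabilizer G a) μ := by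
  funext g
  rw [indFun_conj_linear _ μ (Cfsg.Agent.S0881.isLin_of_character _ μ hμ.1 hμ.2),
    zass_indFun_inv hZ hab hodd hlt H hHa hHcard hHfix μ hμ hμH hμne]

/-- a non-principal linear character of the point stabiliser trivial on the kernel is not real -/
theorem zass_conj_ne : (fun n => conj (μ n)) ≠ μ := by
  intro hreal
  apply hμne
  obtain ⟨φ, hφ⟩ := Cfsg.Agent.Lib.Helper77.exists_monoidHom_of_degree_one hμ.1 hμ.2
  have hn := zass_kernel_normal hZ hab H hHa hHcard hHfix
  set H' := H.subgroupOf (stabilizer G a) with hH'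
  -- the index of the kernel is odd
  have hidx : Odd H'.index := by
    rw [hH', zass_index_kernel hZ hab H hHa hHcard hHfix]
    exact hodd
  funext n
  have h1 : (φ n : ℂ) * (φ n : ℂ) = 1 := by
    have hnorm := (Cfsg.Agent.S0881.isLin_of_character _ μ hμ.1 hμ.2).norm (n : G) n.2
    rw [Cfsg.Agent.Lib.Helper25.extendByZero_coe] at hnorm
    have hr : conj (μ n) = μ n := congrFun hreal n
    rw [hr, hφ] at hnorm
    exact hnorm
  have h2 : (φ n : ℂ) ^ H'.index = 1 := by
    have hmem : n ^ H'.index ∈ H' := Subgroup.pow_index_mem H' n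
    have := hμH (n ^ H'.index) (Subgroup.mem_subgroupOf.1 hmem)
    rw [hφ, map_pow, Units.val_pow_eq_pow_val] at this
    exact this
  obtain ⟨k, hk⟩ := hidx
  have h1' : (φ n : ℂ) ^ 2 = 1 := by rw [pow_two]; exact h1
  rw [hk, pow_succ, pow_mul, h1', one_pow, one_mul] at h2
  rw [hφ, h2]

end zass

end Cfsg.Agent.Lib.Helper64
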