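import Mathlib
import Cfsg.Prelude.Def_OddOrder
import Cfsg.Agent.Lib.Helper33.KInfPStableFusion
import Cfsg.Agent.Lib.Helper11.OddStable2
import Cfsg.Agent.Lib.Helper33.TransferControl2

/-!
# Transfer control in minimal simple groups of odd order (helper64 library)

* `secProp_ecn_of_odd_solvable`, `secProp_ecn_of_minSimpleOdd`: all sections are `p`-stable (elementary form).
* `controls_kInf_of_secProp`: strong fusion in a given Sylow subgroup `S` is controlled by `N_G(K_∞(S))`.
* `sylow_le_commutator_normalizer_kInf`: in a perfect group with `p`-stable sections, `S ≤ N_G(K_∞(S))'`.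
-/

set_option autoImplicit false

namespace Cfsg.Agent.Lib.Helper64

universe u

open Cfsg.Agent.Lib.Helper33

/-- sections of solvable groups of odd order are `p`-stable -/
theorem secProp_ecn_of_odd_solvable {p : ℕ} [Fact p.Prime] {M : Type u} [Group M] [Finite M]
    [Group.IsSolvable M] (hodd : Odd (Nat.card M)) : SecProp (ECN p) M := by
  intro K Y _ φ hφ
  have : Finite Y := Finite.of_surjective φ hφ
  have : Group.IsSolvable Y := Group.isSolvable_of_surjective hφ
  have hYodd : Odd (Nat.card Y) := by
    have h1 : Nat.card Y ∣ Nat.card K := Subgroup.card_dvd_of_surjective φ hφ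
    have h2 : Nat.card K ∣ Nat.card M := Subgroup.card_subgroup_dvd_card K
    exact Odd.of_dvd_nat hodd (h1.trans h2)
  exact ecn_of_nps (Cfsg.Agent.Lib.Helper11.isNormalizerPStable_of_odd_solvable hYodd)

/-- all sections of a minimal simple group of odd order are `p`-stable -/
theorem secProp_ecn_of_minSimpleOdd {p : ℕ} [Fact p.Prime] {G : Type u} [Group G] [Finite G]
    (hG : Cfsg.IsMinSimpleOddOrder G) : SecProp (ECN p) G := by
  obtain ⟨hodd, hsimple, hna, hsolv⟩ := hG
  intro K Y _ φ hφ
  have : Finite Y := Finite.of_surjective φ hφ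
  by_cases hK : K = ⊤
  · subst hK
    intro P hPn hPp g hquad y hy
    set ψ : G →* Y := φ.comp (Subgroup.topEquiv (G := G)).symm.toMonoidHom with hψ
    have hψs : Function.Surjective ψ := hφ.comp (Subgroup.topEquiv (G := G)).symm.surjective
    have hNn : (P.comap ψ).Normal := hPn.comap ψ
    have hPmap : (P.comap ψ).map ψ = P := Subgroup.map_comap_eq_self_of_surjective hψs P
    rcases hNn.eq_bot_or_eq_top with h | h
    · have hP : P = ⊥ := by rw [← hPmap, h, Subgroup.map_bot]
      refine ⟨0, ?_⟩
      rw [hP, Subgroup.mem_centralizer_iff]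
      intro x hx
      rw [Subgroup.coe_bot, Set.mem_singleton_iff] at hx
      rw [hx]
      simp
    · have hP : P = ⊤ := by
        rw [← hPmap, h, ← MonoidHom.range_eq_map, MonoidHom.range_eq_top]
        exact hψs
      have hy' : y ∈ P := by rw [hP]; exact Subgroup.mem_top y
      obtain ⟨k, hk⟩ := hPp ⟨y, hy'⟩
      refine ⟨k, ?_⟩
      have h1 : y ^ p ^ k = 1 := by
        have := congrArg Subtype.val hk
        simpa using this
      rw [h1]
      exact Subgroup.one_mem _
  · have : Group.IsSolvable K := hsolv K hK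
    have : Group.IsSolvable Y := Group.isSolvable_of_surjective hφ
    have hYodd : Odd (Nat.card Y) := by
      have h1 : Nat.card Y ∣ Nat.card K := Subgroup.card_dvd_of_surjective φ hφ
      have h2 : Nat.card K ∣ Nat.card G := Subgroup.card_subgroup_dvd_card K
      exact Odd.of_dvd_nat hodd (h1.trans h2)
    exact ecn_of_nps (Cfsg.Agent.Lib.Helper11.isNormalizerPStable_of_odd_solvable hYodd)

/-- precise form of `controlsStrongFusion_of_secPStable`: strong fusion in the given Sylow subgroup `S` is controlled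
by `N_G(W(S))` -/
theorem controls_of_secProp {p : ℕ} [Fact p.Prime] (W : ∀ (Q : Type u) [Group Q], Subgroup Q)
    (hW : Cfsg.IsCharPFunctor.{u} p W)
    (hnorm : ∀ (Y : Type u) [Group Y] [Finite Y], SecProp (ECN p) Y → Constrained p Y → ∀ T : Sylow p Y,
      (Cfsg.inducedFunctor W (T : Subgroup Y)).Normal)
    {G : Type u} [Group G] [Finite G] (hsecG : SecProp (ECN p) G) (S : Sylow p G)
    (A : Set G) (hA : A ⊆ (S : Subgroup G)) (g : G)
    (hg : (fun a => g * a * g⁻¹) '' A ⊆ (S : Subgroup G)) :
    ∃ x ∈ Subgroup.normalizer ((Cfsg.inducedFunctor W (S : Subgroup G) : Subgroup G) : Set G),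
      ∀ a ∈ A, g * a * g⁻¹ = x * a * x⁻¹ := by
  have h𝓦 : ∀ W' ∈ ({W} : Set (∀ (Q : Type u) [Group Q], Subgroup Q)), Cfsg.IsCharPFunctor.{u} p W' := by
    rintro W' rfl
    exact hW
  have hsecFus : SecProp (FusProp p {W}) G := by
    intro K Y _ φ hφ
    have : Finite Y := Finite.of_surjective φ hφ
    intro hconY
    have hsY : SecProp (ECN p) Y := (hsecG.subgroup K).of_surjective φ hφ
    exact Cfsg.Agent.S1969.familyControls_of_normal W (fun T => hnorm Y hsY hconY T)
  have hY := familyControls_of_secProp h𝓦 _ G rfl hsecFus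
  have hcf := isConjugacyFunctor_inducedFunctor W hW (G := G)
  have e : indFam {W} G = {Cfsg.inducedFunctor (G := G) W} := by
    unfold indFam
    rw [Set.image_singleton]
  rw [e] at hY
  have hgood := good_of_familyControls (by rintro W' rfl; exact hcf) hY (sylIn_top S)
  obtain ⟨g', hreach, hagree⟩ := hgood A g (Subgroup.mem_top _) hA hg
  rw [stepSet_singleton] at hreach
  exact ⟨g', (hreach.mem_of_subgroup).2, fun a ha => (hagree a ha).symm⟩

/-- a `p`-subgroup normalizes the value of a conjugacy functor on it -/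
theorem le_normalizer_of_isConjugacyFunctor {p : ℕ} {G : Type*} [Group G] {W : Subgroup G → Subgroup G}
    (hW : Cfsg.IsConjugacyFunctor p W) (P : Subgroup G) (hP : IsPGroup p P) :
    P ≤ Subgroup.normalizer ((W P : Subgroup G) : Set G) := by
  intro g hg
  have h1 := (hW P hP).2.2 g
  have h2 : P.map (MulAut.conj g).toMonoidHom = P := by
    ext x
    constructor
    · rintro ⟨y, hy, rfl⟩
      exact P.mul_mem (P.mul_mem hg hy) (P.inv_mem hg)
    · intro hx
      refine ⟨g⁻¹ * x * g, P.mul_mem (P.mul_mem (P.inv_mem hg) hx) hg, ?_⟩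
      simp [MulAut.conj_apply, mul_assoc]
  rw [h2] at h1
  rw [Subgroup.mem_normalizer_iff]
  intro x
  constructor
  · intro hx
    rw [h1]
    exact ⟨x, hx, by simp [MulAut.conj_apply]⟩
  · intro hx
    rw [h1] at hx
    obtain ⟨y, hy, hyx⟩ := hx
    have : y = x := by
      have h3 : g * y * g⁻¹ = g * x * g⁻¹ := by simpa [MulAut.conj_apply] using hyx
      exact mul_left_cancel (mul_right_cancel h3)
    rwa [← this]

open scoped commutatorElement in
/-- **Transfer control**: in a perfect group all of whose sections are `p`-stable, a Sylow `p`-subgroup `S` lies in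
the derived subgroup of `N_G(K_∞(S))`. -/
theorem sylow_le_commutator_normalizer_kInf {p : ℕ} [Fact p.Prime] {G : Type u} [Group G] [Finite G]
    (hsecG : SecProp (ECN p) G) (hperf : commutator G = ⊤) (S : Sylow p G) :
    (S : Subgroup G) ≤
      ⁅Subgroup.normalizer ((Cfsg.inducedFunctor Cfsg.kInfLower (S : Subgroup G) : Subgroup G) : Set G),
        Subgroup.normalizer ((Cfsg.inducedFunctor Cfsg.kInfLower (S : Subgroup G) : Subgroup G) : Set G)⁆ := by
  set N := Subgroup.normalizer ((Cfsg.inducedFunctor Cfsg.kInfLower (S : Subgroup G) : Subgroup G) : Set G)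
    with hN
  have hcf := isConjugacyFunctor_inducedFunctor Cfsg.kInfLower (isCharPFunctor_kInfLower p) (G := G)
  have hSN : (S : Subgroup G) ≤ N := le_normalizer_of_isConjugacyFunctor hcf _ S.isPGroup'
  have key : ∀ P : Subgroup G, P ≤ (S : Subgroup G) → ∀ g, cj g P ≤ (S : Subgroup G) →
      ∀ x ∈ P, g * x * g⁻¹ * x⁻¹ ∈ ⁅N, N⁆ := by
    intro P hPS g hgP x hx
    have hA : (P : Set G) ⊆ (S : Subgroup G) := fun a ha => hPS ha
    have hgA : (fun a => g * a * g⁻¹) '' (P : Set G) ⊆ (S : Subgroup G) := by
      rintro _ ⟨a, ha, rfl⟩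
      exact hgP (conj_mem_cj ha)
    obtain ⟨n, hn, hagree⟩ := controls_of_secProp Cfsg.kInfLower (isCharPFunctor_kInfLower p)
      (fun _ _ _ hs hc T => (kInf_normal_of_secPStable hs hc T).1) hsecG S (P : Set G) hA g hgA
    rw [hagree x hx]
    have hxN : x ∈ N := hSN (hPS hx)
    have : n * x * n⁻¹ * x⁻¹ = ⁅n, x⁆ := by rw [commutatorElement_def]
    rw [this]
    exact Subgroup.commutator_mem_commutator hn hxN
  have h1 := focal_le_of_forall S ⁅N, N⁆ key
  rw [hperf, inf_top_eq] at h1
  exact h1

end Cfsg.Agent.Lib.Helper64
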