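import Mathlib
import Cfsg.Prelude.Def_Transfer

set_option autoImplicit false

namespace Cfsg.Agent.Lib.Helper64

variable {G : Type*} [Group G]

open scoped Pointwise

/-- A minimal nontrivial proper normal subgroup exists as soon as some nontrivial proper normal
subgroup exists. -/
lemma exists_minimal_normal [Finite G] (h : ∃ N : Subgroup G, N.Normal ∧ N ≠ ⊥ ∧ N ≠ ⊤) :
    ∃ N : Subgroup G, N.Normal ∧ N ≠ ⊥ ∧ N ≠ ⊤ ∧
      ∀ B : Subgroup G, B.Normal → B ≤ N → B = ⊥ ∨ B = N := by
  obtain ⟨N, ⟨hN1, hN2, hN3⟩, hmin⟩ :=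
    (Set.toFinite {N : Subgroup G | N.Normal ∧ N ≠ ⊥ ∧ N ≠ ⊤}).exists_minimal h
  refine ⟨N, hN1, hN2, hN3, ?_⟩
  intro B hB hBN
  by_cases hB0 : B = ⊥
  · exact Or.inl hB0
  · right
    have hBtop : B ≠ ⊤ := by
      rintro rfl
      exact hN3 (top_le_iff.mp hBN)
    exact le_antisymm hBN (hmin ⟨hB, hB0, hBtop⟩ hBN)

/-- `|N ⊔ H| * |N ⊓ H| = |N| * |H|` for `N` normal. -/
lemma card_sup_mul_card_inf [Finite G] (N H : Subgroup G) [N.Normal] :
    Nat.card (N ⊔ H : Subgroup G) * Nat.card (N ⊓ H : Subgroup G) = Nat.card N * Nat.card H := by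
  have h1 : N.relIndex (N ⊔ H) * Nat.card N = Nat.card (N ⊔ H : Subgroup G) := by
    rw [← Subgroup.relIndex_bot_left, ← Subgroup.relIndex_bot_left, mul_comm]
    exact Subgroup.relIndex_mul_relIndex _ _ _ bot_le le_sup_left
  have h2 : N.relIndex H * Nat.card (N ⊓ H : Subgroup G) = Nat.card H := by
    rw [← Subgroup.inf_relIndex_right, ← Subgroup.relIndex_bot_left, ← Subgroup.relIndex_bot_left,
      mul_comm]
    exact Subgroup.relIndex_mul_relIndex _ _ _ bot_le inf_le_right
  rw [Subgroup.relIndex_sup_left] at h1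
  calc Nat.card (N ⊔ H : Subgroup G) * Nat.card (N ⊓ H : Subgroup G)
      = (N.relIndex H * Nat.card N) * Nat.card (N ⊓ H : Subgroup G) := by rw [h1]
    _ = Nat.card N * (N.relIndex H * Nat.card (N ⊓ H : Subgroup G)) := by ring
    _ = Nat.card N * Nat.card H := by rw [h2]

/-- `|HN : H| = |N : H ∩ N|` for `N` normal. -/
lemma relIndex_sup_of_normal' [Finite G] (M L : Subgroup G) [M.Normal] :
    L.relIndex (M ⊔ L) = L.relIndex M := by
  have h3 : L.relIndex (M ⊔ L) * Nat.card L = Nat.card (M ⊔ L : Subgroup G) := by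
    rw [← Subgroup.relIndex_bot_left, ← Subgroup.relIndex_bot_left, mul_comm]
    exact Subgroup.relIndex_mul_relIndex _ _ _ bot_le le_sup_right
  have h4 : L.relIndex M * Nat.card (M ⊓ L : Subgroup G) = Nat.card M := by
    rw [← Subgroup.inf_relIndex_right, inf_comm, ← Subgroup.relIndex_bot_left,
      ← Subgroup.relIndex_bot_left, mul_comm]
    exact Subgroup.relIndex_mul_relIndex _ _ _ bot_le inf_le_left
  have h5 := card_sup_mul_card_inf M L
  have hpos1 : 0 < Nat.card L := Nat.card_pos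
  have hpos2 : 0 < Nat.card (M ⊓ L : Subgroup G) := Nat.card_pos
  have : L.relIndex (M ⊔ L) * (Nat.card L * Nat.card (M ⊓ L : Subgroup G))
      = L.relIndex M * (Nat.card L * Nat.card (M ⊓ L : Subgroup G)) := by
    calc L.relIndex (M ⊔ L) * (Nat.card L * Nat.card (M ⊓ L : Subgroup G))
        = (L.relIndex (M ⊔ L) * Nat.card L) * Nat.card (M ⊓ L : Subgroup G) := by ring
      _ = Nat.card M * Nat.card L := by rw [h3, h5]
      _ = L.relIndex M * (Nat.card L * Nat.card (M ⊓ L : Subgroup G)) := by rw [← h4]; ring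
  exact Nat.eq_of_mul_eq_mul_right (Nat.mul_pos hpos1 hpos2) this

/-- A `p`-group acting on the cosets of a subgroup of index prime to `p` fixes a coset. -/
lemma exists_conj_le_of_not_dvd_index [Finite G] {r : ℕ} [Fact r.Prime] (R : Sylow r G)
    (M : Subgroup G) (h : ¬ r ∣ M.index) :
    ∃ g : G, (R : Subgroup G) ≤ MulAut.conj g • M := by
  have hfix := R.isPGroup'.nonempty_fixed_point_of_prime_not_dvd_card (G ⧸ M) h
  obtain ⟨q, hq⟩ := hfix
  obtain ⟨g, rfl⟩ := QuotientGroup.mk_surjective q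
  refine ⟨g, ?_⟩
  intro a ha
  have h1 := hq ⟨a⁻¹, (R : Subgroup G).inv_mem ha⟩
  have h2 : ((a⁻¹ * g : G) : G ⧸ M) = (g : G ⧸ M) := h1
  rw [QuotientGroup.eq] at h2
  rw [Subgroup.mem_pointwise_smul_iff_inv_smul_mem]
  simpa [MulAut.conj_inv_apply, mul_assoc] using h2

/-- In a group with a normal Sylow `p`-subgroup, that Sylow subgroup contains every `p`-subgroup. -/
lemma le_normal_sylow [Finite G] {p : ℕ} [Fact p.Prime] (S : Sylow p G)
    (hS : (S : Subgroup G).Normal) {K : Subgroup G} (hK : IsPGroup p K) : K ≤ S := by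
  obtain ⟨S', hS'⟩ := hK.exists_le_sylow
  obtain ⟨g, hg⟩ := MulAction.exists_smul_eq G S S'
  rw [Sylow.smul_eq_of_normal] at hg
  rw [hg]; exact hS'

/-- Frattini + Sylow: if `N` is normal of order prime to `p`, `P` a Sylow `p`-subgroup and `r` a prime,
then `P` normalizes some Sylow `r`-subgroup `Q` of `N` (given as a subgroup of `G`). -/
lemma exists_sylow_normalized [Finite G] {p : ℕ} [Fact p.Prime] (N : Subgroup G) [hN : N.Normal]
    (hNp : ¬ p ∣ Nat.card N) (P : Sylow p G) (r : ℕ) [Fact r.Prime] :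
    ∃ Q : Subgroup G, Q ≤ N ∧ IsPGroup r Q ∧ (∀ k : ℕ, r ^ k ∣ Nat.card N → r ^ k ∣ Nat.card Q) ∧
      (P : Subgroup G) ≤ Subgroup.normalizer (Q : Set G) := by
  obtain ⟨R⟩ : Nonempty (Sylow r N) := inferInstance
  set Q₀ := (R : Subgroup N).map N.subtype with hQ₀
  set L := Subgroup.normalizer (Q₀ : Set G) with hL
  have hfrat : L ⊔ N = ⊤ := Sylow.normalizer_sup_eq_top R
  have hidx : ¬ p ∣ L.index := by
    have h1 : L.index = L.relIndex N := by
      rw [← Subgroup.relIndex_top_right, ← hfrat, sup_comm, relIndex_sup_of_normal']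
    rw [h1]
    intro h
    exact hNp (h.trans (Subgroup.relIndex_dvd_card L N))
  obtain ⟨g, hg⟩ := exists_conj_le_of_not_dvd_index P L hidx
  refine ⟨MulAut.conj g • Q₀, ?_, ?_, ?_, ?_⟩
  · intro y hy
    rw [Subgroup.mem_pointwise_smul_iff_inv_smul_mem] at hy
    obtain ⟨z, _, hz2⟩ := hy
    have hzN : (z : G) ∈ N := z.2
    have h1 : g⁻¹ * y * g ∈ N := by
      have : N.subtype z = g⁻¹ * y * g := by simpa [MulAut.conj_inv_apply] using hz2
      rw [← this]; exact hzN
    have := hN.conj_mem _ h1 g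
    simpa [mul_assoc] using this
  · have h1 : IsPGroup r Q₀ := R.isPGroup'.map _
    exact h1.map (MulAut.conj g).toMonoidHom
  · intro k hk
    have h1 : Nat.card (MulAut.conj g • Q₀ : Subgroup G) = Nat.card (R : Subgroup N) := by
      have h2 : Nat.card (MulAut.conj g • Q₀ : Subgroup G) = Nat.card Q₀ :=
        Subgroup.card_map_of_injective (f := (MulAut.conj g).toMonoidHom) (MulAut.conj g).injective
      rw [h2, hQ₀]
      exact Subgroup.card_map_of_injective (Subgroup.subtype_injective N)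
    rw [h1]
    exact R.pow_dvd_card_of_pow_dvd_card hk
  · have h1 : MulAut.conj g • L = Subgroup.normalizer ((MulAut.conj g • Q₀ : Subgroup G) : Set G) :=
      Subgroup.map_equiv_normalizer_eq Q₀ (MulAut.conj g)
    rw [← h1]; exact hg

/-- A minimal normal subgroup that is an `r`-group is elementary abelian. -/
lemma isElementaryAbelian_of_minimal_normal [Finite G] {r : ℕ} [Fact r.Prime] (N : Subgroup G)
    [hN : N.Normal] (hN0 : N ≠ ⊥) (hNr : IsPGroup r N)
    (hmin : ∀ B : Subgroup G, B.Normal → B ≤ N → B = ⊥ ∨ B = N) :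
    Cfsg.IsElementaryAbelian r N := by
  -- the center
  have hZn : (N ⊓ Subgroup.centralizer (N : Set G)).Normal := inferInstance
  have hZ0 : N ⊓ Subgroup.centralizer (N : Set G) ≠ ⊥ := by
    haveI : Nontrivial N := (Subgroup.nontrivial_iff_ne_bot N).mpr hN0
    obtain ⟨⟨z, hz⟩, hz1⟩ := Subgroup.ne_bot_iff_exists_ne_one.mp
      ((Subgroup.nontrivial_iff_ne_bot _).mp hNr.center_nontrivial)
    intro h
    have hzmem : (z : G) ∈ N ⊓ Subgroup.centralizer (N : Set G) := by
      refine ⟨z.2, ?_⟩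
      show (z : G) ∈ Subgroup.centralizer (N : Set G)
      rw [Subgroup.mem_centralizer_iff]
      intro n hn
      have := Subgroup.mem_center_iff.mp hz ⟨n, hn⟩
      exact congrArg Subtype.val this
    rw [h, Subgroup.mem_bot] at hzmem
    apply hz1
    apply Subtype.ext
    apply Subtype.ext
    exact hzmem
  have hZ : N ⊓ Subgroup.centralizer (N : Set G) = N :=
    (hmin _ hZn inf_le_left).resolve_left hZ0
  have hcomm : ∀ a ∈ N, ∀ b ∈ N, a * b = b * a := by
    intro a ha b hb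
    have hb' : b ∈ N ⊓ Subgroup.centralizer (N : Set G) := by rw [hZ]; exact hb
    exact (Subgroup.mem_centralizer_iff.mp hb'.2 a ha)
  refine ⟨⟨⟨fun a b => Subtype.ext (hcomm a a.2 b b.2)⟩⟩, ?_⟩
  -- Ω₁
  let Ω : Subgroup G :=
    { carrier := {g | g ∈ N ∧ g ^ r = 1}
      one_mem' := ⟨N.one_mem, one_pow _⟩
      mul_mem' := by
        rintro a b ⟨ha, ha'⟩ ⟨hb, hb'⟩
        refine ⟨N.mul_mem ha hb, ?_⟩
        rw [(show Commute a b from hcomm a ha b hb).mul_pow, ha', hb', one_mul]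
      inv_mem' := by
        rintro a ⟨ha, ha'⟩
        exact ⟨N.inv_mem ha, by rw [inv_pow, ha', inv_one]⟩ }
  have hΩn : Ω.Normal := by
    constructor
    rintro a ⟨ha, ha'⟩ g
    refine ⟨hN.conj_mem a ha g, ?_⟩
    rw [conj_pow, ha']; group
  have hΩN : Ω ≤ N := fun g hg => hg.1
  have hΩ0 : Ω ≠ ⊥ := by
    have hdvd : r ∣ Nat.card N := by
      rcases hNr.card_eq_or_dvd with h | h
      · exfalso
        exact hN0 ((Subgroup.card_eq_one).mp h)
      · exact h
    obtain ⟨x, hx⟩ := exists_prime_orderOf_dvd_card' (G := N) r hdvd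
    intro h
    have hxmem : (x : G) ∈ Ω := by
      refine ⟨x.2, ?_⟩
      have : x ^ r = 1 := by rw [← hx]; exact pow_orderOf_eq_one x
      have := congrArg Subtype.val this
      simpa using this
    rw [h, Subgroup.mem_bot] at hxmem
    have hx1 : x = 1 := Subtype.ext hxmem
    rw [hx1, orderOf_one] at hx
    exact (Fact.out : r.Prime).one_lt.ne hx
  have hΩ : Ω = N := (hmin Ω hΩn hΩN).resolve_left hΩ0
  intro a ha
  have : a ∈ Ω := by rw [hΩ]; exact ha
  exact this.2

end Cfsg.Agent.Lib.Helper64
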