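import Mathlib
import Cfsg.Agent.Lib.Helper64.MinNormal

set_option autoImplicit false

/-!
# helper64: σ-numbers, largest normal σ-subgroup, comap cardinalities, elementary abelian
minimal normal subgroups of solvable groups
-/

namespace Cfsg.Agent.Lib.Helper64

/-- `n` is a `σ`-number: all its prime divisors lie in `σ`. -/
def IsNum (σ : Set ℕ) (n : ℕ) : Prop := ∀ p : ℕ, p.Prime → p ∣ n → p ∈ σ

lemma IsNum.one (σ : Set ℕ) : IsNum σ 1 := by
  intro p hp h
  exact absurd (Nat.dvd_one.mp h) hp.one_lt.ne'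

lemma IsNum.mul {σ : Set ℕ} {m n : ℕ} (hm : IsNum σ m) (hn : IsNum σ n) : IsNum σ (m * n) := by
  intro p hp h
  rcases (Nat.Prime.dvd_mul hp).mp h with h | h
  · exact hm p hp h
  · exact hn p hp h

lemma IsNum.of_dvd {σ : Set ℕ} {m n : ℕ} (hn : IsNum σ n) (h : m ∣ n) : IsNum σ m := by
  intro p hp hpm
  exact hn p hp (hpm.trans h)

lemma IsNum.coprime {σ : Set ℕ} {m n : ℕ} (hm : IsNum σ m) (hn : IsNum σᶜ n) :
    Nat.Coprime m n := by
  apply Nat.coprime_of_dvd
  intro k hk h1 h2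
  exact hn k hk h2 (hm k hk h1)

lemma IsNum.prime_pow {σ : Set ℕ} {q : ℕ} (hq : q.Prime) (hqσ : q ∈ σ) (i : ℕ) :
    IsNum σ (q ^ i) := by
  intro p hp h
  have := (Nat.prime_dvd_prime_iff_eq hp hq).mp (hp.dvd_of_dvd_pow h)
  rw [this]; exact hqσ

lemma isNum_compl_compl {σ : Set ℕ} {n : ℕ} : IsNum σᶜᶜ n ↔ IsNum σ n := by
  rw [compl_compl]

variable {G : Type*} [Group G]

/-- cardinality of the full preimage of a subgroup of a quotient -/
lemma card_comap_mk' [Finite G] (K : Subgroup G) [K.Normal] (M : Subgroup (G ⧸ K)) :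
    Nat.card (M.comap (QuotientGroup.mk' K)) = Nat.card K * Nat.card M := by
  have h1 : (M.comap (QuotientGroup.mk' K)).index = M.index :=
    Subgroup.index_comap_of_surjective _ (QuotientGroup.mk'_surjective K)
  have h2 := (M.comap (QuotientGroup.mk' K)).card_mul_index
  have h3 := M.card_mul_index
  have h4 := K.card_mul_index
  rw [Subgroup.index_eq_card] at h4
  rw [h1] at h2
  have hpos : 0 < M.index := Nat.pos_of_ne_zero Subgroup.index_ne_zero_of_finite
  apply Nat.eq_of_mul_eq_mul_right hpos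
  rw [h2, ← h4, ← h3]; ring

lemma le_comap_mk' (K : Subgroup G) [K.Normal] (M : Subgroup (G ⧸ K)) :
    K ≤ M.comap (QuotientGroup.mk' K) := by
  intro x hx
  rw [Subgroup.mem_comap]
  have : QuotientGroup.mk' K x = 1 := (QuotientGroup.eq_one_iff x).mpr hx
  rw [this]; exact M.one_mem

/-- there is a largest normal subgroup whose order is a `σ`-number -/
lemma exists_max_normal_num [Finite G] (σ : Set ℕ) :
    ∃ K : Subgroup G, K.Normal ∧ IsNum σ (Nat.card K) ∧
      ∀ M : Subgroup G, M.Normal → IsNum σ (Nat.card M) → M ≤ K := by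
  have hne : ∃ K : Subgroup G, K.Normal ∧ IsNum σ (Nat.card K) :=
    ⟨⊥, inferInstance, by rw [Subgroup.card_bot]; exact IsNum.one σ⟩
  obtain ⟨K, ⟨hK1, hK2⟩, hmax⟩ :=
    (Set.toFinite {K : Subgroup G | K.Normal ∧ IsNum σ (Nat.card K)}).exists_maximal hne
  refine ⟨K, hK1, hK2, ?_⟩
  intro M hM1 hM2
  haveI := hK1
  haveI := hM1
  have hsup : (K ⊔ M).Normal := inferInstance
  have hnum : IsNum σ (Nat.card (K ⊔ M : Subgroup G)) := by
    have := card_sup_mul_card_inf K M
    exact (hK2.mul hM2).of_dvd ⟨_, this.symm⟩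
  have := hmax ⟨hsup, hnum⟩ le_sup_left
  exact le_sup_right.trans this

/-- a nontrivial finite solvable group has a nontrivial normal elementary abelian subgroup -/
theorem exists_normal_elemAb [Finite G] [Group.IsSolvable G] [Nontrivial G] :
    ∃ K : Subgroup G, K.Normal ∧ K ≠ ⊥ ∧ (∀ x ∈ K, ∀ y ∈ K, x * y = y * x) ∧
      ∃ p : ℕ, p.Prime ∧ (∀ x ∈ K, x ^ p = 1) ∧ ∃ i : ℕ, Nat.card K = p ^ i := by
  classical
  have hne : ∃ K : Subgroup G, K.Normal ∧ K ≠ ⊥ := ⟨⊤, inferInstance, top_ne_bot⟩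
  obtain ⟨K, ⟨hKn, hKb⟩, hmin⟩ :=
    (Set.toFinite {K : Subgroup G | K.Normal ∧ K ≠ ⊥}).exists_minimal hne
  have hminimal : ∀ N : Subgroup G, N.Normal → N ≠ ⊥ → N ≤ K → N = K := by
    intro N hN hNb hNK
    exact le_antisymm hNK (hmin ⟨hN, hNb⟩ hNK)
  have hcomm : ⁅K, K⁆ = ⊥ := by
    by_contra hne'
    have hlt := Group.IsSolvable.commutator_lt_of_ne_bot hKb
    have hnorm : (⁅K, K⁆ : Subgroup G).Normal := Subgroup.commutator_normal K K
    exact hlt.ne (hminimal _ hnorm hne' hlt.le)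
  have hab : ∀ x ∈ K, ∀ y ∈ K, x * y = y * x := by
    intro x hx y hy
    have := (Subgroup.commutator_eq_bot_iff_le_centralizer.mp hcomm) hx
    rw [Subgroup.mem_centralizer_iff] at this
    exact (this y hy).symm
  have hcard : Nat.card K ≠ 1 := by
    intro h
    exact hKb ((Subgroup.card_eq_one).mp h)
  obtain ⟨p, hp, hpK⟩ := Nat.exists_prime_and_dvd hcard
  have : Fact p.Prime := ⟨hp⟩
  obtain ⟨x0, hx0⟩ := exists_prime_orderOf_dvd_card' (G := K) p hpK
  let T : Subgroup G :=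
    { carrier := {x | x ∈ K ∧ x ^ p = 1}
      mul_mem' := by
        intro x y hx hy
        refine ⟨K.mul_mem hx.1 hy.1, ?_⟩
        have hc : Commute x y := hab x hx.1 y hy.1
        rw [hc.mul_pow, hx.2, hy.2, one_mul]
      one_mem' := ⟨K.one_mem, one_pow p⟩
      inv_mem' := by
        intro x hx
        exact ⟨K.inv_mem hx.1, by rw [inv_pow, hx.2, inv_one]⟩ }
  have hTn : T.Normal := by
    constructor
    intro x hx g
    refine ⟨hKn.conj_mem x hx.1 g, ?_⟩
    rw [conj_pow, hx.2]; group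
  have hTb : T ≠ ⊥ := by
    intro h
    have hx0T : (x0 : G) ∈ T := by
      refine ⟨x0.2, ?_⟩
      have : (x0 : G) ^ p = ((x0 ^ p : K) : G) := by simp
      rw [this, ← hx0, pow_orderOf_eq_one]; rfl
    rw [h, Subgroup.mem_bot] at hx0T
    have : x0 = 1 := Subtype.ext hx0T
    rw [this, orderOf_one] at hx0
    exact hp.one_lt.ne hx0
  have hTK : T = K := hminimal T hTn hTb (fun x hx => hx.1)
  refine ⟨K, hKn, hKb, hab, p, hp, ?_, ?_⟩
  · intro x hx
    rw [← hTK] at hx
    exact hx.2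
  · have hpg : IsPGroup p K := by
      intro x
      refine ⟨1, ?_⟩
      have hx : (x : G) ∈ T := by rw [hTK]; exact x.2
      apply Subtype.ext
      simpa using hx.2
    exact (IsPGroup.iff_card).mp hpg

end Cfsg.Agent.Lib.Helper64
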