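import Mathlib
import Cfsg.Prelude.Def_OddOrderChar
import Cfsg.Prelude.Def_Blocks
import Cfsg.Agent.Lib.Helper26.IrrFactsInst
import Cfsg.Agent.Lib.Helper26.ExtMap
import Cfsg.Agent.Lib.Helper78.CharValues
import Cfsg.Agent.S1530

/-!
# Adding the remaining characters one at a time (step 4 of Sibley's theorem) (helper64)
-/

set_option autoImplicit false

namespace Cfsg.Agent.Lib.Helper64

open Cfsg Cfsg.Agent.Lib.Helper26

theorem sibley_add {G : Type*} [Group G] [Fintype G] (N : Subgroup G) [Fintype N]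
    (S T : Set (N → ℂ)) (hirr : ∀ ξ ∈ S, IsIrrCharacter N ξ) (hTS : T ⊆ S)
    (hτ : IsLinearIsometryOn (zspanOn S {1}ᶜ) (fun α : N → ℂ => indFun N α))
    (hτ1 : ∀ α ∈ zspanOn S {1}ᶜ, indFun N α 1 = 0)
    (hT : IsCoherent T {1}ᶜ (fun α : N → ℂ => indFun N α))
    (e : ℕ) (ψ₀ : N → ℂ) (hψ₀ : ψ₀ ∈ T) (hψ₀e : ψ₀ 1 = e) (D : ℕ)
    (hD : ∀ Ts : Finset (N → ℂ), (↑Ts : Set (N → ℂ)) = T → D ≤ ∑ ξ ∈ Ts, charDegree ξ ^ 2)
    (hadd : ∀ χ ∈ S, χ ∉ T → ∃ d : ℕ, χ 1 = d ∧ e ∣ d ∧ 2 * e * d < D) :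
    IsCoherent S {1}ᶜ (fun α : N → ℂ => indFun N α) := by
  classical
  have F := irrFacts N
  have hSfin : S.Finite := F.finite_of_irr hirr
  have hTfin : T.Finite := hSfin.subset hTS
  set Ss : Finset (N → ℂ) := hSfin.toFinset with hSs
  set Ts : Finset (N → ℂ) := hTfin.toFinset with hTs
  have hSs' : (↑Ss : Set (N → ℂ)) = S := Set.Finite.coe_toFinset hSfin
  have hTs' : (↑Ts : Set (N → ℂ)) = T := Set.Finite.coe_toFinset hTfin
  have hdeg : ∀ ξ ∈ S, ξ 1 = (charDegree ξ : ℂ) := fun ξ hξ =>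
    Cfsg.Agent.Lib.Helper78.IsCharacter.apply_one_eq_charDegree
      (Cfsg.Agent.Lib.Helper78.IsIrrCharacter.isCharacter (hirr ξ hξ))
  have hDT := hD Ts hTs'
  have key : ∀ U : Finset (N → ℂ), U ⊆ Ss \ Ts →
      IsCoherent (↑(Ts ∪ U) : Set (N → ℂ)) {1}ᶜ (fun α : N → ℂ => indFun N α) := by
    intro U
    induction U using Finset.induction_on with
    | empty =>
      intro _
      rw [Finset.union_empty, hTs']
      exact hT
    | insert χ U hχU ih =>
      intro hsub
      have hUsub : U ⊆ Ss \ Ts := fun x hx => hsub (Finset.mem_insert_of_mem hx)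
      have hχmem : χ ∈ Ss \ Ts := hsub (Finset.mem_insert_self χ U)
      rw [Finset.mem_sdiff] at hχmem
      have hχS : χ ∈ S := by rw [← hSs']; exact Finset.mem_coe.2 hχmem.1
      have hχT : χ ∉ T := by
        intro h
        apply hχmem.2
        rw [← hTs'] at h
        exact Finset.mem_coe.1 h
      have hχS₀ : χ ∉ Ts ∪ U := by
        rw [Finset.mem_union, not_or]
        exact ⟨hχmem.2, hχU⟩
      have hS₀S : ∀ ξ ∈ Ts ∪ U, ξ ∈ S := by
        intro ξ hξ
        rcases Finset.mem_union.1 hξ with h | h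
        · apply hTS
          rw [← hTs']; exact Finset.mem_coe.2 h
        · have := (Finset.mem_sdiff.1 (hUsub h)).1
          rw [← hSs']; exact Finset.mem_coe.2 this
      have hinsS : (↑(insert χ (Ts ∪ U)) : Set (N → ℂ)) ⊆ S := by
        intro ξ hξ
        rcases Finset.mem_insert.1 (Finset.mem_coe.1 hξ) with h | h
        · rw [h]; exact hχS
        · exact hS₀S ξ h
      obtain ⟨d, hd1, hed, hlt⟩ := hadd χ hχS hχT
      have hdχ : charDegree χ = d := by
        have := hdeg χ hχS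
        rw [hd1] at this
        exact_mod_cast this.symm
      have hψ₀S₀ : ψ₀ ∈ Ts ∪ U := by
        apply Finset.mem_union_left
        have : ψ₀ ∈ (↑Ts : Set (N → ℂ)) := by rw [hTs']; exact hψ₀
        exact Finset.mem_coe.1 this
      have hdψ₀ : charDegree ψ₀ = e := by
        have := hdeg ψ₀ (hTS hψ₀)
        rw [hψ₀e] at this
        exact_mod_cast this.symm
      have hres := Cfsg.Agent.S1530.result N (Ts ∪ U) χ (fun ξ hξ => hirr ξ (hS₀S ξ hξ))
        (hirr χ hχS) hχS₀ charDegree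
        (fun ξ hξ => hdeg ξ (hinsS (Finset.mem_coe.2 hξ)))
        (fun α : N → ℂ => indFun N α)
        (isom_mono (zspanOn_mono _ hinsS) hτ)
        (fun α hα => hτ1 α (zspanOn_mono _ hinsS hα))
        (ih hUsub) ψ₀ hψ₀S₀ (by rw [hdψ₀, hdχ]; exact hed)
        (by
          rw [hdψ₀, hdχ]
          calc 2 * e * d < D := hlt
            _ ≤ ∑ ξ ∈ Ts, charDegree ξ ^ 2 := hDT
            _ ≤ ∑ ξ ∈ Ts ∪ U, charDegree ξ ^ 2 :=
              Finset.sum_le_sum_of_subset Finset.subset_union_left)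
      rw [Finset.union_insert]
      exact hres
  have hfin := key (Ss \ Ts) (Finset.Subset.refl _)
  have hsub : Ts ⊆ Ss := by
    intro ξ hξ
    have : ξ ∈ (↑Ts : Set (N → ℂ)) := Finset.mem_coe.2 hξ
    rw [hTs'] at this
    have := hTS this
    rw [← hSs'] at this
    exact Finset.mem_coe.1 this
  rw [Finset.union_sdiff_of_subset hsub, hSs'] at hfin
  exact hfin

end Cfsg.Agent.Lib.Helper64
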