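import Mathlib
import Cfsg.Prelude.Def_OddOrderChar
import Cfsg.Agent.Lib.Helper78.CharMore
import Cfsg.Agent.Lib.Helper74.TIFNStar
import Cfsg.Agent.Lib.Helper25.Induced
import Cfsg.Agent.Lib.Helper26.IrrFacts

/-!
# The key divisibility for Sibley's coherence theorem (helper64)

`value_diff_of_proportional`: a class function on `L` whose coefficients on the irreducible
characters nontrivial on `Z` are proportional to the degrees takes the constant value
`γ 1 - κ |L|` on `Z ∖ {1}`.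

`key_divisibility`: a class function `ψ` of `G ≥ L`, orthogonal to the induced degree-zero
combinations of the irreducible characters of `L` nontrivial on `Z`, and satisfying the
conclusion of Peterfalvi (6.5) (our `S1523`), has multiplicities `k • η 1 / e`.
-/

set_option autoImplicit false

namespace Cfsg.Agent.Lib.Helper64

open Cfsg
open scoped ComplexConjugate

theorem value_diff_of_proportional {L : Type*} [Group L] [Fintype L] (Z : Subgroup L)
    {γ : L → ℂ} (hγ : IsClassFunction L γ) (κ : ℂ)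
    (hprop : ∀ ξ : IrrCharacter L, (∃ z ∈ Z, (ξ : L → ℂ) z ≠ (ξ : L → ℂ) 1) →
      classInner γ (ξ : L → ℂ) = κ * (ξ : L → ℂ) 1)
    (z : L) (hz : z ∈ Z) (hz1 : z ≠ 1) :
    γ 1 - γ z = κ * (Nat.card L : ℂ) := by
  classical
  have hexp := Cfsg.Agent.Lib.Helper78.classFunction_eq_sum_irr hγ
  have h1 := congrFun hexp 1
  have hzv := congrFun hexp z
  simp only [Finset.sum_apply, Pi.smul_apply, smul_eq_mul] at h1 hzv
  have hcol := Cfsg.Agent.Lib.Helper74.sum_irr_degree_mul_apply L hz1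
  have hsq := Cfsg.Agent.Lib.Helper78.sum_irr_apply_one_sq (G := L)
  have key : ∀ ξ : IrrCharacter L,
      classInner γ (ξ : L → ℂ) * (ξ : L → ℂ) 1 - classInner γ (ξ : L → ℂ) * (ξ : L → ℂ) z =
        κ * (((ξ : L → ℂ) 1) ^ 2 -
          (Cfsg.charDegree (ξ : L → ℂ) : ℂ) * (ξ : L → ℂ) z) := by
    intro ξ
    have hd := Cfsg.Agent.Lib.Helper78.IsCharacter.apply_one_eq_charDegree
      (Cfsg.Agent.Lib.Helper78.IsIrrCharacter.isCharacter ξ.2)
    by_cases hξ : ∃ z ∈ Z, (ξ : L → ℂ) z ≠ (ξ : L → ℂ) 1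
    · rw [hprop ξ hξ, ← hd]; ring
    · have : (ξ : L → ℂ) z = (ξ : L → ℂ) 1 := by
        by_contra h
        exact hξ ⟨z, hz, h⟩
      rw [this, ← hd]; ring
  rw [h1, hzv, ← Finset.sum_sub_distrib, Finset.sum_congr rfl fun ξ _ => key ξ,
    ← Finset.mul_sum, Finset.sum_sub_distrib, hcol, hsq, sub_zero]

theorem key_divisibility {G : Type*} [Group G] [Fintype G] (L : Subgroup G) [Fintype L]
    (Z : Subgroup L) (e c : ℕ) (hec : c * e = Nat.card L) (hc : 0 < c)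
    (ψ : G → ℂ) (hψ : IsClassFunction G ψ)
    (horth : ∀ ξ ξ' : L → ℂ, IsIrrCharacter L ξ → (∃ z ∈ Z, ξ z ≠ ξ 1) →
      IsIrrCharacter L ξ' → (∃ z ∈ Z, ξ' z ≠ ξ' 1) →
        classInner (indFun L (ξ' 1 • ξ - ξ 1 • ξ')) ψ = 0)
    (h1523 : (∀ z z' : L, z ∈ Z → z' ∈ Z → z ≠ 1 → z' ≠ 1 → ψ z = ψ z') →
      ∀ z : L, z ∈ Z → z ≠ 1 → ∃ n d : ℤ, ψ z = n ∧ ψ 1 = d ∧ (c : ℤ) ∣ d - n)
    (hZ1 : Z ≠ ⊥)
    (η : L → ℂ) (hη : IsIrrCharacter L η) (hηZ : ∃ z ∈ Z, η z ≠ η 1) :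
    ∃ k : ℤ, (e : ℂ) * classInner η (fun x : L => ψ x) = k * η 1 := by
  classical
  set γ : L → ℂ := fun x : L => ψ x with hγdef
  have hγ : IsClassFunction L γ := by
    intro g h
    have := hψ (g : G) (h : G)
    simpa [hγdef] using this
  -- degrees
  have hdeg : ∀ ξ : L → ℂ, IsIrrCharacter L ξ →
      ξ 1 = (Cfsg.charDegree ξ : ℂ) ∧
        0 < Cfsg.charDegree ξ := fun ξ hξ =>
    ⟨Cfsg.Agent.Lib.Helper78.IsCharacter.apply_one_eq_charDegree
      (Cfsg.Agent.Lib.Helper78.IsIrrCharacter.isCharacter hξ),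
      Cfsg.Agent.Lib.Helper78.IsIrrCharacter.charDegree_pos hξ⟩
  -- proportionality
  have hprop0 : ∀ ξ ξ' : L → ℂ, IsIrrCharacter L ξ → (∃ z ∈ Z, ξ z ≠ ξ 1) →
      IsIrrCharacter L ξ' → (∃ z ∈ Z, ξ' z ≠ ξ' 1) →
      ξ' 1 * classInner ξ γ = ξ 1 * classInner ξ' γ := by
    intro ξ ξ' hξ hξZ hξ' hξ'Z
    have h := horth ξ ξ' hξ hξZ hξ' hξ'Z
    rw [Cfsg.Agent.Lib.Helper25.frobenius_reciprocity L _ ψ hψ,
      Cfsg.Agent.Lib.Helper26.classInner_sub_left,
      Cfsg.Agent.Lib.Helper78.classInner_smul_left,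
      Cfsg.Agent.Lib.Helper78.classInner_smul_left] at h
    linear_combination h
  obtain ⟨hη1, hηpos⟩ := hdeg η hη
  have hη0 : (η 1 : ℂ) ≠ 0 := by
    rw [hη1]; exact_mod_cast hηpos.ne'
  set κ : ℂ := classInner γ η / η 1 with hκ
  have hprop : ∀ ξ : IrrCharacter L, (∃ z ∈ Z, (ξ : L → ℂ) z ≠ (ξ : L → ℂ) 1) →
      classInner γ (ξ : L → ℂ) = κ * (ξ : L → ℂ) 1 := by
    intro ξ hξZ
    have h := hprop0 ξ.1 η ξ.2 hξZ hη hηZ
    have h2 := congrArg conj h
    rw [map_mul, map_mul, Cfsg.Agent.Lib.Helper78.classInner_conj_symm,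
      Cfsg.Agent.Lib.Helper78.classInner_conj_symm, hη1, (hdeg ξ.1 ξ.2).1,
      Complex.conj_natCast, Complex.conj_natCast] at h2
    rw [hκ, hη1, (hdeg ξ.1 ξ.2).1]
    rw [hη1] at hη0
    field_simp
    linear_combination h2
  have hval : ∀ z : L, z ∈ Z → z ≠ 1 → γ 1 - γ z = κ * (Nat.card L : ℂ) := fun z hz hz1 =>
    value_diff_of_proportional Z hγ κ hprop z hz hz1
  have hconst : ∀ z z' : L, z ∈ Z → z' ∈ Z → z ≠ 1 → z' ≠ 1 → ψ z = ψ z' := by
    intro z z' hz hz' hz1 hz'1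
    have h1 := hval z hz hz1
    have h2 := hval z' hz' hz'1
    have : γ z = γ z' := by linear_combination h2 - h1
    simpa [hγdef] using this
  obtain ⟨z, hz, hz1⟩ : ∃ z : L, z ∈ Z ∧ z ≠ 1 := by
    by_contra h
    apply hZ1
    rw [Subgroup.eq_bot_iff_forall]
    intro x hx
    by_contra hx1
    exact h ⟨x, hx, hx1⟩
  obtain ⟨n, d, hn, hd, k, hk⟩ := h1523 hconst z hz hz1
  refine ⟨k, ?_⟩
  have h1 := hval z hz hz1
  have hγ1 : γ 1 = (d : ℂ) := by
    simp only [hγdef]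
    exact_mod_cast hd
  have hγz : γ z = (n : ℂ) := by
    simp only [hγdef]
    exact hn
  rw [hγ1, hγz] at h1
  have h2 : ((d - n : ℤ) : ℂ) = ((c : ℤ) : ℂ) * (k : ℂ) := by
    rw [hk]; push_cast; ring
  have hcard : (Nat.card L : ℂ) = (c : ℂ) * (e : ℂ) := by
    rw [← hec]; push_cast; ring
  have hc0 : (c : ℂ) ≠ 0 := by exact_mod_cast hc.ne'
  have hκe : κ * (e : ℂ) = (k : ℂ) := by
    have h3 : (c : ℂ) * (κ * (e : ℂ)) = (c : ℂ) * (k : ℂ) := by
      push_cast at h2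
      rw [hcard] at h1
      linear_combination h2 - h1
    exact mul_left_cancel₀ hc0 h3
  -- conclude
  have h4 : classInner γ η = κ * η 1 := by
    rw [hκ]; field_simp
  have h5 : classInner η γ = conj (classInner γ η) :=
    (Cfsg.Agent.Lib.Helper78.classInner_conj_symm γ η).symm
  have hκconj : conj (κ * (e : ℂ)) = κ * (e : ℂ) := by
    rw [hκe]; simp
  rw [h5, h4, hη1, map_mul, Complex.conj_natCast, ← hκe]
  have h6 : conj κ * (e : ℂ) = κ * (e : ℂ) := by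
    rw [map_mul, Complex.conj_natCast] at hκconj
    exact hκconj
  linear_combination (Cfsg.charDegree η : ℂ) * h6

end Cfsg.Agent.Lib.Helper64
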