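import Mathlib
import Cfsg.Prelude.Def_OddOrderChar
import Cfsg.Agent.Lib.Helper26.SignLemma
import Cfsg.Agent.Lib.Helper26.IrrFactsInst
import Cfsg.Agent.Lib.Helper26.CohExt

/-!
# Twisting an extension on a two-element conjugate pair (helper64)

If `X = {χ, conj χ}` and `σ` is a linear isometry on `ℤ[X]` extending `α` on the degree-zero
part, then so is `θ ↦ - σ (conj θ)`.
-/

set_option autoImplicit false

namespace Cfsg.Agent.Lib.Helper64

open Cfsg Cfsg.Agent.Lib.Helper26
open scoped ComplexConjugate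

section conjsec

variable {X : Type*}

theorem conjFun_add (a b : X → ℂ) : conjFun (a + b) = conjFun a + conjFun b := by
  funext x; simp [conjFun]

theorem conjFun_zsmul (n : ℤ) (a : X → ℂ) : conjFun (n • a) = n • conjFun a := by
  funext x; simp [conjFun]

theorem conjFun_neg (a : X → ℂ) : conjFun (-a) = -conjFun a := by
  funext x; simp [conjFun]

theorem conjFun_zero : conjFun (0 : X → ℂ) = 0 := by
  funext x; simp [conjFun]

theorem conjFun_involutive (a : X → ℂ) : conjFun (conjFun a) = a := by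
  funext x; simp [conjFun]

theorem conjFun_apply (a : X → ℂ) (x : X) : conjFun a x = conj (a x) := rfl

theorem conjFun_mem_zspan {S : Set (X → ℂ)} (hS : ∀ ξ ∈ S, conjFun ξ ∈ S) {θ : X → ℂ}
    (hθ : θ ∈ zspan S) : conjFun θ ∈ zspan S := by
  have key : ∀ θ ∈ Submodule.span ℤ S, conjFun θ ∈ Submodule.span ℤ S := by
    intro θ hθ
    induction hθ using Submodule.span_induction with
    | mem x hx => exact Submodule.subset_span (hS x hx)
    | zero => rw [conjFun_zero]; exact Submodule.zero_mem _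
    | add x y _ _ ihx ihy => rw [conjFun_add]; exact Submodule.add_mem _ ihx ihy
    | smul n x _ ih => rw [conjFun_zsmul]; exact Submodule.smul_mem _ n ih
  exact key θ hθ

end conjsec

section innersec

variable {N : Type*} [Group N] [Fintype N]

theorem classInner_conjFun_conjFun (a b : N → ℂ) :
    classInner (conjFun a) (conjFun b) = conj (classInner a b) := by
  unfold classInner conjFun
  rw [map_mul, map_inv₀, Complex.conj_natCast, map_sum]
  congr 1
  apply Finset.sum_congr rfl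
  intro x _
  rw [map_mul]

theorem gen_of_mem_zspan (F : IrrFacts N) {S : Set (N → ℂ)}
    (hS : ∀ ξ ∈ S, IsIrrCharacter N ξ) {θ : N → ℂ} (hθ : θ ∈ zspan S) :
    IsGeneralizedCharacter N θ := by
  have key : ∀ θ ∈ Submodule.span ℤ S, IsGeneralizedCharacter N θ := by
    intro θ hθ
    induction hθ using Submodule.span_induction with
    | mem x hx =>
      exact isGeneralizedCharacter_of_isCharacter (IrrFacts.irr_isCharacter (hS x hx))
    | zero => exact gen_zero
    | add x y _ _ ihx ihy => exact F.gen_add ihx ihy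
    | smul n x _ ih => exact F.gen_zsmul n ih
  exact key θ hθ

theorem conj_classInner_of_mem_zspan (F : IrrFacts N) {S : Set (N → ℂ)}
    (hS : ∀ ξ ∈ S, IsIrrCharacter N ξ) {a b : N → ℂ} (ha : a ∈ zspan S) (hb : b ∈ zspan S) :
    conj (classInner a b) = classInner a b := by
  obtain ⟨n, hn⟩ := F.inner_int (gen_of_mem_zspan F hS ha) (gen_of_mem_zspan F hS hb)
  rw [hn]; simp

end innersec

section twistsec

variable {N : Type*} [Group N] [Fintype N] {G : Type*} [Group G] [Fintype G]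

/-- On a two-element conjugate pair, members of the span vanishing at `1` are anti-invariant
under conjugation. -/
theorem conjFun_eq_neg_of_pair (F : IrrFacts N) (X : Set (N → ℂ))
    (hirr : ∀ ξ ∈ X, IsIrrCharacter N ξ) (χ : N → ℂ) (hχ : χ ∈ X) (hχc : conjFun χ ∈ X)
    (hne : conjFun χ ≠ χ) (hX : ∀ ξ ∈ X, ξ = χ ∨ ξ = conjFun χ) {θ : N → ℂ}
    (hθ : θ ∈ zspanOn X ({1}ᶜ : Set N)) : conjFun θ = -θ := by
  classical
  obtain ⟨hθs, hθ1⟩ := mem_zspanOn_compl_one.1 hθ
  set T : Finset (N → ℂ) := {χ, conjFun χ} with hT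
  have hXT : X ⊆ (↑T : Set (N → ℂ)) := by
    intro ξ hξ
    rcases hX ξ hξ with h | h
    · rw [h]; simp [hT]
    · rw [h]; simp [hT]
  have hTirr : ∀ ξ ∈ T, IsIrrCharacter N ξ := by
    intro ξ hξ
    rw [hT, Finset.mem_insert, Finset.mem_singleton] at hξ
    rcases hξ with h | h
    · rw [h]; exact hirr χ hχ
    · rw [h]; exact hirr _ hχc
  have hθT : θ ∈ zspan (↑T : Set (N → ℂ)) := zspan_mono hXT hθs
  have hsum := F.zspan_eq_sum hTirr hθT
  rw [hT, Finset.sum_pair (Ne.symm hne)] at hsum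
  obtain ⟨c₁, hc₁, -⟩ := F.zspan_inner_int hirr hθs (hirr χ hχ)
  obtain ⟨c₂, hc₂, -⟩ := F.zspan_inner_int hirr hθs (hirr _ hχc)
  rw [hc₁, hc₂] at hsum
  obtain ⟨d, hd, hd1⟩ := F.deg_pos χ (hirr χ hχ)
  have hd1' : conjFun χ 1 = d := by rw [conjFun_apply, hd1]; simp
  have h1 := congrFun hsum 1
  simp only [Pi.add_apply, Pi.smul_apply, smul_eq_mul, hd1, hd1', hθ1] at h1
  have hd0 : (d : ℂ) ≠ 0 := by exact_mod_cast hd.ne'
  have hc : (c₂ : ℂ) = -(c₁ : ℂ) := by
    have : ((c₁ : ℂ) + (c₂ : ℂ)) * (d : ℂ) = 0 := by linear_combination -h1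
    rcases mul_eq_zero.1 this with h | h
    · linear_combination h
    · exact absurd h hd0
  funext x
  have hx := congrFun hsum x
  simp only [Pi.add_apply, Pi.smul_apply, smul_eq_mul, conjFun_apply] at hx
  rw [conjFun_apply, Pi.neg_apply, hx, hc]
  simp only [map_add, map_mul, map_neg, map_intCast, Complex.conj_conj]
  ring

theorem twist_isometry (F : IrrFacts N) (X : Set (N → ℂ))
    (hirr : ∀ ξ ∈ X, IsIrrCharacter N ξ) (χ : N → ℂ) (hχ : χ ∈ X) (hχc : conjFun χ ∈ X)
    (hne : conjFun χ ≠ χ) (hX : ∀ ξ ∈ X, ξ = χ ∨ ξ = conjFun χ)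
    (α σ : (N → ℂ) → (G → ℂ)) (hσ : IsLinearIsometryOn (zspan X) σ)
    (hσα : ∀ θ ∈ zspanOn X ({1}ᶜ : Set N), σ θ = α θ) :
    IsLinearIsometryOn (zspan X) (fun θ => - σ (conjFun θ)) ∧
      (∀ θ ∈ zspanOn X ({1}ᶜ : Set N), - σ (conjFun θ) = α θ) := by
  have hXc : ∀ ξ ∈ X, conjFun ξ ∈ X := by
    intro ξ hξ
    rcases hX ξ hξ with h | h
    · rw [h]; exact hχc
    · rw [h, conjFun_involutive]; exact hχ
  have hmem : ∀ θ ∈ zspan X, conjFun θ ∈ zspan X := fun θ hθ => conjFun_mem_zspan hXc hθ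
  refine ⟨⟨?_, ?_, ?_, ?_⟩, ?_⟩
  · intro a ha b hb
    show - σ (conjFun (a + b)) = - σ (conjFun a) + - σ (conjFun b)
    rw [conjFun_add, isom_add hσ (hmem a ha) (hmem b hb)]
    abel
  · intro a ha n
    show - σ (conjFun (n • a)) = n • - σ (conjFun a)
    rw [conjFun_zsmul, isom_zsmul hσ n (hmem a ha), smul_neg]
  · intro a ha b hb
    show classInner (- σ (conjFun a)) (- σ (conjFun b)) = classInner a b
    rw [classInner_neg_left, classInner_neg_right, neg_neg,
      isom_inner hσ (hmem a ha) (hmem b hb), classInner_conjFun_conjFun,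
      conj_classInner_of_mem_zspan F hirr ha hb]
  · intro a ha
    exact gen_neg (isom_gen hσ (hmem a ha))
  · intro θ hθ
    have h1 := conjFun_eq_neg_of_pair F X hirr χ hχ hχc hne hX hθ
    have hθs := (mem_zspanOn_compl_one.1 hθ).1
    rw [h1, isom_neg (isZClosed_zspan X) hσ hθs, neg_neg]
    exact hσα θ hθ

end twistsec

end Cfsg.Agent.Lib.Helper64
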