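import Mathlib
import Cfsg.Prelude.Def_OddOrderChar
import Cfsg.Agent.Lib.Helper26.SignLemma
import Cfsg.Agent.Lib.Helper26.IrrFactsInst
import Cfsg.Agent.Lib.Helper26.CohExt
import Cfsg.Agent.Lib.Helper25.Induced
import Cfsg.Agent.Lib.Helper74.IndLinear
import Cfsg.Agent.Lib.Helper75.Clifford
import Cfsg.Agent.Lib.Helper64.SibleyTwist
import Cfsg.Agent.S1531

/-!
# The linking step of Sibley's coherence theorem (helper64)
-/

set_option autoImplicit false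
set_option maxHeartbeats 1000000

namespace Cfsg.Agent.Lib.Helper64

open Cfsg Cfsg.Agent.Lib.Helper26
open scoped ComplexConjugate

section arith

/-- the integer arithmetic at the heart of the linking step -/
theorem link_arith (n₂ R : ℤ) (f t Y cA : ℤ) (hf : 0 < f) (hcA : 2 ≤ cA) (hn₂ : 0 ≤ n₂)
    (hR : 0 ≤ R)
    (h : n₂ + (f * t - f) ^ 2 + (cA - 1) * (f * t) ^ 2 + (1 + Y) ^ 2 + Y ^ 2 + R = 1 + f ^ 2) :
    n₂ = 0 ∧ R = 0 ∧ (t = 0 ∨ (cA = 2 ∧ t = 1)) ∧ (Y = 0 ∨ Y = -1) := by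
  have h1 : (f * t - f) ^ 2 + (cA - 1) * (f * t) ^ 2 = f ^ 2 * (t * (cA * t - 2)) + f ^ 2 := by
    ring
  have h2 : (1 + Y) ^ 2 + Y ^ 2 = 2 * (Y * (Y + 1)) + 1 := by ring
  have ht : 0 ≤ t * (cA * t - 2) := by
    rcases le_or_gt t 0 with h0 | h0
    · apply mul_nonneg_of_nonpos_of_nonpos h0
      nlinarith
    · apply mul_nonneg h0.le
      nlinarith
  have hY : 0 ≤ Y * (Y + 1) := by
    rcases le_or_gt Y (-1) with h0 | h0
    · apply mul_nonneg_of_nonpos_of_nonpos (by omega) (by omega)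
    · apply mul_nonneg (by omega) (by omega)
  have hf2 : 0 < f ^ 2 := by positivity
  have hft : 0 ≤ f ^ 2 * (t * (cA * t - 2)) := mul_nonneg hf2.le ht
  have hsum : n₂ + f ^ 2 * (t * (cA * t - 2)) + 2 * (Y * (Y + 1)) + R = 0 := by
    linarith
  have e1 : n₂ = 0 := by linarith
  have e2 : R = 0 := by linarith
  have e3 : f ^ 2 * (t * (cA * t - 2)) = 0 := by linarith
  have e4 : Y * (Y + 1) = 0 := by linarith
  refine ⟨e1, e2, ?_, ?_⟩
  · rcases mul_eq_zero.1 e3 with h0 | h0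
    · exact absurd h0 hf2.ne'
    · rcases mul_eq_zero.1 h0 with h0 | h0
      · left; exact h0
      · right
        have h3 : cA * t = 2 := by linarith
        have ht1 : 0 < t := by
          by_contra hneg
          have : cA * t ≤ 0 := mul_nonpos_of_nonneg_of_nonpos (by omega) (by omega)
          omega
        have : t = 1 := by
          by_contra hne
          have : 2 ≤ t := by omega
          nlinarith
        subst this
        constructor <;> omega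
  · rcases mul_eq_zero.1 e4 with h0 | h0
    · left; exact h0
    · right; omega

end arith

section sides

variable {N : Type*} [Group N] [Fintype N] {G : Type*} [Group G] [Fintype G]

/-- resolution of the `A`-side: either the given extension works, or its twist does -/
theorem link_A_side (F : IrrFacts N) (A : Set (N → ℂ)) (As : Finset (N → ℂ))
    (hAs : ∀ ξ, ξ ∈ As ↔ ξ ∈ A) (hirrA : ∀ ξ ∈ A, IsIrrCharacter N ξ)
    (χ : N → ℂ) (hχ : χ ∈ A) (hχc : conjFun χ ∈ A) (hne : conjFun χ ≠ χ)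
    (α σ : (N → ℂ) → (G → ℂ)) (hσ : IsLinearIsometryOn (zspan A) σ)
    (hσα : ∀ θ ∈ zspanOn A ({1}ᶜ : Set N), σ θ = α θ)
    (a : (N → ℂ) → ℤ) (f t : ℤ)
    (ha : ∀ ξ ∈ A, a ξ = f * t - (if χ = ξ then f else 0))
    (hcase : t = 0 ∨ (As.card = 2 ∧ t = 1)) :
    ∃ σ' : (N → ℂ) → (G → ℂ), IsLinearIsometryOn (zspan A) σ' ∧
      (∀ θ ∈ zspanOn A ({1}ᶜ : Set N), σ' θ = α θ) ∧
      ∑ i ∈ As, a i • σ i = -(f • σ' χ) := by
  classical
  rcases hcase with ht | ⟨hcard, ht⟩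
  · refine ⟨σ, hσ, hσα, ?_⟩
    subst ht
    have : ∀ i ∈ As, a i • σ i = if χ = i then -(f • σ χ) else 0 := by
      intro i hi
      rw [ha i ((hAs i).1 hi)]
      by_cases h : χ = i
      · subst h; simp
      · simp [h]
    rw [Finset.sum_congr rfl this, Finset.sum_ite_eq As χ, if_pos ((hAs χ).2 hχ)]
  · subst ht
    have hAseq : As = {χ, conjFun χ} := by
      symm
      apply Finset.eq_of_subset_of_card_le
      · intro ξ hξ
        rw [Finset.mem_insert, Finset.mem_singleton] at hξ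
        rcases hξ with h | h
        · rw [h]; exact (hAs χ).2 hχ
        · rw [h]; exact (hAs _).2 hχc
      · rw [hcard, Finset.card_pair (Ne.symm hne)]
    have hX : ∀ ξ ∈ A, ξ = χ ∨ ξ = conjFun χ := by
      intro ξ hξ
      have := (hAs ξ).2 hξ
      rw [hAseq, Finset.mem_insert, Finset.mem_singleton] at this
      exact this
    obtain ⟨h1, h2⟩ := twist_isometry F A hirrA χ hχ hχc hne hX α σ hσ hσα
    refine ⟨fun θ => - σ (conjFun θ), h1, h2, ?_⟩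
    rw [hAseq, Finset.sum_pair (Ne.symm hne), ha χ hχ, ha _ hχc, if_pos rfl,
      if_neg (Ne.symm hne)]
    simp

/-- resolution of the `B`-side -/
theorem link_B_side (F : IrrFacts N) (B : Set (N → ℂ)) (Bs : Finset (N → ℂ))
    (hBs : ∀ ξ, ξ ∈ Bs ↔ ξ ∈ B) (hirrB : ∀ ξ ∈ B, IsIrrCharacter N ξ)
    (η : N → ℂ) (hη : η ∈ B) (hηc : conjFun η ∈ B) (hne : conjFun η ≠ η)
    (α τB : (N → ℂ) → (G → ℂ)) (hτB : IsLinearIsometryOn (zspan B) τB)
    (hτBα : ∀ θ ∈ zspanOn B ({1}ᶜ : Set N), τB θ = α θ)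
    (b : (N → ℂ) → ℤ) (Y : ℤ) (hbη : b η = 1 + Y) (hbηc : b (conjFun η) = Y)
    (hbrest : ∀ ξ ∈ B, ξ ≠ η → ξ ≠ conjFun η → b ξ = 0)
    (hY : Y = 0 ∨ (Y = -1 ∧ ∀ ξ ∈ B, ξ = η ∨ ξ = conjFun η)) :
    ∃ τ' : (N → ℂ) → (G → ℂ), IsLinearIsometryOn (zspan B) τ' ∧
      (∀ θ ∈ zspanOn B ({1}ᶜ : Set N), τ' θ = α θ) ∧
      ∑ i ∈ Bs, b i • τB i = τ' η := by
  classical
  have hsum : ∑ i ∈ Bs, b i • τB i = (1 + Y) • τB η + Y • τB (conjFun η) := by
    have hηs : η ∈ Bs := (hBs η).2 hη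
    have hηcs : conjFun η ∈ Bs.erase η :=
      Finset.mem_erase.2 ⟨hne, (hBs _).2 hηc⟩
    rw [← Finset.add_sum_erase Bs _ hηs, ← Finset.add_sum_erase (Bs.erase η) _ hηcs, hbη, hbηc]
    have : ∑ x ∈ (Bs.erase η).erase (conjFun η), b x • τB x = 0 := by
      apply Finset.sum_eq_zero
      intro ξ hξ
      rw [Finset.mem_erase, Finset.mem_erase] at hξ
      rw [hbrest ξ ((hBs ξ).1 hξ.2.2) hξ.2.1 hξ.1, zero_smul]
    rw [this, add_zero]
  rcases hY with hY | ⟨hY, hX⟩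
  · refine ⟨τB, hτB, hτBα, ?_⟩
    rw [hsum, hY]; simp
  · obtain ⟨h1, h2⟩ := twist_isometry F B hirrB η hη hηc hne hX α τB hτB hτBα
    refine ⟨fun θ => - τB (conjFun θ), h1, h2, ?_⟩
    rw [hsum, hY]; simp

end sides

section main

variable {G : Type*} [Group G] [Fintype G]

theorem sibley_link (N : Subgroup G) [Fintype N]
    (S A B : Set (N → ℂ)) (hirr : ∀ ξ ∈ S, IsIrrCharacter N ξ) (hAS : A ⊆ S) (hBS : B ⊆ S)
    (hAB : Disjoint A B) (hAne : A.Nonempty) (hBne : B.Nonempty)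
    (hAc : ∀ ξ ∈ A, conjFun ξ ∈ A ∧ conjFun ξ ≠ ξ) (hBc : ∀ ξ ∈ B, conjFun ξ ∈ B ∧ conjFun ξ ≠ ξ)
    (hτ : IsLinearIsometryOn (zspanOn S {1}ᶜ) (fun α : N → ℂ => indFun N α))
    (hτ1 : ∀ α ∈ zspanOn S {1}ᶜ, indFun N α 1 = 0)
    (hA : IsCoherent A {1}ᶜ (fun α : N → ℂ => indFun N α))
    (hB : IsCoherent B {1}ᶜ (fun α : N → ℂ => indFun N α))
    (e : ℕ) (he : 0 < e) (hdegA : ∀ χ ∈ A, χ 1 = e) (hdegB : ∀ η ∈ B, ∃ f : ℕ, η 1 = e * f)
    (hkey : ∀ ψ : G → ℂ, IsIrrCharacter G ψ →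
       (∀ ξ ∈ B, ∀ ξ' ∈ B, classInner (indFun N (ξ' 1 • ξ - ξ 1 • ξ')) ψ = 0) →
       ∀ η ∈ B, ∃ k : ℤ, (e : ℂ) * classInner η (fun x : N => ψ x) = k * η 1) :
    IsCoherent (A ∪ B) {1}ᶜ (fun α : N → ℂ => indFun N α) := by
  classical
  set τ : (N → ℂ) → (G → ℂ) := fun α => indFun N α with hτdef
  have F := irrFacts N
  have F' := irrFacts G
  obtain ⟨-, σ, hσ, hσα⟩ := hA
  obtain ⟨-, τB, hτB, hτBα⟩ := hB
  have hirrA : ∀ ξ ∈ A, IsIrrCharacter N ξ := fun ξ h => hirr ξ (hAS h)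
  have hirrB : ∀ ξ ∈ B, IsIrrCharacter N ξ := fun ξ h => hirr ξ (hBS h)
  obtain ⟨χ, hχ⟩ := hAne
  obtain ⟨η, hη⟩ := hBne
  obtain ⟨hχc, hχne⟩ := hAc χ hχ
  obtain ⟨hηc, hηne⟩ := hBc η hη
  obtain ⟨f, hf⟩ := hdegB η hη
  have hX2 : ∃ a ∈ A, ∃ b ∈ A, a ≠ b := ⟨_, hχc, χ, hχ, hχne⟩
  have hY2 : ∃ a ∈ B, ∃ b ∈ B, a ≠ b := ⟨_, hηc, η, hη, hηne⟩
  have hcross : ∀ ξ ∈ A, ∀ ζ ∈ B, classInner (σ ξ) (τB ζ) = 0 :=
    (Cfsg.Agent.S1531.result N S A B hirr hAS hBS hAB hX2 hY2 τ hτ hτ1 σ τB hσ hσα hτB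
      hτBα).1
  -- disjointness facts
  have hAnotB : ∀ ξ ∈ A, ∀ ζ ∈ B, ξ ≠ ζ := by
    intro ξ hξ ζ hζ h
    exact Set.disjoint_left.1 hAB hξ (h ▸ hζ)
  have horthAB : ∀ ξ ∈ A, ∀ ζ ∈ B, classInner ξ ζ = 0 := by
    intro ξ hξ ζ hζ
    rw [F.orthonormal ξ ζ (hirrA ξ hξ) (hirrB ζ hζ), if_neg (hAnotB ξ hξ ζ hζ)]
  have horthBA : ∀ ζ ∈ B, ∀ ξ ∈ A, classInner ζ ξ = 0 := by
    intro ζ hζ ξ hξ
    rw [F.orthonormal ζ ξ (hirrB ζ hζ) (hirrA ξ hξ), if_neg (Ne.symm (hAnotB ξ hξ ζ hζ))]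
  -- degrees
  have he0 : (e : ℂ) ≠ 0 := by exact_mod_cast he.ne'
  have hχ1 : χ 1 = e := hdegA χ hχ
  have hfpos : 0 < f := by
    obtain ⟨n, hn, hn1⟩ := F.deg_pos η (hirrB η hη)
    rw [hf] at hn1
    have : e * f = n := by exact_mod_cast hn1
    by_contra h0
    have : f = 0 := by omega
    subst this
    omega
  set fz : ℤ := (f : ℤ) with hfz
  have hfz0 : 0 < fz := by rw [hfz]; exact_mod_cast hfpos
  -- the linking element
  set α' : N → ℂ := η - fz • χ with hα'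
  have hα'S : α' ∈ zspanOn S ({1}ᶜ : Set N) := by
    apply mem_zspanOn_compl_one.2
    refine ⟨zspan_sub (subset_zspan S (hBS hη)) (zspan_zsmul fz (subset_zspan S (hAS hχ))), ?_⟩
    simp only [hα', Pi.sub_apply, Pi.smul_apply, hf, hχ1, hfz]
    simp
    ring
  set Φ : G → ℂ := τ α' with hΦ
  have hΦgen : IsGeneralizedCharacter G Φ := isom_gen hτ hα'S
  have hα'ξA : ∀ ξ ∈ A, classInner α' ξ = -(fz : ℂ) * (if χ = ξ then 1 else 0) := by
    intro ξ hξ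
    rw [hα', classInner_sub_left, classInner_zsmul_left, horthBA η hη ξ hξ,
      F.orthonormal χ ξ (hirrA χ hχ) (hirrA ξ hξ)]
    ring
  have hα'ξB : ∀ ξ ∈ B, classInner α' ξ = (if η = ξ then 1 else 0) := by
    intro ξ hξ
    rw [hα', classInner_sub_left, classInner_zsmul_left, horthAB χ hχ ξ hξ,
      F.orthonormal η ξ (hirrB η hη) (hirrB ξ hξ)]
    ring
  have hnormα' : classInner α' α' = 1 + (fz : ℂ) ^ 2 := by
    have h1 : classInner α' α' = classInner α' η - (fz : ℂ) * classInner α' χ := by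
      conv_lhs => rw [hα']
      rw [classInner_sub_right, classInner_zsmul_right]
    rw [h1, hα'ξB η hη, hα'ξA χ hχ, if_pos rfl, if_pos rfl]
    ring
  have hnormΦ : classInner Φ Φ = 1 + (fz : ℂ) ^ 2 := by
    rw [hΦ, isom_inner hτ hα'S hα'S, hnormα']
  -- finite versions of A and B
  have hAfin : A.Finite := F.finite_of_irr hirrA
  have hBfin : B.Finite := F.finite_of_irr hirrB
  set As : Finset (N → ℂ) := hAfin.toFinset with hAsdef
  set Bs : Finset (N → ℂ) := hBfin.toFinset with hBsdef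
  have hAs : ∀ ξ, ξ ∈ As ↔ ξ ∈ A := fun ξ => Set.Finite.mem_toFinset hAfin
  have hBs : ∀ ξ, ξ ∈ Bs ↔ ξ ∈ B := fun ξ => Set.Finite.mem_toFinset hBfin
  -- orthonormality of the images
  have horthσ : ∀ i ∈ As, ∀ j ∈ As, classInner (σ i) (σ j) = if i = j then 1 else 0 := by
    intro i hi j hj
    rw [isom_inner hσ (subset_zspan A ((hAs i).1 hi)) (subset_zspan A ((hAs j).1 hj))]
    exact F.orthonormal i j (hirrA i ((hAs i).1 hi)) (hirrA j ((hAs j).1 hj))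
  have hgenσ : ∀ i ∈ As, IsGeneralizedCharacter G (σ i) := fun i hi =>
    isom_gen hσ (subset_zspan A ((hAs i).1 hi))
  have horthτB : ∀ i ∈ Bs, ∀ j ∈ Bs, classInner (τB i) (τB j) = if i = j then 1 else 0 := by
    intro i hi j hj
    rw [isom_inner hτB (subset_zspan B ((hBs i).1 hi)) (subset_zspan B ((hBs j).1 hj))]
    exact F.orthonormal i j (hirrB i ((hBs i).1 hi)) (hirrB j ((hBs j).1 hj))
  have hgenτB : ∀ i ∈ Bs, IsGeneralizedCharacter G (τB i) := fun i hi =>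
    isom_gen hτB (subset_zspan B ((hBs i).1 hi))
  -- the two orthogonal decompositions
  obtain ⟨a, Γ₁, hΓ₁gen, hΦeq, ha, hΓ₁orth, hΓ₁norm⟩ :=
    F'.exists_orth_decomp As σ horthσ hgenσ hΦgen
  obtain ⟨b, Γ₂, hΓ₂gen, hΓ₁eq, hb, hΓ₂orth, hΓ₂norm⟩ :=
    F'.exists_orth_decomp Bs τB horthτB hgenτB hΓ₁gen
  have hbΦ : ∀ i ∈ Bs, classInner Φ (τB i) = b i := by
    intro i hi
    rw [hΦeq, classInner_add_left, hb i hi, classInner_sum_left]
    have : ∑ j ∈ As, classInner (a j • σ j) (τB i) = 0 := by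
      apply Finset.sum_eq_zero
      intro j hj
      rw [classInner_zsmul_left, hcross j ((hAs j).1 hj) i ((hBs i).1 hi), mul_zero]
    rw [this, add_zero]
  -- the `A`-coefficients
  set χc : N → ℂ := conjFun χ with hχcdef
  have hχc1 : χc 1 = e := by
    rw [hχcdef, conjFun_apply, hχ1]; simp
  have hχcs : χc ∈ As := (hAs _).2 hχc
  have haval : ∀ ξ ∈ A, (a ξ : ℂ) = (a χc : ℂ) - (fz : ℂ) * (if χ = ξ then 1 else 0) := by
    intro ξ hξ
    have hξs : ξ ∈ As := (hAs ξ).2 hξ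
    have hmem : ξ - χc ∈ zspanOn A ({1}ᶜ : Set N) := by
      apply mem_zspanOn_compl_one.2
      refine ⟨zspan_sub (subset_zspan A hξ) (subset_zspan A hχc), ?_⟩
      simp only [Pi.sub_apply, hdegA ξ hξ, hχc1, sub_self]
    have h1 : σ (ξ - χc) = σ ξ - σ χc :=
      isom_sub (isZClosed_zspan A) hσ (subset_zspan A hξ) (subset_zspan A hχc)
    have h2 : σ (ξ - χc) = τ (ξ - χc) := hσα _ hmem
    have h3 : classInner Φ (τ (ξ - χc)) = classInner α' (ξ - χc) :=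
      isom_inner hτ hα'S (zspanOn_mono _ hAS hmem)
    rw [← h2, h1, classInner_sub_right, ha ξ hξs, ha χc hχcs, classInner_sub_right,
      hα'ξA ξ hξ, hα'ξA χc hχc, if_neg (Ne.symm hχne)] at h3
    linear_combination h3
  -- the `B`-coefficients
  set ηc : N → ℂ := conjFun η with hηcdef
  have hηc1 : ηc 1 = (e : ℂ) * f := by
    rw [hηcdef, conjFun_apply, hf]; simp
  have hηs : η ∈ Bs := (hBs _).2 hη
  have hηcs : ηc ∈ Bs := (hBs _).2 hηc
  have hbval : ∀ ξ ∈ B, η 1 * ((b ξ : ℂ) - (if η = ξ then 1 else 0)) = ξ 1 * ((b η : ℂ) - 1) := by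
    intro ξ hξ
    have hξs : ξ ∈ Bs := (hBs ξ).2 hξ
    have hmem := F.degDiff_mem_on hirrB hξ hη
    have h1 := F.isom_degDiff hirrB hτB hξ hη
    have h2 : τB (degDiff ξ η) = τ (degDiff ξ η) := hτBα _ hmem
    have h3 : classInner Φ (τ (degDiff ξ η)) = classInner α' (degDiff ξ η) :=
      isom_inner hτ hα'S (zspanOn_mono _ hBS hmem)
    obtain ⟨n, -, hn1⟩ := F.deg_pos ξ (hirrB ξ hξ)
    rw [← h2, h1, classInner_sub_right, classInner_smul_right, classInner_smul_right,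
      hbΦ ξ hξs, hbΦ η hηs] at h3
    unfold degDiff at h3
    rw [classInner_sub_right, classInner_smul_right, classInner_smul_right, hα'ξB ξ hξ,
      hα'ξB η hη, if_pos rfl, hf, hn1] at h3
    simp only [map_mul, Complex.conj_natCast] at h3
    rw [hf, hn1]
    linear_combination h3
  set Y : ℤ := b η - 1 with hYdef
  have hbη : b η = 1 + Y := by rw [hYdef]; ring
  have hbηc : b ηc = Y := by
    have h := hbval ηc hηc
    rw [if_neg (Ne.symm hηne), hηc1, hf] at h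
    have hef : ((e : ℂ) * f) ≠ 0 := mul_ne_zero he0 (by exact_mod_cast hfpos.ne')
    have h2 : ((b ηc : ℤ) : ℂ) = ((b η - 1 : ℤ) : ℂ) := by
      push_cast
      have := mul_left_cancel₀ hef h
      linear_combination this
    exact_mod_cast h2
  -- divisibility of `x = a χc` by `f`, from the key hypothesis
  have h0σ : ∀ θ ∈ zspan A, θ 1 = 0 → σ θ 1 = 0 := by
    intro θ hθ h1
    have hm : θ ∈ zspanOn A ({1}ᶜ : Set N) := mem_zspanOn_compl_one.2 ⟨hθ, h1⟩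
    rw [hσα θ hm]
    exact hτ1 θ (zspanOn_mono _ hAS hm)
  obtain ⟨ε, hε, hεirr, -⟩ := sign_lemma F F' A hirrA hX2 σ hσ h0σ
  have hψirr : IsIrrCharacter G (ε • σ χc) := hεirr χc hχc
  have hψcl : IsClassFunction G (ε • σ χc) :=
    Cfsg.Agent.Lib.Helper78.IsCharacter.isClassFunction
      (Cfsg.Agent.Lib.Helper78.IsIrrCharacter.isCharacter hψirr)
  have horthψ : ∀ ξ ∈ B, ∀ ξ' ∈ B,
      classInner (indFun N (ξ' 1 • ξ - ξ 1 • ξ')) (ε • σ χc) = 0 := by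
    intro ξ hξ ξ' hξ'
    have hmem := F.degDiff_mem_on hirrB hξ hξ'
    have h1 := F.isom_degDiff hirrB hτB hξ hξ'
    have h2 : τB (degDiff ξ ξ') = τ (degDiff ξ ξ') := hτBα _ hmem
    have h3 : indFun N (ξ' 1 • ξ - ξ 1 • ξ') = ξ' 1 • τB ξ - ξ 1 • τB ξ' := by
      rw [← h1, h2]; rfl
    rw [h3, classInner_smul_right, classInner_sub_left, classInner_smul_left,
      classInner_smul_left]
    have h4 : ∀ ζ ∈ B, classInner (τB ζ) (σ χc) = 0 := by
      intro ζ hζ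
      rw [← classInner_conj_symm, hcross χc hχc ζ hζ, map_zero]
    rw [h4 ξ hξ, h4 ξ' hξ']
    ring
  obtain ⟨k, hk⟩ := hkey _ hψirr horthψ η hη
  have hresgen : IsGeneralizedCharacter N (fun x : N => (ε • σ χc) x) :=
    isGeneralizedCharacter_of_isCharacter
      (Cfsg.Agent.Lib.Helper75.isCharacter_res N
        (Cfsg.Agent.Lib.Helper78.IsIrrCharacter.isCharacter hψirr))
  obtain ⟨m, hm⟩ := F.inner_int
    (isGeneralizedCharacter_of_isCharacter (IrrFacts.irr_isCharacter (hirrA χ hχ))) hresgen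
  have hηres : classInner η (fun x : N => (ε • σ χc) x) = (k : ℂ) * (fz : ℂ) := by
    rw [hf] at hk
    have : (e : ℂ) * classInner η (fun x : N => (ε • σ χc) x) = (e : ℂ) * ((k : ℂ) * (f : ℂ)) := by
      linear_combination hk
    rw [hfz]
    push_cast
    exact mul_left_cancel₀ he0 this
  have hΦψ : classInner Φ (ε • σ χc) = (fz : ℂ) * ((k : ℂ) - (m : ℂ)) := by
    rw [hΦ, hτdef]
    show classInner (indFun N α') (ε • σ χc) = _
    rw [Cfsg.Agent.Lib.Helper25.frobenius_reciprocity N α' _ hψcl, hα', classInner_sub_left,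
      classInner_zsmul_left, hηres, hm]
    ring
  obtain ⟨t, ht⟩ : ∃ t : ℤ, a χc = fz * t := by
    rw [classInner_smul_right, ha χc hχcs] at hΦψ
    rcases hε with rfl | rfl
    · refine ⟨k - m, ?_⟩
      have : ((a χc : ℤ) : ℂ) = ((fz * (k - m) : ℤ) : ℂ) := by
        push_cast
        simpa using hΦψ
      exact_mod_cast this
    · refine ⟨m - k, ?_⟩
      have : ((a χc : ℤ) : ℂ) = ((fz * (m - k) : ℤ) : ℂ) := by
        push_cast
        have h := hΦψ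
        simp only [map_neg, map_one] at h
        linear_combination -h
      exact_mod_cast this
  have haZ : ∀ ξ ∈ A, a ξ = fz * t - (if χ = ξ then fz else 0) := by
    intro ξ hξ
    have h := haval ξ hξ
    rw [ht] at h
    push_cast at h
    by_cases hc : χ = ξ
    · rw [if_pos hc] at h ⊢
      have : ((a ξ : ℤ) : ℂ) = ((fz * t - fz : ℤ) : ℂ) := by
        push_cast; linear_combination h
      exact_mod_cast this
    · rw [if_neg hc] at h ⊢
      have : ((a ξ : ℤ) : ℂ) = ((fz * t - 0 : ℤ) : ℂ) := by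
        push_cast; linear_combination h
      exact_mod_cast this
  -- the norm equation
  have hχs : χ ∈ As := (hAs _).2 hχ
  obtain ⟨n₂, hn₂⟩ := F'.norm_nat hΓ₂gen
  have hcard2 : 1 < As.card := Finset.one_lt_card.2 ⟨χ, hχs, χc, hχcs, Ne.symm hχne⟩
  have hSA : ∑ i ∈ As, (a i) ^ 2 = (fz * t - fz) ^ 2 + ((As.card : ℤ) - 1) * (fz * t) ^ 2 := by
    rw [← Finset.add_sum_erase As _ hχs, haZ χ hχ, if_pos rfl]
    congr 1
    have : ∀ i ∈ As.erase χ, (a i) ^ 2 = (fz * t) ^ 2 := by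
      intro i hi
      rw [Finset.mem_erase] at hi
      rw [haZ i ((hAs i).1 hi.2), if_neg (Ne.symm hi.1), sub_zero]
    rw [Finset.sum_congr rfl this, Finset.sum_const, Finset.card_erase_of_mem hχs, nsmul_eq_mul]
    congr 1
    have : 1 ≤ As.card := hcard2.le
    push_cast [Nat.cast_sub this]
    ring
  have hηcs' : ηc ∈ Bs.erase η := Finset.mem_erase.2 ⟨hηne, hηcs⟩
  set R : ℤ := ∑ i ∈ (Bs.erase η).erase ηc, (b i) ^ 2 with hRdef
  have hR0 : 0 ≤ R := Finset.sum_nonneg fun i _ => sq_nonneg _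
  have hSB : ∑ i ∈ Bs, (b i) ^ 2 = (1 + Y) ^ 2 + Y ^ 2 + R := by
    rw [← Finset.add_sum_erase Bs _ hηs, ← Finset.add_sum_erase (Bs.erase η) _ hηcs', hbη, hbηc,
      hRdef]
    ring
  have hnormeq : (n₂ : ℤ) + (fz * t - fz) ^ 2 + ((As.card : ℤ) - 1) * (fz * t) ^ 2 + (1 + Y) ^ 2
      + Y ^ 2 + R = 1 + fz ^ 2 := by
    have h1 : ((n₂ : ℤ) : ℂ) + ((∑ i ∈ As, (a i) ^ 2 : ℤ) : ℂ) + ((∑ i ∈ Bs, (b i) ^ 2 : ℤ) : ℂ)
        = ((1 + fz ^ 2 : ℤ) : ℂ) := by
      push_cast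
      rw [← hn₂, hΓ₂norm, hΓ₁norm, hnormΦ]
      ring
    have h2 : (n₂ : ℤ) + ∑ i ∈ As, (a i) ^ 2 + ∑ i ∈ Bs, (b i) ^ 2 = 1 + fz ^ 2 := by
      exact_mod_cast h1
    rw [hSA, hSB] at h2
    linarith
  obtain ⟨hn₂0, hR0', htcase, hYcase⟩ := link_arith (n₂ : ℤ) R fz t Y (As.card : ℤ) hfz0
    (by exact_mod_cast hcard2) (by positivity) hR0 hnormeq
  have hΓ₂0 : Γ₂ = 0 := by
    apply classInner_self_eq_zero
    rw [hn₂]
    have : n₂ = 0 := by exact_mod_cast hn₂0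
    rw [this]; simp
  have hbrest : ∀ ξ ∈ B, ξ ≠ η → ξ ≠ ηc → b ξ = 0 := by
    intro ξ hξ h1 h2
    have hmem : ξ ∈ (Bs.erase η).erase ηc :=
      Finset.mem_erase.2 ⟨h2, Finset.mem_erase.2 ⟨h1, (hBs ξ).2 hξ⟩⟩
    have := (Finset.sum_eq_zero_iff_of_nonneg (fun i _ => sq_nonneg (b i))).1 hR0' ξ hmem
    exact pow_eq_zero_iff (two_ne_zero) |>.1 this
  have hYcase' : Y = 0 ∨ (Y = -1 ∧ ∀ ξ ∈ B, ξ = η ∨ ξ = ηc) := by
    rcases hYcase with h | h
    · left; exact h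
    · right
      refine ⟨h, ?_⟩
      intro ξ hξ
      by_contra hcon
      rw [not_or] at hcon
      have h1 := hbrest ξ hξ hcon.1 hcon.2
      have h2 := hbval ξ hξ
      rw [h1, if_neg (Ne.symm hcon.1)] at h2
      have hY' : ((b η : ℤ) : ℂ) - 1 = -1 := by
        have : ((b η - 1 : ℤ) : ℂ) = ((-1 : ℤ) : ℂ) := by rw [← hYdef, h]
        push_cast at this
        exact this
      rw [hY'] at h2
      obtain ⟨n, hn, hn1⟩ := F.deg_pos ξ (hirrB ξ hξ)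
      rw [hn1] at h2
      have : (n : ℂ) = 0 := by
        have h3 := h2
        simp only [Int.cast_zero, sub_zero, mul_zero] at h3
        linear_combination h3
      have : n = 0 := by exact_mod_cast this
      omega
  have htcase' : t = 0 ∨ (As.card = 2 ∧ t = 1) := by
    rcases htcase with h | ⟨h1, h2⟩
    · left; exact h
    · right; exact ⟨by exact_mod_cast h1, h2⟩
  obtain ⟨σ', hσ', hσ'α, hAsum⟩ :=
    link_A_side F A As hAs hirrA χ hχ hχc hχne τ σ hσ hσα a fz t haZ htcase'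
  obtain ⟨τ', hτ', hτ'α, hBsum⟩ :=
    link_B_side F B Bs hBs hirrB η hη hηc hηne τ τB hτB hτBα b Y hbη hbηc hbrest hYcase'
  have hΦfinal : Φ = τ' η - fz • σ' χ := by
    rw [hΦeq, hΓ₁eq, hΓ₂0, hAsum, hBsum]
    abel
  refine (Cfsg.Agent.S1531.result N S A B hirr hAS hBS hAB hX2 hY2 τ hτ hτ1 σ' τ' hσ' hσ'α hτ'
    hτ'α).2 ⟨χ, hχ, η, hη, ?_⟩
  have h1 : χ 1 • η - η 1 • χ = (e : ℂ) • α' := by
    funext x
    have hz : fz • χ x = (f : ℂ) * χ x := by simp [hfz]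
    simp only [hα', hχ1, hf, Pi.sub_apply, Pi.smul_apply, smul_eq_mul]
    rw [hz]
    ring
  have h2 : τ ((e : ℂ) • α') = (e : ℂ) • Φ := by
    rw [hΦ, hτdef]
    exact Cfsg.Agent.Lib.Helper74.indFun_smul N (e : ℂ) α'
  rw [h1, h2, hΦfinal]
  funext x
  have hz : fz • σ' χ x = (f : ℂ) * σ' χ x := by simp [hfz]
  simp only [hχ1, hf, Pi.sub_apply, Pi.smul_apply, smul_eq_mul]
  rw [hz]
  ring

end main

end Cfsg.Agent.Lib.Helper64
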