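import Mathlib
import Cfsg.Prelude.Def_OddOrderChar
import Cfsg.Agent.Lib.Helper78.CharMore
import Cfsg.Agent.Lib.Helper75.Clifford
import Cfsg.Agent.Lib.Helper75.IndNormal
import Cfsg.Agent.Lib.Helper75.BGChar
import Cfsg.Agent.S0148

/-!
# Sum of squares of the degrees of the irreducible characters trivial on a normal subgroup (helper64)
-/

set_option autoImplicit false

namespace Cfsg.Agent.Lib.Helper64

open Cfsg
open scoped ComplexConjugate

open Classical in
/-- the irreducible characters of `L` trivial on the normal subgroup `Z` have squared degrees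
summing to `[L:Z]`. -/
theorem sum_sq_degree_trivial_on {L : Type*} [Group L] [Fintype L] (Z : Subgroup L) [hZ : Z.Normal] :
    ∑ ξ ∈ Finset.univ.filter
        (fun ξ : Cfsg.IrrCharacter L => ∀ z ∈ Z, (ξ : L → ℂ) z = (ξ : L → ℂ) 1),
      ((ξ : L → ℂ) 1) ^ 2 = (Z.index : ℂ) := by
  have : Fintype Z := Fintype.ofFinite Z
  set ρ : L → ℂ := indFun Z (fun _ : Z => (1 : ℂ)) with hρ
  have hρchar : IsCharacter L ρ :=
    Cfsg.Agent.S0148.result Z _
      (Cfsg.Agent.Lib.Helper78.IsIrrCharacter.isCharacter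
        Cfsg.Agent.Lib.Helper78.isIrrCharacter_one)
  have hρ1 : ρ 1 = (Z.index : ℂ) := by
    rw [hρ, Cfsg.Agent.Lib.Helper75.indFun_one]; simp
  have hρZ : ∀ z ∈ Z, ρ z = ρ 1 := fun z hz =>
    Cfsg.Agent.Lib.Helper75.indFun_eq_of_forall_eq Z Z le_rfl _ (fun _ _ => rfl) z hz
  have hexp := Cfsg.Agent.Lib.Helper78.IsCharacter.eq_sum_irr hρchar
  have hcoef : ∀ ξ : IrrCharacter L,
      classInner ρ (ξ : L → ℂ) * (ξ : L → ℂ) 1 =
        if (∀ z ∈ Z, (ξ : L → ℂ) z = (ξ : L → ℂ) 1) then ((ξ : L → ℂ) 1) ^ 2 else 0 := by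
    intro ξ
    by_cases hξ : ∀ z ∈ Z, (ξ : L → ℂ) z = (ξ : L → ℂ) 1
    · rw [if_pos hξ]
      have hcl : IsClassFunction L (ξ : L → ℂ) :=
        Cfsg.Agent.Lib.Helper78.isClassFunction_irr ξ
      have h1 : classInner ρ (ξ : L → ℂ) = conj ((ξ : L → ℂ) 1) := by
        rw [hρ, Cfsg.Agent.Lib.Helper75.frobenius_reciprocity Z _ hcl]
        unfold classInner
        have : ∀ z : Z, (1 : ℂ) * conj ((ξ : L → ℂ) (z : L)) = conj ((ξ : L → ℂ) 1) := by
          intro z
          rw [one_mul, hξ z z.2]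
        rw [Finset.sum_congr rfl fun z _ => this z, Finset.sum_const, Finset.card_univ,
          nsmul_eq_mul, ← mul_assoc, Nat.card_eq_fintype_card, inv_mul_cancel₀, one_mul]
        have : Fintype.card Z ≠ 0 := Fintype.card_ne_zero
        exact_mod_cast this
      obtain ⟨n, hn⟩ := Cfsg.Agent.Lib.Helper78.IsCharacter.exists_apply_one
        (Cfsg.Agent.Lib.Helper78.IsIrrCharacter.isCharacter ξ.2)
      rw [h1, hn, Complex.conj_natCast]
      ring
    · rw [if_neg hξ]
      have : classInner ρ (ξ : L → ℂ) = 0 := by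
        by_contra hne
        apply hξ
        intro z hz
        exact Cfsg.Agent.Lib.Helper75.constituent_ker hρchar ξ hne z (hρZ z hz)
      rw [this, zero_mul]
  have h1 := congrFun hexp 1
  simp only [Finset.sum_apply, Pi.smul_apply, smul_eq_mul] at h1
  rw [Finset.sum_congr rfl fun ξ _ => hcoef ξ, hρ1, ← Finset.sum_filter] at h1
  exact h1.symm

end Cfsg.Agent.Lib.Helper64
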