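import Mathlib
import Cfsg.Prelude.Def_OddOrderChar
import Cfsg.Prelude.Def_Blocks
import Cfsg.Agent.Lib.Helper78.CharMore
import Cfsg.Agent.Lib.Helper64.SibleyCount

/-!
# Numeric inputs for step 4 of Sibley's theorem (helper64)
-/

set_option autoImplicit false

namespace Cfsg.Agent.Lib.Helper64

open Cfsg
open scoped ComplexConjugate

section

variable {L : Type*} [Group L] [Fintype L] (Z : Subgroup L) [hZ : Z.Normal]

open Classical in
/-- natural-number version of `sum_sq_degree_trivial_on` -/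
theorem sum_sq_charDegree_trivial_on :
    ∑ ξ ∈ Finset.univ.filter
        (fun ξ : Cfsg.IrrCharacter L => ∀ z ∈ Z, (ξ : L → ℂ) z = (ξ : L → ℂ) 1),
      charDegree (ξ : L → ℂ) ^ 2 = Z.index := by
  have h := sum_sq_degree_trivial_on Z
  have h2 : ∑ ξ ∈ Finset.univ.filter
        (fun ξ : Cfsg.IrrCharacter L => ∀ z ∈ Z, (ξ : L → ℂ) z = (ξ : L → ℂ) 1),
      ((ξ : L → ℂ) 1) ^ 2 =
      ((∑ ξ ∈ Finset.univ.filter
        (fun ξ : Cfsg.IrrCharacter L => ∀ z ∈ Z, (ξ : L → ℂ) z = (ξ : L → ℂ) 1),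
      charDegree (ξ : L → ℂ) ^ 2 : ℕ) : ℂ) := by
    push_cast
    apply Finset.sum_congr rfl
    intro ξ _
    rw [Cfsg.Agent.Lib.Helper78.IsCharacter.apply_one_eq_charDegree
      (Cfsg.Agent.Lib.Helper78.IsIrrCharacter.isCharacter ξ.2)]
  rw [h2] at h
  exact_mod_cast h

open Classical in
theorem sum_sq_charDegree_nontrivial_on :
    ∑ ξ ∈ Finset.univ.filter
        (fun ξ : Cfsg.IrrCharacter L => ¬ ∀ z ∈ Z, (ξ : L → ℂ) z = (ξ : L → ℂ) 1),
      charDegree (ξ : L → ℂ) ^ 2 + Z.index = Nat.card L := by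
  rw [← sum_sq_charDegree_trivial_on Z, add_comm,
    Finset.sum_filter_add_sum_filter_not]
  exact Cfsg.Agent.Lib.Helper78.sum_irr_charDegree_sq

/-- a finite set containing all irreducible characters nontrivial on `Z` (with `|Z| ≥ 3`) has
sum of squared degrees at least `2 [L:Z]`. -/
theorem two_index_le_sum (hZ3 : 3 ≤ Nat.card Z) (Ts : Finset (L → ℂ))
    (hTs : ∀ ξ : L → ℂ, IsIrrCharacter L ξ → (∃ z ∈ Z, ξ z ≠ ξ 1) → ξ ∈ Ts) :
    2 * Z.index ≤ ∑ ξ ∈ Ts, charDegree ξ ^ 2 := by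
  classical
  have h1 := sum_sq_charDegree_nontrivial_on Z
  have hcard : Nat.card Z * Z.index = Nat.card L := Subgroup.card_mul_index Z
  set F := Finset.univ.filter
        (fun ξ : Cfsg.IrrCharacter L => ¬ ∀ z ∈ Z, (ξ : L → ℂ) z = (ξ : L → ℂ) 1) with hF
  have h2 : ∑ ξ ∈ F, charDegree (ξ : L → ℂ) ^ 2 =
      ∑ ξ ∈ F.image (fun ξ : Cfsg.IrrCharacter L => (ξ : L → ℂ)), charDegree ξ ^ 2 := by
    rw [Finset.sum_image]
    intro a _ b _ hab
    exact Subtype.ext hab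
  have h3 : F.image (fun ξ : Cfsg.IrrCharacter L => (ξ : L → ℂ)) ⊆ Ts := by
    intro ξ hξ
    rw [Finset.mem_image] at hξ
    obtain ⟨ξ', hξ', rfl⟩ := hξ
    rw [hF, Finset.mem_filter] at hξ'
    apply hTs _ ξ'.2
    by_contra hcon
    apply hξ'.2
    intro z hz
    by_contra hne
    exact hcon ⟨z, hz, hne⟩
  have h4 := Finset.sum_le_sum_of_subset (f := fun ξ : L → ℂ => charDegree ξ ^ 2) h3
  have h5 : 3 * Z.index ≤ Nat.card L := by
    rw [← hcard]
    exact Nat.mul_le_mul_right _ hZ3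
  rw [← h2] at h4
  omega

/-- a nonprincipal irreducible character trivial on `Z` has `d² + 1 ≤ [L:Z]` -/
theorem sq_add_one_le_index (χ : L → ℂ) (hχ : IsIrrCharacter L χ)
    (hχZ : ∀ z ∈ Z, χ z = χ 1) (hχ1 : χ ≠ fun _ => 1) :
    charDegree χ ^ 2 + 1 ≤ Z.index := by
  classical
  rw [← sum_sq_charDegree_trivial_on Z]
  set one' : Cfsg.IrrCharacter L := ⟨fun _ => 1, Cfsg.Agent.Lib.Helper78.isIrrCharacter_one⟩
  set χ' : Cfsg.IrrCharacter L := ⟨χ, hχ⟩
  have hne : χ' ≠ one' := by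
    intro h
    exact hχ1 (congrArg Subtype.val h)
  have hsub : ({χ', one'} : Finset (Cfsg.IrrCharacter L)) ⊆ Finset.univ.filter
        (fun ξ : Cfsg.IrrCharacter L => ∀ z ∈ Z, (ξ : L → ℂ) z = (ξ : L → ℂ) 1) := by
    intro ξ hξ
    rw [Finset.mem_insert, Finset.mem_singleton] at hξ
    rw [Finset.mem_filter]
    refine ⟨Finset.mem_univ _, ?_⟩
    rcases hξ with h | h
    · rw [h]; exact hχZ
    · rw [h]; intro z _; rfl
  have h1 := Finset.sum_le_sum_of_subset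
    (f := fun ξ : Cfsg.IrrCharacter L => charDegree (ξ : L → ℂ) ^ 2) hsub
  rw [Finset.sum_pair hne] at h1
  have hone : charDegree (one' : L → ℂ) = 1 := by
    simp [charDegree, one']
  rw [hone] at h1
  simpa using h1

end

end Cfsg.Agent.Lib.Helper64
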