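import Mathlib
import Cfsg.Prelude.Def_OddOrderLocal
import Cfsg.Agent.Lib.Helper74.FrobGroup

/-!
# Group-theoretic set-up for Sibley's coherence theorem (helper64)
-/

set_option autoImplicit false

namespace Cfsg.Agent.Lib.Helper64

/-- In a Frobenius-type situation (`C_L(k) ≤ K` for `1 ≠ k ∈ K`), the quotient by a normal
subgroup `N ≤ K` is again of Frobenius type. -/
theorem frobenius_quotient {L : Type*} [Group L] [Finite L] (K N : Subgroup L) [K.Normal]
    [hN : N.Normal] (hNK : N ≤ K)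
    (hC : ∀ k ∈ K, k ≠ 1 → Subgroup.centralizer ({k} : Set L) ≤ K) :
    ∀ k ∈ K, k ∉ N → ∀ x : L, x * k * x⁻¹ * k⁻¹ ∈ N → x ∈ K := by
  intro k hk hkN x hx
  by_contra hxK
  -- the map `n ↦ x n x⁻¹ n⁻¹` is injective on `K`
  have hinj : ∀ a ∈ K, ∀ b ∈ K, x * a * x⁻¹ * a⁻¹ = x * b * x⁻¹ * b⁻¹ → a = b := by
    intro a ha b hb hab
    by_contra hne
    have hc : b⁻¹ * a ≠ 1 := by
      intro h
      apply hne
      have : a = b * (b⁻¹ * a) := by group
      rw [this, h, mul_one]
    have hmem : b⁻¹ * a ∈ K := K.mul_mem (K.inv_mem hb) ha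
    apply hxK
    apply hC _ hmem hc
    rw [Subgroup.mem_centralizer_singleton_iff]
    -- x * (b⁻¹ a) = (b⁻¹ a) * x
    have h1 : a * x⁻¹ * a⁻¹ = b * x⁻¹ * b⁻¹ := by
      calc a * x⁻¹ * a⁻¹ = x⁻¹ * (x * a * x⁻¹ * a⁻¹) := by group
        _ = x⁻¹ * (x * b * x⁻¹ * b⁻¹) := by rw [hab]
        _ = b * x⁻¹ * b⁻¹ := by group
    have h2 : b⁻¹ * a * x⁻¹ = x⁻¹ * (b⁻¹ * a) := by
      calc b⁻¹ * a * x⁻¹ = b⁻¹ * (a * x⁻¹ * a⁻¹) * a := by group
        _ = b⁻¹ * (b * x⁻¹ * b⁻¹) * a := by rw [h1]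
        _ = x⁻¹ * (b⁻¹ * a) := by group
    calc x * (b⁻¹ * a) = x * (b⁻¹ * a * x⁻¹) * x := by group
      _ = x * (x⁻¹ * (b⁻¹ * a)) * x := by rw [h2]
      _ = b⁻¹ * a * x := by group
  -- restricted to `N` it is a bijection of `N`
  let f : N → N := fun n => ⟨x * (n : L) * x⁻¹ * (n : L)⁻¹,
    N.mul_mem (hN.conj_mem _ n.2 x) (N.inv_mem n.2)⟩
  have hfinj : Function.Injective f := by
    intro a b hab
    apply Subtype.ext
    apply hinj _ (hNK a.2) _ (hNK b.2)
    exact congrArg Subtype.val hab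
  have hfsurj : Function.Surjective f := Finite.surjective_of_injective hfinj
  obtain ⟨n, hn⟩ := hfsurj ⟨x * k * x⁻¹ * k⁻¹, hx⟩
  have hnk : (n : L) = k := hinj _ (hNK n.2) _ hk (congrArg Subtype.val hn)
  exact hkN (hnk ▸ n.2)

/-- a nilpotent group generated by its centre and its commutator subgroup is abelian -/
theorem commutator_eq_bot_of_center_sup_commutator {P : Type*} [Group P] [Group.IsNilpotent P]
    (h : Subgroup.center P ⊔ commutator P = ⊤) : commutator P = ⊥ := by
  set f := QuotientGroup.mk' (Subgroup.center P) with hf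
  have hsurj : Function.Surjective f := QuotientGroup.mk'_surjective _
  have h1 : (commutator P).map f = commutator (P ⧸ Subgroup.center P) := by
    rw [commutator_def, commutator_def, Subgroup.map_commutator,
      Subgroup.map_top_of_surjective f hsurj]
  have h2 : (Subgroup.center P).map f = ⊥ := by
    rw [Subgroup.map_eq_bot_iff, hf, QuotientGroup.ker_mk']
  have h3 : commutator (P ⧸ Subgroup.center P) = ⊤ := by
    have := congrArg (Subgroup.map f) h
    rw [Subgroup.map_sup, h1, h2, bot_sup_eq, Subgroup.map_top_of_surjective f hsurj] at this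
    exact this
  have h4 : Subsingleton (P ⧸ Subgroup.center P) := by
    by_contra hns
    rw [not_subsingleton_iff_nontrivial] at hns
    have := Group.IsSolvable.commutator_lt_top_of_nontrivial (P ⧸ Subgroup.center P)
    rw [h3] at this
    exact lt_irrefl _ this
  have h5 : Subgroup.center P = ⊤ := QuotientGroup.subgroup_eq_top_of_subsingleton _ h4
  exact (_root_.commutator_eq_bot_iff_center_eq_top P).mpr h5

end Cfsg.Agent.Lib.Helper64
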