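import Mathlib
import Cfsg.Prelude.Def_OddOrderLocal
import Cfsg.Agent.Lib.Helper74.FrobGroup
import Cfsg.Agent.Lib.Helper64.SibleyGroup

/-!
# Set-up for Sibley's coherence theorem: the Frobenius group `L = H ⋊ W₁` (helper64)
-/

set_option autoImplicit false

namespace Cfsg.Agent.Lib.Helper64

theorem sibley_setup {G : Type*} [Group G] [Finite G] (H L W₁ : Subgroup G)
    (hHL : H ≤ L) (hW₁L : W₁ ≤ L) (hH1 : H ≠ ⊥) (hW1 : W₁ ≠ ⊥)
    (hHn : ∀ x ∈ L, ∀ h ∈ H, x * h * x⁻¹ ∈ H) (hinf : H ⊓ W₁ = ⊥) (hsup : H ⊔ W₁ = L)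
    (hfpf : ∀ w ∈ W₁, w ≠ 1 → ∀ h ∈ H, w * h = h * w → h = 1) :
    (H.subgroupOf L).Normal ∧ H.subgroupOf L ≠ ⊥ ∧ H.subgroupOf L < ⊤ ∧
    (∀ k ∈ H.subgroupOf L, k ≠ 1 →
      Subgroup.centralizer ({k} : Set L) ≤ H.subgroupOf L) := by
  have hnorm : (H.subgroupOf L).Normal := by
    constructor
    intro n hn g
    rw [Subgroup.mem_subgroupOf] at hn ⊢
    simpa using hHn g g.2 n hn
  have hne : H.subgroupOf L ≠ ⊥ := by
    intro h
    rw [Subgroup.subgroupOf_eq_bot] at h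
    apply hH1
    rw [eq_bot_iff]
    intro x hx
    have : x ∈ H ⊓ L := ⟨hx, hHL hx⟩
    rw [h.eq_bot] at this
    exact this
  have hlt : H.subgroupOf L < ⊤ := by
    rw [lt_top_iff_ne_top]
    intro h
    rw [Subgroup.subgroupOf_eq_top] at h
    apply hW1
    rw [eq_bot_iff, ← hinf]
    exact le_inf (hW₁L.trans h) le_rfl
  refine ⟨hnorm, hne, hlt, ?_⟩
  intro k hk hk1
  have hsup' : H.subgroupOf L ⊔ W₁.subgroupOf L = ⊤ := by
    rw [← Subgroup.subgroupOf_sup hHL hW₁L, hsup, Subgroup.subgroupOf_self]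
  have hfpf' : ∀ h ∈ W₁.subgroupOf L, h ≠ 1 → ∀ k ∈ H.subgroupOf L, h * k = k * h → k = 1 := by
    intro w hw hw1 k hk hc
    rw [Subgroup.mem_subgroupOf] at hw hk
    have hw1' : (w : G) ≠ 1 := fun h => hw1 (Subtype.ext h)
    have := hfpf w hw hw1' k hk (by exact_mod_cast congrArg Subtype.val hc)
    exact Subtype.ext this
  exact Cfsg.Agent.Lib.Helper74.centralizer_le_of_fpf (H.subgroupOf L) (W₁.subgroupOf L)
    (hK := hnorm) hsup' hfpf' hk hk1

/-- in the TI situation, centralizers in `G` of non-identity elements of `H` lie in `H` -/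
theorem centralizer_le_of_TI {G : Type*} [Group G] (H L : Subgroup G) (hHL : H ≤ L)
    (hTI : Cfsg.IsTISubset (H : Set G)) (hN : Subgroup.normalizer (H : Set G) = L)
    (hC : ∀ k ∈ H.subgroupOf L, k ≠ 1 →
      Subgroup.centralizer ({k} : Set L) ≤ H.subgroupOf L) :
    ∀ h ∈ H, h ≠ 1 → Subgroup.centralizer ({h} : Set G) ≤ H := by
  intro h hh hh1 c hc
  rw [Subgroup.mem_centralizer_singleton_iff] at hc
  have hcL : c ∈ L := by
    rw [← hN]
    by_contra hcN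
    apply hh1
    apply hTI c hcN h hh
    have : c * h * c⁻¹ = h := by rw [hc]; group
    rw [this]; exact hh
  have hk : (⟨h, hHL hh⟩ : L) ∈ H.subgroupOf L := by
    rw [Subgroup.mem_subgroupOf]; exact hh
  have hk1 : (⟨h, hHL hh⟩ : L) ≠ 1 := by
    intro h'
    exact hh1 (congrArg Subtype.val h')
  have hmem : (⟨c, hcL⟩ : L) ∈ Subgroup.centralizer ({(⟨h, hHL hh⟩ : L)} : Set L) := by
    rw [Subgroup.mem_centralizer_singleton_iff]
    exact Subtype.ext hc
  have := hC _ hk hk1 hmem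
  rw [Subgroup.mem_subgroupOf] at this
  exact this

end Cfsg.Agent.Lib.Helper64
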