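import Mathlib
import Cfsg.Agent.Lib.Helper64.MinSimpleOdd

/-!
# Maximal subgroups of simple groups with `p`-stable sections (helper64 library)

* `not_dvd_index_map_of_normalizer_le`: a Sylow `p`-subgroup `R` of `M` with `N_G(R) ≤ M` is a Sylow `p`-subgroup of `G`.
* `sylow_le_commutator_of_kInf_normal`: if `M` is a maximal subgroup of the perfect simple group `G` (with `p`-stable
  sections) and `K_∞(R)` is normal in `M` for a nontrivial Sylow `p`-subgroup `R` of `M`, then `R ≤ M'`.
* `not_sylow_le_commutator_of_surjective`: a group with a nontrivial `p`-group quotient does not have `R ≤ M'`.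
-/

set_option autoImplicit false

namespace Cfsg.Agent.Lib.Helper64

universe u

open Cfsg.Agent.Lib.Helper33

/-- a Sylow `p`-subgroup of `M` whose normalizer in `G` lies in `M` is a Sylow `p`-subgroup of `G` -/
theorem not_dvd_index_map_of_normalizer_le {p : ℕ} [Fact p.Prime] {G : Type*} [Group G] [Finite G]
    (M : Subgroup G) (R : Sylow p ↥M)
    (hN : Subgroup.normalizer ((((R : Subgroup ↥M).map M.subtype : Subgroup G)) : Set G) ≤ M) :
    ¬ p ∣ ((R : Subgroup ↥M).map M.subtype).index := by
  set H : Subgroup G := (R : Subgroup ↥M).map M.subtype with hH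
  intro hdvd
  obtain ⟨n, hn⟩ := IsPGroup.iff_card.mp R.isPGroup'
  have hHcard : Nat.card H = p ^ n := by
    rw [hH, Subgroup.card_map_of_injective M.subtype_injective]; exact hn
  have hdvd2 : p ^ (n + 1) ∣ Nat.card G := by
    rw [← Subgroup.card_mul_index H, hHcard, pow_succ]
    exact Nat.mul_dvd_mul_left _ hdvd
  have h1 := Sylow.prime_dvd_card_quotient_normalizer hdvd2 hHcard
  have hHM : H ≤ M := by rw [hH]; exact Subgroup.map_subtype_le _
  have hHN : H ≤ Subgroup.normalizer (H : Set G) := Subgroup.le_normalizer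
  have h2 : Nat.card (↥(Subgroup.normalizer (H : Set G)) ⧸
      H.comap (Subgroup.normalizer (H : Set G)).subtype) = H.relIndex (Subgroup.normalizer (H : Set G)) := by
    rw [Subgroup.relIndex, Subgroup.subgroupOf, Subgroup.index_eq_card]
  rw [h2] at h1
  have h3 : H.relIndex (Subgroup.normalizer (H : Set G)) ∣ H.relIndex M :=
    Dvd.intro _ (Subgroup.relIndex_mul_relIndex _ _ _ hHN hN)
  have h4 : H.relIndex M = (R : Subgroup ↥M).index := by
    rw [Subgroup.relIndex, hH, Subgroup.subgroupOf,
      Subgroup.comap_map_eq_self_of_injective M.subtype_injective]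
  rw [h4] at h3
  exact R.not_dvd_index (h1.trans h3)

open scoped commutatorElement in
/-- in a perfect simple group `G` with `p`-stable sections, a maximal subgroup `M` in which `K_∞(R)` is normal for a
nontrivial Sylow `p`-subgroup `R` of `M` satisfies `R ≤ M'` -/
theorem sylow_le_commutator_of_kInf_normal {p : ℕ} [Fact p.Prime] {G : Type u} [Group G] [Finite G]
    [IsSimpleGroup G] (hperf : commutator G = ⊤) (hsecG : SecProp (ECN p) G) (M : Subgroup G)
    (hM : IsCoatom M) (R : Sylow p ↥M) (hR : (R : Subgroup ↥M) ≠ ⊥)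
    (hn : (Cfsg.inducedFunctor Cfsg.kInfLower (R : Subgroup ↥M)).Normal) :
    (R : Subgroup ↥M) ≤ commutator ↥M := by
  have hWc := isCharPFunctor_kInfLower p
  have hcf := isConjugacyFunctor_inducedFunctor Cfsg.kInfLower hWc (G := G)
  set H : Subgroup G := (R : Subgroup ↥M).map M.subtype with hH
  have hHp : IsPGroup p H := R.isPGroup'.map _
  have hHne : H ≠ ⊥ := by
    rw [hH, Ne, Subgroup.map_eq_bot_iff_of_injective _ M.subtype_injective]; exact hR
  have hHM : H ≤ M := by rw [hH]; exact Subgroup.map_subtype_le _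
  -- the functor value
  have hW : Cfsg.inducedFunctor Cfsg.kInfLower H =
      (Cfsg.inducedFunctor Cfsg.kInfLower (R : Subgroup ↥M)).map M.subtype := by
    rw [hH]
    exact inducedFunctor_map_of_injOn Cfsg.kInfLower hWc M.subtype (R : Subgroup ↥M) R.isPGroup'
      (fun x _ hx => by
        have : (x : G) = 1 := hx
        exact Subtype.ext this)
  set W : Subgroup G := Cfsg.inducedFunctor Cfsg.kInfLower H with hWdef
  have hWH : W ≤ H := (hcf H hHp).1
  have hWne : W ≠ ⊥ := (hcf H hHp).2.1 hHne
  -- `M` normalizes `W`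
  have hMN : M ≤ Subgroup.normalizer (W : Set G) := by
    have h1 := Subgroup.le_normalizer_map (H := Cfsg.inducedFunctor Cfsg.kInfLower (R : Subgroup ↥M))
      M.subtype
    rw [Subgroup.normalizer_eq_top_iff.mpr hn, ← MonoidHom.range_eq_map, M.range_subtype, ← hW] at h1
    exact h1
  have hNtop : Subgroup.normalizer (W : Set G) ≠ ⊤ := by
    intro h
    have hWn : W.Normal := Subgroup.normalizer_eq_top_iff.mp h
    rcases hWn.eq_bot_or_eq_top with h0 | h1
    · exact hWne h0
    · apply hM.1
      rw [eq_top_iff, ← h1]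
      exact hWH.trans hHM
  have hNM : Subgroup.normalizer (W : Set G) = M := by
    by_contra hne
    exact hNtop (hM.2 _ (lt_of_le_of_ne hMN (Ne.symm hne)))
  -- `N_G(H) ≤ N_G(W) = M`
  have hNH : Subgroup.normalizer (H : Set G) ≤ M := by
    rw [← hNM]
    intro g hg
    have h1 := (hcf H hHp).2.2 g
    have h2 : H.map (MulAut.conj g).toMonoidHom = H := by
      ext x
      rw [Subgroup.mem_normalizer_iff] at hg
      constructor
      · rintro ⟨y, hy, rfl⟩
        exact (hg y).mp hy
      · intro hx
        refine ⟨g⁻¹ * x * g, ?_, by simp [MulAut.conj_apply, mul_assoc]⟩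
        show g⁻¹ * x * g ∈ H
        rw [hg]
        simpa [mul_assoc] using hx
    rw [h2] at h1
    rw [Subgroup.mem_normalizer_iff]
    intro x
    constructor
    · intro hx
      rw [hWdef, h1]
      exact ⟨x, hx, by simp [MulAut.conj_apply]⟩
    · intro hx
      rw [hWdef, h1] at hx
      obtain ⟨y, hy, hyx⟩ := hx
      have : y = x := by
        have h3 : g * y * g⁻¹ = g * x * g⁻¹ := by simpa [MulAut.conj_apply] using hyx
        exact mul_left_cancel (mul_right_cancel h3)
      rwa [← this]
  have hSyl := not_dvd_index_map_of_normalizer_le M R hNH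
  set S : Sylow p G := hHp.toSylow hSyl with hS
  have hSH : (S : Subgroup G) = H := IsPGroup.toSylow_coe hHp hSyl
  have hT := sylow_le_commutator_normalizer_kInf hsecG hperf S
  rw [hSH, ← hWdef, hNM] at hT
  intro x hx
  have h1 : (x : G) ∈ ⁅M, M⁆ := hT ⟨x, hx, rfl⟩
  rw [← Subgroup.map_subtype_commutator] at h1
  obtain ⟨y, hy, hyx⟩ := h1
  have : y = x := Subtype.ext hyx
  rwa [← this]

/-- a group with a nontrivial finite `p`-group quotient: the Sylow `p`-subgroups are not in the derived subgroup -/
theorem not_sylow_le_commutator_of_surjective {p : ℕ} [Fact p.Prime] {M Q : Type*} [Group M] [Finite M]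
    [Group Q] [Nontrivial Q] (φ : M →* Q) (hφ : Function.Surjective φ) (hQ : IsPGroup p Q) (R : Sylow p M) :
    ¬ (R : Subgroup M) ≤ commutator M := by
  intro hle
  have : Finite Q := Finite.of_surjective φ hφ
  have h1 : ((R : Subgroup M).map φ).index ∣ (R : Subgroup M).index := Subgroup.index_map_dvd _ hφ
  obtain ⟨n, hn⟩ := IsPGroup.iff_card.mp hQ
  have h2 : ((R : Subgroup M).map φ).index ∣ p ^ n := by
    rw [← hn]; exact Subgroup.index_dvd_card _
  have h3 : ((R : Subgroup M).map φ).index = 1 := by
    obtain ⟨k, _, hk⟩ := (Nat.dvd_prime_pow (Fact.out : p.Prime)).mp h2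
    rcases Nat.eq_zero_or_pos k with h0 | hpos
    · rw [hk, h0, pow_zero]
    · exfalso
      apply R.not_dvd_index
      refine dvd_trans ?_ h1
      rw [hk]
      exact dvd_pow_self p hpos.ne'
  have h4 : (R : Subgroup M).map φ = ⊤ := Subgroup.index_eq_one.mp h3
  have h5 : (commutator M).map φ = commutator Q := by
    rw [commutator_def, Subgroup.map_commutator, ← MonoidHom.range_eq_map,
      MonoidHom.range_eq_top.mpr hφ, commutator_def]
  have h6 : commutator Q = ⊤ := by
    rw [eq_top_iff, ← h4, ← h5]
    exact Subgroup.map_mono hle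
  have hnil : Group.IsNilpotent Q := hQ.isNilpotent
  have hsolv : Group.IsSolvable Q := inferInstance
  exact (Group.IsSolvable.commutator_lt_top_of_nontrivial Q).ne h6

end Cfsg.Agent.Lib.Helper64
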