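import Mathlib
import Cfsg.Prelude.Def_OddOrderLocal
import Cfsg.Agent.Lib.Helper76.PCore
import Cfsg.Agent.Lib.Helper33.SecProp

/-!
# Three-step groups (helper64 library)

General facts on `Cfsg.IsThreeStepGroup p K` for a finite group `K`:

* `exists_mem_center_of_normal_of_isNilpotent`: a nontrivial normal subgroup of a nilpotent group meets the centre.
* `threeStep_no_nilpotent_hom`: a three-step group has no homomorphism to a nilpotent group with nilpotent kernel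
  (so it is not nilpotent, and it is not nilpotent-by-nilpotent through any normal subgroup); any `p : ℕ`.
* `threeStep_constrained`: for a prime `p`, `C_K(O_p(K)) ≤ O_p(K)`.
* `threeStep_quotient`: for a prime `p`, `K` has a nontrivial `p`-group quotient.
-/

set_option autoImplicit false

namespace Cfsg.Agent.Lib.Helper64

open scoped commutatorElement

/-- a nontrivial normal subgroup of a nilpotent group meets the centre nontrivially -/
theorem exists_mem_center_of_normal_of_isNilpotent {G : Type*} [Group G] [Group.IsNilpotent G]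
    (N : Subgroup G) [hN : N.Normal] (hN1 : N ≠ ⊥) : ∃ z ∈ N, z ≠ 1 ∧ z ∈ Subgroup.center G := by
  classical
  obtain ⟨c, hc⟩ := Group.IsNilpotent.nilpotent (G := G)
  have hex : ∃ i, N ⊓ Subgroup.upperCentralSeries G i ≠ ⊥ := ⟨c, by rw [hc, inf_top_eq]; exact hN1⟩
  set i := Nat.find hex with hi
  have hi1 : N ⊓ Subgroup.upperCentralSeries G i ≠ ⊥ := Nat.find_spec hex
  have hi0 : i ≠ 0 := by
    intro h0
    rw [h0, Subgroup.upperCentralSeries_zero, inf_bot_eq] at hi1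
    exact hi1 rfl
  obtain ⟨j, hj⟩ := Nat.exists_eq_succ_of_ne_zero hi0
  have hjbot : N ⊓ Subgroup.upperCentralSeries G j = ⊥ := by
    by_contra hne
    have := Nat.find_min' hex hne
    omega
  rw [hj] at hi1
  obtain ⟨z, hz1⟩ := (Subgroup.ne_bot_iff_exists_ne_one).mp hi1
  have hz' : (z : G) ∈ N ⊓ Subgroup.upperCentralSeries G (j + 1) := z.2
  rw [Subgroup.mem_inf] at hz'
  refine ⟨z, hz'.1, fun h => hz1 (Subtype.ext h), ?_⟩
  rw [Subgroup.mem_center_iff]
  intro y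
  have h1 := (Subgroup.mem_upperCentralSeries_succ_iff).mp hz'.2 y
  have h2 : (z : G) * y * (z : G)⁻¹ * y⁻¹ ∈ N := by
    have : (z : G) * y * (z : G)⁻¹ * y⁻¹ = (z : G) * (y * (z : G)⁻¹ * y⁻¹) := by group
    rw [this]
    exact N.mul_mem hz'.1 (hN.conj_mem _ (N.inv_mem hz'.1) y)
  have h3 : (z : G) * y * (z : G)⁻¹ * y⁻¹ ∈ N ⊓ Subgroup.upperCentralSeries G j := ⟨h2, h1⟩
  rw [hjbot, Subgroup.mem_bot] at h3
  have : (z : G) * y = y * (z : G) := by
    have h4 : (z : G) * y * (z : G)⁻¹ * y⁻¹ * (y * (z : G)) = 1 * (y * (z : G)) := by rw [h3]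
    rw [one_mul] at h4
    rw [← h4]; group
  exact this.symm

variable {p : ℕ} {K : Type*} [Group K] [Finite K]

/-- A three-step group admits no homomorphism onto... into a nilpotent group with nilpotent kernel. -/
theorem threeStep_no_nilpotent_hom (h : Cfsg.IsThreeStepGroup p K) {N : Type*} [Group N]
    [hNn : Group.IsNilpotent N] (f : K →* N) (hker : Group.IsNilpotent f.ker) : False := by
  obtain ⟨hQ1, A, hA1, -, -, -, hXn, hXtop, -, hfpf, hfrob⟩ := h
  set Q := Cfsg.pCore p K with hQ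
  have hQn : Q.Normal := Subgroup.sSup_normal _ (fun _ h => h.1)
  -- `Q ∩ A = 1`
  have hQA : ∀ a, a ∈ Q → a ∈ A → a = 1 := by
    intro a haQ haA
    by_contra hne
    have h1 : a ∈ Q ⊓ Subgroup.centralizer ({a} : Set K) :=
      Subgroup.mem_inf.mpr ⟨haQ, Subgroup.mem_centralizer_singleton_iff.mpr rfl⟩
    rw [hfpf a haA hne, Subgroup.mem_bot] at h1
    exact hne h1
  obtain ⟨x, hx⟩ : ∃ x, x ∉ Q ⊔ A := by
    by_contra hall
    push Not at hall
    exact hXtop (eq_top_iff.mpr fun y _ => hall y)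
  obtain ⟨a₀, ha₀, ha₀1⟩ : ∃ a ∈ A, a ≠ 1 := by
    by_contra hall
    push Not at hall
    exact hA1 ((Subgroup.eq_bot_iff_forall A).mpr hall)
  -- Claim 1: every element of `Q` is a commutator `[q', a₀]`
  have claim1 : ∀ q ∈ Q, ∃ q' ∈ Q, q = q' * a₀ * q'⁻¹ * a₀⁻¹ := by
    let φ : Q → Q := fun q => ⟨(q : K) * a₀ * (q : K)⁻¹ * a₀⁻¹, by
      have : (q : K) * a₀ * (q : K)⁻¹ * a₀⁻¹ = (q : K) * (a₀ * (q : K)⁻¹ * a₀⁻¹) := by group
      rw [this]
      exact Q.mul_mem q.2 (hQn.conj_mem _ (Q.inv_mem q.2) a₀)⟩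
    have hinj : Function.Injective φ := by
      intro q q' hqq
      have h1 : (q : K) * a₀ * (q : K)⁻¹ * a₀⁻¹ = (q' : K) * a₀ * (q' : K)⁻¹ * a₀⁻¹ :=
        congrArg Subtype.val hqq
      have h2 : a₀ * ((q' : K)⁻¹ * (q : K)) = ((q' : K)⁻¹ * (q : K)) * a₀ := by
        have h3 : (q : K) * a₀ * (q : K)⁻¹ = (q' : K) * a₀ * (q' : K)⁻¹ := mul_right_cancel h1
        calc a₀ * ((q' : K)⁻¹ * (q : K)) = (q' : K)⁻¹ * ((q' : K) * a₀ * (q' : K)⁻¹) * (q : K) := by group
          _ = (q' : K)⁻¹ * ((q : K) * a₀ * (q : K)⁻¹) * (q : K) := by rw [h3]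
          _ = ((q' : K)⁻¹ * (q : K)) * a₀ := by group
      have h4 : (q' : K)⁻¹ * (q : K) ∈ Q ⊓ Subgroup.centralizer ({a₀} : Set K) :=
        Subgroup.mem_inf.mpr ⟨Q.mul_mem (Q.inv_mem q'.2) q.2, Subgroup.mem_centralizer_singleton_iff.mpr h2.symm⟩
      rw [hfpf a₀ ha₀ ha₀1, Subgroup.mem_bot] at h4
      apply Subtype.ext
      have : (q : K) = (q' : K) * ((q' : K)⁻¹ * (q : K)) := by group
      rw [this, h4, mul_one]
    have hsurj : Function.Surjective φ := Finite.surjective_of_injective hinj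
    intro q hq
    obtain ⟨q', hq'⟩ := hsurj ⟨q, hq⟩
    exact ⟨q', q'.2, (congrArg Subtype.val hq').symm⟩
  -- Claim 2: every element of `QA` is `q * [x, a]`
  have hXA : ∀ a ∈ A, x * a * x⁻¹ * a⁻¹ ∈ Q ⊔ A := by
    intro a ha
    have haX : a ∈ Q ⊔ A := (le_sup_right : A ≤ Q ⊔ A) ha
    exact (Q ⊔ A).mul_mem (hXn.conj_mem a haX x) ((Q ⊔ A).inv_mem haX)
  have claim2 : ∀ y ∈ Q ⊔ A, ∃ q ∈ Q, ∃ a ∈ A, y = q * (x * a * x⁻¹ * a⁻¹) := by
    let Ψ : Q × A → ↥(Q ⊔ A) := fun qa => ⟨(qa.1 : K) * (qa.2 : K),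
      (Q ⊔ A).mul_mem ((le_sup_left : Q ≤ Q ⊔ A) qa.1.2) ((le_sup_right : A ≤ Q ⊔ A) qa.2.2)⟩
    let Φ : Q × A → ↥(Q ⊔ A) := fun qa => ⟨(qa.1 : K) * (x * (qa.2 : K) * x⁻¹ * (qa.2 : K)⁻¹),
      (Q ⊔ A).mul_mem ((le_sup_left : Q ≤ Q ⊔ A) qa.1.2) (hXA _ qa.2.2)⟩
    have hΨs : Function.Surjective Ψ := by
      rintro ⟨y, hy⟩
      have h1 : y ∈ ((Q ⊔ A : Subgroup K) : Set K) := hy
      rw [Subgroup.normal_mul] at h1
      obtain ⟨q, hq, a, ha, rfl⟩ := Set.mem_mul.mp h1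
      exact ⟨(⟨q, hq⟩, ⟨a, ha⟩), rfl⟩
    have hΦi : Function.Injective Φ := by
      rintro ⟨q, a⟩ ⟨q', b⟩ hqq
      have h1 : (q : K) * (x * (a : K) * x⁻¹ * (a : K)⁻¹) = (q' : K) * (x * (b : K) * x⁻¹ * (b : K)⁻¹) :=
        congrArg Subtype.val hqq
      set c : K := (a : K)⁻¹ * (b : K) with hc
      have hcA : c ∈ A := A.mul_mem (A.inv_mem a.2) b.2
      have h2 : (x * (a : K) * x⁻¹) * (x * c * x⁻¹ * c⁻¹)⁻¹ * (x * (a : K) * x⁻¹)⁻¹ =
          (q : K)⁻¹ * (q' : K) := by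
        have e1 : (x * (a : K) * x⁻¹) * (x * c * x⁻¹ * c⁻¹)⁻¹ * (x * (a : K) * x⁻¹)⁻¹ =
            (x * (a : K) * x⁻¹ * (a : K)⁻¹) * (x * (b : K) * x⁻¹ * (b : K)⁻¹)⁻¹ := by
          rw [hc]; group
        rw [e1]
        have e2 : x * (a : K) * x⁻¹ * (a : K)⁻¹ = (q : K)⁻¹ * ((q' : K) * (x * (b : K) * x⁻¹ * (b : K)⁻¹)) := by
          rw [← h1]; group
        rw [e2]; group
      have h3 : (x * c * x⁻¹ * c⁻¹)⁻¹ ∈ Q := by
        have h4 : (x * (a : K) * x⁻¹)⁻¹ * ((q : K)⁻¹ * (q' : K)) * (x * (a : K) * x⁻¹)⁻¹⁻¹ ∈ Q :=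
          hQn.conj_mem _ (Q.mul_mem (Q.inv_mem q.2) q'.2) _
        rw [← h2] at h4
        have e3 : (x * (a : K) * x⁻¹)⁻¹ * ((x * (a : K) * x⁻¹) * (x * c * x⁻¹ * c⁻¹)⁻¹ * (x * (a : K) * x⁻¹)⁻¹) *
            (x * (a : K) * x⁻¹)⁻¹⁻¹ = (x * c * x⁻¹ * c⁻¹)⁻¹ := by group
        rwa [e3] at h4
      have h5 : x * c * x⁻¹ * c⁻¹ ∈ Q := by
        have := Q.inv_mem h3
        rwa [inv_inv] at this
      have hc1 : c = 1 := by
        by_contra hne
        exact hfrob x hx c hcA hne h5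
      have hab : (a : K) = (b : K) := by
        have : (b : K) = (a : K) * c := by rw [hc]; group
        rw [this, hc1, mul_one]
      have hqq' : (q : K) = (q' : K) := by
        rw [hab] at h1
        exact mul_right_cancel h1
      exact Prod.ext (Subtype.ext hqq') (Subtype.ext hab)
    have hΨi : Function.Injective Ψ := by
      rintro ⟨q, a⟩ ⟨q', b⟩ hqq
      have h1 : (q : K) * (a : K) = (q' : K) * (b : K) := congrArg Subtype.val hqq
      have h2 : (q' : K)⁻¹ * (q : K) = (b : K) * (a : K)⁻¹ := by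
        calc (q' : K)⁻¹ * (q : K) = (q' : K)⁻¹ * ((q : K) * (a : K)) * (a : K)⁻¹ := by group
          _ = (q' : K)⁻¹ * ((q' : K) * (b : K)) * (a : K)⁻¹ := by rw [h1]
          _ = (b : K) * (a : K)⁻¹ := by group
      have h3 : (q' : K)⁻¹ * (q : K) = 1 :=
        hQA _ (Q.mul_mem (Q.inv_mem q'.2) q.2) (by rw [h2]; exact A.mul_mem b.2 (A.inv_mem a.2))
      have hqq' : (q : K) = (q' : K) := by
        have : (q : K) = (q' : K) * ((q' : K)⁻¹ * (q : K)) := by group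
        rw [this, h3, mul_one]
      have hab : (a : K) = (b : K) := by
        rw [hqq'] at h1
        exact mul_left_cancel h1
      exact Prod.ext (Subtype.ext hqq') (Subtype.ext hab)
    have hcard : Nat.card ↥(Q ⊔ A) ≤ Nat.card (Q × A) :=
      (Nat.card_congr (Equiv.ofBijective Ψ ⟨hΨi, hΨs⟩)).symm.le
    have hΦs : Function.Surjective Φ := (hΦi.bijective_of_nat_card_le hcard).2
    intro y hy
    obtain ⟨⟨q, a⟩, hqa⟩ := hΦs ⟨y, hy⟩
    exact ⟨q, q.2, a, a.2, (congrArg Subtype.val hqa).symm⟩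
  -- Claim 3: `QA` lies in every term of the lower central series
  have claim3 : ∀ k : ℕ, Q ⊔ A ≤ (⊤ : Subgroup K).lowerCentralSeries k := by
    intro k
    induction k with
    | zero => rw [Subgroup.lowerCentralSeries_zero]; exact le_top
    | succ k ih =>
      rw [Subgroup.lowerCentralSeries_succ]
      have hQle : Q ≤ ⁅(⊤ : Subgroup K).lowerCentralSeries k, (⊤ : Subgroup K)⁆ := by
        intro q hq
        obtain ⟨q', hq', rfl⟩ := claim1 q hq
        have : q' * a₀ * q'⁻¹ * a₀⁻¹ = ⁅q', a₀⁆ := by rw [commutatorElement_def]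
        rw [this]
        exact Subgroup.commutator_mem_commutator (ih ((le_sup_left : Q ≤ Q ⊔ A) hq')) (Subgroup.mem_top _)
      refine sup_le hQle ?_
      intro a ha
      obtain ⟨q, hq, a', ha', rfl⟩ := claim2 a ((le_sup_right : A ≤ Q ⊔ A) ha)
      refine Subgroup.mul_mem _ (hQle hq) ?_
      have : x * a' * x⁻¹ * a'⁻¹ = ⁅x, a'⁆ := by rw [commutatorElement_def]
      rw [this, Subgroup.commutator_comm]
      exact Subgroup.commutator_mem_commutator (Subgroup.mem_top _) (ih ((le_sup_right : A ≤ Q ⊔ A) ha'))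
  -- `QA ≤ ker f`
  have hrn : Group.IsNilpotent f.range := Subgroup.isNilpotent _
  obtain ⟨c, hc⟩ := (Subgroup.isNilpotent_iff_lowerCentralSeries f.range).mp hrn
  have hker_le : Q ⊔ A ≤ f.ker := by
    intro y hy
    have h1 : f y ∈ ((⊤ : Subgroup K).lowerCentralSeries c).map f := Subgroup.mem_map_of_mem f (claim3 c hy)
    rw [Subgroup.map_lowerCentralSeries, ← MonoidHom.range_eq_map, hc, Subgroup.mem_bot] at h1
    exact (MonoidHom.mem_ker).mpr h1
  -- `Q` meets the centre of the nilpotent group `ker f`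
  have hQ'n : (Q.subgroupOf f.ker).Normal := hQn.subgroupOf f.ker
  have hQ'1 : Q.subgroupOf f.ker ≠ ⊥ := by
    intro hbot
    apply hQ1
    rw [Subgroup.subgroupOf_eq_bot] at hbot
    rw [eq_bot_iff]
    intro q hq
    have : q ∈ Q ⊓ f.ker := ⟨hq, hker_le ((le_sup_left : Q ≤ Q ⊔ A) hq)⟩
    rw [disjoint_iff.mp hbot] at this
    exact this
  obtain ⟨z, hzQ, hz1, hzc⟩ := exists_mem_center_of_normal_of_isNilpotent (Q.subgroupOf f.ker) hQ'1
  have ha₀k : a₀ ∈ f.ker := hker_le ((le_sup_right : A ≤ Q ⊔ A) ha₀)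
  have h1 := (Subgroup.mem_center_iff.mp hzc) ⟨a₀, ha₀k⟩
  have h2 : a₀ * (z : K) = (z : K) * a₀ := congrArg Subtype.val h1
  have h3 : (z : K) ∈ Q ⊓ Subgroup.centralizer ({a₀} : Set K) :=
    Subgroup.mem_inf.mpr ⟨Subgroup.mem_subgroupOf.mp hzQ, Subgroup.mem_centralizer_singleton_iff.mpr h2.symm⟩
  rw [hfpf a₀ ha₀ ha₀1, Subgroup.mem_bot] at h3
  exact hz1 (Subtype.ext h3)

/-- a three-step group is not nilpotent -/
theorem threeStep_not_isNilpotent (h : Cfsg.IsThreeStepGroup p K) : ¬ Group.IsNilpotent K := by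
  intro hnil
  exact threeStep_no_nilpotent_hom h (1 : K →* Unit) (Subgroup.isNilpotent _)

/-- in a three-step group for the prime `p`, an element of order prime to `p` centralizing `O_p(K)` is trivial -/
theorem threeStep_eq_one_of_coprime_of_centralizes [hp : Fact p.Prime] (h : Cfsg.IsThreeStepGroup p K) (d : K)
    (hd : (orderOf d).Coprime p) (hdc : d ∈ Subgroup.centralizer ((Cfsg.pCore p K : Subgroup K) : Set K)) :
    d = 1 := by
  obtain ⟨hQ1, A, hA1, -, -, -, hXn, hXtop, ⟨n, hidx⟩, hfpf, hfrob⟩ := h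
  set Q := Cfsg.pCore p K with hQ
  have hQn : Q.Normal := Subgroup.sSup_normal _ (fun _ h => h.1)
  have hQp : IsPGroup p Q := Cfsg.Agent.Lib.Helper76.pCore_isPGroup p
  -- `d ∈ QA`
  have hdX : d ∈ Q ⊔ A := by
    have h1 : (QuotientGroup.mk' (Q ⊔ A) d) ^ (orderOf d) = 1 := by
      rw [← map_pow, pow_orderOf_eq_one, map_one]
    have h2 : (QuotientGroup.mk' (Q ⊔ A) d) ^ (p ^ n) = 1 := by
      have : Nat.card (K ⧸ (Q ⊔ A)) = p ^ n := by rw [← Subgroup.index_eq_card]; exact hidx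
      rw [← this]
      exact pow_card_eq_one'
    have h3 : (orderOf d).gcd (p ^ n) = 1 := Nat.Coprime.pow_right n hd
    have h4 := pow_gcd_eq_one.mpr ⟨h1, h2⟩
    rw [h3, pow_one] at h4
    exact (QuotientGroup.eq_one_iff d).mp h4
  have h1 : d ∈ ((Q ⊔ A : Subgroup K) : Set K) := hdX
  rw [Subgroup.normal_mul] at h1
  obtain ⟨q, hq, a, ha, rfl⟩ := Set.mem_mul.mp h1
  have hcomm : ∀ y ∈ Q, y * (q * a) = (q * a) * y := fun y hy => Subgroup.mem_centralizer_iff.mp hdc y hy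
  have ha1 : a = 1 := by
    by_contra hne
    -- `a` commutes with `q`
    have h2 := hcomm q hq
    have h3 : q * a = a * q := by
      have : q * (q * a) = q * (a * q) := by rw [h2]; group
      exact mul_left_cancel this
    have h4 : q ∈ Q ⊓ Subgroup.centralizer ({a} : Set K) :=
      Subgroup.mem_inf.mpr ⟨hq, Subgroup.mem_centralizer_singleton_iff.mpr h3⟩
    rw [hfpf a ha hne, Subgroup.mem_bot] at h4
    obtain ⟨z, hz1⟩ := (Subgroup.ne_bot_iff_exists_ne_one).mp hQ1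
    have h5 := hcomm z z.2
    rw [h4, one_mul] at h5
    have h6 : (z : K) ∈ Q ⊓ Subgroup.centralizer ({a} : Set K) :=
      Subgroup.mem_inf.mpr ⟨z.2, Subgroup.mem_centralizer_singleton_iff.mpr h5⟩
    rw [hfpf a ha hne, Subgroup.mem_bot] at h6
    exact hz1 (Subtype.ext h6)
  rw [ha1, mul_one] at hd ⊢
  obtain ⟨k, hk⟩ := (IsPGroup.iff_orderOf.mp hQp) ⟨q, hq⟩
  rw [Subgroup.orderOf_mk] at hk
  rw [hk] at hd
  have : p ^ k = 1 := by
    have h7 : (p ^ k).Coprime (p ^ k) := Nat.Coprime.pow_right k hd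
    exact (Nat.coprime_self _).mp h7
  rw [this] at hk
  exact orderOf_eq_one_iff.mp hk

/-- a three-step group for the prime `p` is `p`-constrained: `C_K(O_p(K)) ≤ O_p(K)` -/
theorem threeStep_constrained [hp : Fact p.Prime] (h : Cfsg.IsThreeStepGroup p K) :
    Cfsg.Agent.Lib.Helper33.Constrained p K := by
  unfold Cfsg.Agent.Lib.Helper33.Constrained
  have hQn : (Cfsg.pCore p K).Normal := Subgroup.sSup_normal _ (fun _ h => h.1)
  have hCn : (Subgroup.centralizer ((Cfsg.pCore p K : Subgroup K) : Set K)).Normal := inferInstance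
  apply Cfsg.Agent.Lib.Helper76.le_pCore p _ hCn
  intro g
  obtain ⟨k, m, hm, hkm⟩ :=
    Nat.exists_eq_pow_mul_and_not_dvd (orderOf_pos (g : K)).ne' p hp.out.ne_one
  refine ⟨k, ?_⟩
  have hord : orderOf ((g : K) ^ p ^ k) = m := by
    rw [orderOf_pow, hkm]
    have : (p ^ k * m).gcd (p ^ k) = p ^ k := Nat.gcd_eq_right (Dvd.intro _ rfl)
    rw [this, Nat.mul_div_cancel_left _ (pow_pos hp.out.pos k)]
  have hcop : (orderOf ((g : K) ^ p ^ k)).Coprime p := by
    rw [hord, Nat.coprime_comm]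
    exact (Nat.Prime.coprime_iff_not_dvd hp.out).mpr hm
  have h1 := threeStep_eq_one_of_coprime_of_centralizes h ((g : K) ^ p ^ k) hcop
    (Subgroup.pow_mem _ g.2 _)
  exact Subtype.ext (by simpa using h1)

/-- a three-step group for the prime `p` has a nontrivial `p`-group quotient -/
theorem threeStep_quotient [hp : Fact p.Prime] (h : Cfsg.IsThreeStepGroup p K) :
    ∃ (X : Subgroup K) (_ : X.Normal), IsPGroup p (K ⧸ X) ∧ Nontrivial (K ⧸ X) := by
  obtain ⟨hQ1, A, hA1, -, -, -, hXn, hXtop, ⟨n, hidx⟩, hfpf, hfrob⟩ := h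
  refine ⟨Cfsg.pCore p K ⊔ A, hXn, ?_, ?_⟩
  · apply IsPGroup.of_card (n := n)
    rw [← Subgroup.index_eq_card]; exact hidx
  · rw [← Finite.one_lt_card_iff_nontrivial, ← Subgroup.index_eq_card]
    have h0 : (Cfsg.pCore p K ⊔ A).index ≠ 0 := Subgroup.index_ne_zero_of_finite
    have h1 : (Cfsg.pCore p K ⊔ A).index ≠ 1 := fun h => hXtop (Subgroup.index_eq_one.mp h)
    omega

end Cfsg.Agent.Lib.Helper64
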