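import Mathlib
import Cfsg.Agent.Lib.Helper64.MinSimpleOdd2
import Cfsg.Agent.Lib.Helper64.ThreeStep
import Cfsg.Agent.S1476

/-!
# Minimal simple CN-groups of odd order: no three-step subgroups (helper64 library)

* `isCNGroup_subgroup`: subgroups of CN-groups are CN-groups.
* `exists_threeStep_of_no_normal_sylow`: a solvable non-nilpotent CN-group without nontrivial normal Sylow subgroups
  is a three-step group (from the proof of S1476).
* `commutator_eq_top_of_minSimple`: a non-abelian simple group is perfect.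
* `maximal_not_threeStep`: no maximal subgroup of a minimal simple group of odd order is a three-step group.
* `no_threeStep`: in a minimal simple CN-group of odd order no subgroup is a three-step group (S1478).
-/

set_option autoImplicit false

namespace Cfsg.Agent.Lib.Helper64

universe u

open Cfsg.Agent.Lib.Helper33

/-- nilpotency pulls back along injective homomorphisms -/
theorem isNilpotent_of_injective' {X Y : Type*} [Group X] [Group Y] (f : X →* Y) (hf : Function.Injective f)
    (hY : Group.IsNilpotent Y) : Group.IsNilpotent X := by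
  have : f.ker ≤ Subgroup.center X := by
    rw [(MonoidHom.ker_eq_bot_iff f).mpr hf]
    exact bot_le
  exact Subgroup.isNilpotent_of_ker_le_center f this

/-- subgroups of CN-groups are CN-groups -/
theorem isCNGroup_subgroup {G : Type*} [Group G] (hCN : Cfsg.IsCNGroup G) (M : Subgroup G) :
    Cfsg.IsCNGroup ↥M := by
  intro m hm
  have hm' : (m : G) ≠ 1 := fun h => hm (Subtype.ext h)
  have hnil := hCN (m : G) hm'
  let f : ↥(Subgroup.centralizer ({m} : Set ↥M)) →* ↥(Subgroup.centralizer ({(m : G)} : Set G)) :=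
    { toFun := fun x => ⟨((x : ↥M) : G), by
        have hx := Subgroup.mem_centralizer_singleton_iff.mp x.2
        rw [Subgroup.mem_centralizer_singleton_iff]
        exact congrArg Subtype.val hx⟩
      map_one' := rfl
      map_mul' := fun _ _ => rfl }
  refine isNilpotent_of_injective' f ?_ hnil
  intro x y hxy
  have : ((x : ↥M) : G) = ((y : ↥M) : G) := congrArg (fun z : ↥(Subgroup.centralizer ({(m : G)} : Set G)) => (z : G)) hxy
  exact Subtype.ext (Subtype.ext this)

/-- a solvable non-nilpotent CN-group without nontrivial normal Sylow subgroups is a three-step group -/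
theorem exists_threeStep_of_no_normal_sylow {M : Type*} [Group M] [Finite M] [Group.IsSolvable M]
    (hCN : Cfsg.IsCNGroup M) (hnil : ¬ Group.IsNilpotent M)
    (hns : ∀ (r : ℕ) [Fact r.Prime] (R : Sylow r M), (R : Subgroup M).Normal → (R : Subgroup M) = ⊥) :
    ∃ p : ℕ, p.Prime ∧ Cfsg.IsThreeStepGroup p M := by
  obtain ⟨p, hp, hFp, hF1⟩ := Cfsg.Agent.S1476.fitting_isPGroup hCN hnil hns
  have : Fact p.Prime := ⟨hp⟩
  have hFn : (Cfsg.fittingSubgroup M).Normal := Cfsg.Agent.Lib.Helper1.fittingSubgroup_normal
  have hcore : Cfsg.pCore p M = Cfsg.fittingSubgroup M := by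
    apply le_antisymm
    · exact Cfsg.Agent.Lib.Helper1.le_fittingSubgroup (Cfsg.Agent.Lib.Helper1.pCore_normal p)
        (Cfsg.Agent.Lib.Helper1.pCore_isPGroup p).isNilpotent
    · exact Cfsg.Agent.Lib.Helper1.le_pCore hFn hFp
  have hpq : p ∣ Nat.card (M ⧸ Cfsg.fittingSubgroup M) := by
    by_contra hnd
    rw [← Subgroup.index_eq_card] at hnd
    have h1 := hns p (hFp.toSylow hnd) (by rw [IsPGroup.toSylow_coe]; exact hFn)
    rw [IsPGroup.toSylow_coe] at h1
    exact hF1 h1
  exact ⟨p, hp, Cfsg.Agent.S1476.threeStep_of hCN hnil (Cfsg.fittingSubgroup M) p hFp hF1 hcore hpq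
    (Cfsg.Agent.S1476.fpf_of_coprime hCN p hFp hF1) (Cfsg.Agent.S1476.card_fitting_quotient_coprime p hFp)⟩

/-- a non-abelian simple group is perfect -/
theorem commutator_eq_top_of_simple {G : Type*} [Group G] [IsSimpleGroup G] (hna : ¬ IsMulCommutative G) :
    commutator G = ⊤ := by
  open scoped commutatorElement in
  have hn : (commutator G).Normal := inferInstance
  rcases hn.eq_bot_or_eq_top with h | h
  · exfalso
    apply hna
    refine ⟨⟨fun a b => ?_⟩⟩
    have h1 : ⁅a, b⁆ ∈ commutator G := by
      rw [commutator_def]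
      exact Subgroup.commutator_mem_commutator (Subgroup.mem_top a) (Subgroup.mem_top b)
    rw [h, Subgroup.mem_bot] at h1
    exact commutatorElement_eq_one_iff_mul_comm.mp h1
  · exact h

/-- no maximal subgroup of a minimal simple group of odd order is a three-step group -/
theorem maximal_not_threeStep {G : Type u} [Group G] [Finite G] (hG : Cfsg.IsMinSimpleOddOrder G)
    (M : Subgroup G) (hM : IsCoatom M) (s : ℕ) [hs : Fact s.Prime] (h : Cfsg.IsThreeStepGroup s ↥M) :
    False := by
  have hG' := hG
  obtain ⟨hodd, hsimple, hna, hsolv⟩ := hG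
  have : Group.IsSolvable ↥M := hsolv M hM.1
  have hoddM : Odd (Nat.card ↥M) := Odd.of_dvd_nat hodd (Subgroup.card_subgroup_dvd_card M)
  have hsecM : SecProp (ECN s) ↥M := secProp_ecn_of_odd_solvable hoddM
  have hcon := threeStep_constrained h
  obtain ⟨R⟩ : Nonempty (Sylow s ↥M) := inferInstance
  have hn := (kInf_normal_of_secPStable hsecM hcon R).1
  have hR : (R : Subgroup ↥M) ≠ ⊥ := by
    intro hbot
    apply h.1
    rw [eq_bot_iff, ← hbot]
    exact Cfsg.Agent.Lib.Helper76.pCore_le_sylow s R
  have hperf : commutator G = ⊤ := commutator_eq_top_of_simple hna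
  have hsecG : SecProp (ECN s) G := secProp_ecn_of_minSimpleOdd hG'
  have hle := sylow_le_commutator_of_kInf_normal hperf hsecG M hM R hR hn
  obtain ⟨X, hXn, hXp, hXnt⟩ := threeStep_quotient h
  exact not_sylow_le_commutator_of_surjective (QuotientGroup.mk' X) (QuotientGroup.mk'_surjective X) hXp R hle

/-- **S1478**: in a minimal simple CN-group of odd order, no subgroup is a three-step group -/
theorem no_threeStep {G : Type u} [Group G] [Finite G] (hG : Cfsg.IsMinSimpleOddOrder G)
    (hCN : Cfsg.IsCNGroup G) (H : Subgroup G) (p : ℕ) : ¬ Cfsg.IsThreeStepGroup p ↥H := by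
  intro h
  have hG' := hG
  obtain ⟨hodd, hsimple, hna, hsolv⟩ := hG
  -- `H ≠ ⊤`
  have hHtop : H ≠ ⊤ := by
    intro htop
    subst htop
    obtain ⟨hQ1, A, -, -, -, -, hXn, hXtop, -, -, -⟩ := h
    have hsimp : IsSimpleGroup ↥(⊤ : Subgroup G) := (Subgroup.topEquiv (G := G)).isSimpleGroup
    rcases hXn.eq_bot_or_eq_top with h0 | h1
    · apply hQ1
      rw [eq_bot_iff, ← h0]
      exact le_sup_left
    · exact hXtop h1
  obtain ⟨M, hM, hHM⟩ := (eq_top_or_exists_le_coatom H).resolve_left hHtop
  have : Group.IsSolvable ↥M := hsolv M hM.1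
  have hCNM : Cfsg.IsCNGroup ↥M := isCNGroup_subgroup hCN M
  have hMnn : ¬ Group.IsNilpotent ↥M := by
    intro hn
    exact threeStep_no_nilpotent_hom (hNn := hn) h (Subgroup.inclusion hHM)
      (by
        rw [(MonoidHom.ker_eq_bot_iff _).mpr (Subgroup.inclusion_injective hHM)]
        exact Group.isNilpotent_of_subsingleton)
  have hns : ∀ (r : ℕ) [Fact r.Prime] (R : Sylow r ↥M), (R : Subgroup ↥M).Normal →
      (R : Subgroup ↥M) = ⊥ := by
    intro r _ R hRn
    by_contra hR1
    obtain ⟨hF1, hFtop, -, hnilq⟩ := Cfsg.Agent.S1474.result hCNM hMnn r R hR1 hRn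
    have hFnil : Group.IsNilpotent ↥(Cfsg.fittingHall ↥M) := Cfsg.Agent.S1474.fittingHall_isNilpotent
    let f : ↥H →* (↥M ⧸ Cfsg.fittingHall ↥M) :=
      (QuotientGroup.mk' (Cfsg.fittingHall ↥M)).comp (Subgroup.inclusion hHM)
    have hker : Group.IsNilpotent f.ker := by
      let g : ↥f.ker →* ↥(Cfsg.fittingHall ↥M) :=
        { toFun := fun x => ⟨Subgroup.inclusion hHM (x : ↥H), by
            have hx : f (x : ↥H) = 1 := x.2
            exact (QuotientGroup.eq_one_iff _).mp hx⟩
          map_one' := rfl
          map_mul' := fun _ _ => rfl }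
      refine isNilpotent_of_injective' g ?_ hFnil
      intro x y hxy
      have h1 : Subgroup.inclusion hHM (x : ↥H) = Subgroup.inclusion hHM (y : ↥H) :=
        congrArg Subtype.val hxy
      exact Subtype.ext (Subgroup.inclusion_injective hHM h1)
    exact threeStep_no_nilpotent_hom (hNn := hnilq) h f hker
  obtain ⟨s, hs, hts⟩ := exists_threeStep_of_no_normal_sylow hCNM hMnn hns
  have : Fact s.Prime := ⟨hs⟩
  exact maximal_not_threeStep hG' M hM s hts

end Cfsg.Agent.Lib.Helper64
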