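import Mathlib
import Cfsg.Agent.Lib.Helper64.CNMinSimple
import Cfsg.Agent.S1474

/-!
# Maximal subgroups of minimal simple CN-groups of odd order, I: general lemmas (helper64 library)

* `sylow_normal_of_dvd_card_fittingHall`: if `p` divides the order of `fittingHall M` then every Sylow `p`-subgroup
  of `M` is normal and contained in `fittingHall M`.
* `exists_surjective_pGroup_of_isNilpotent`: a finite nilpotent group of order divisible by `p` maps onto a nontrivial
  `p`-group.
* `le_normalizer_of_isNilpotent_of_not_dvd_index`: a nilpotent subgroup containing a Sylow `p`-subgroup normalizes it.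
* `eq_of_isNilpotent_of_fpf`: a nilpotent subgroup containing a normal subgroup `F` on which a complement acts without
  fixed points equals `F`.
-/

set_option autoImplicit false

namespace Cfsg.Agent.Lib.Helper64

universe u

open Cfsg.Agent.Lib.Helper33

/-- if `p` divides the order of `fittingHall M`, every Sylow `p`-subgroup of `M` is normal and inside `fittingHall M` -/
theorem sylow_normal_of_dvd_card_fittingHall {M : Type*} [Group M] [Finite M] (p : ℕ) [hp : Fact p.Prime]
    (hdvd : p ∣ Nat.card (Cfsg.fittingHall M)) (P : Sylow p M) :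
    (P : Subgroup M).Normal ∧ (P : Subgroup M) ≤ Cfsg.fittingHall M := by
  set F := Cfsg.fittingHall M with hF
  have hFnil : Group.IsNilpotent F := Cfsg.Agent.S1474.fittingHall_isNilpotent
  have hFn : F.Normal := Cfsg.fittingHall_normal M
  have hcop : (Nat.card F).Coprime F.index := Cfsg.Agent.Lib.Helper23.fittingHall_coprime M
  obtain ⟨P₀⟩ : Nonempty (Sylow p ↥F) := inferInstance
  have hP₀n : (P₀ : Subgroup ↥F).Normal := inferInstance
  have hP₀c : (P₀ : Subgroup ↥F).Characteristic := Sylow.characteristic_of_normal P₀ hP₀n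
  set Q : Subgroup M := (P₀ : Subgroup ↥F).map F.subtype with hQ
  have hQn : Q.Normal := ConjAct.normal_of_characteristic_of_normal
  have hQp : IsPGroup p Q := P₀.isPGroup'.map _
  have hQP : Q ≤ P := hQp.le_sylow_of_normal P
  have hpidx : ¬ p ∣ F.index := by
    intro h
    have := Nat.dvd_gcd hdvd h
    rw [hcop] at this
    exact hp.out.one_lt.ne' (Nat.dvd_one.mp this)
  have hcardQ : Nat.card Q = Nat.card P := by
    rw [hQ, Subgroup.card_map_of_injective F.subtype_injective, P₀.card_eq_multiplicity,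
      P.card_eq_multiplicity, ← Subgroup.card_mul_index F,
      Nat.factorization_mul Nat.card_pos.ne' Subgroup.index_ne_zero_of_finite]
    simp [Nat.factorization_eq_zero_of_not_dvd hpidx]
  have hEq : Q = P := Subgroup.eq_of_le_of_card_ge hQP hcardQ.ge
  rw [← hEq]
  exact ⟨hQn, Subgroup.map_subtype_le _⟩

/-- a finite nilpotent group of order divisible by `p` maps onto a nontrivial `p`-group -/
theorem exists_surjective_pGroup_of_isNilpotent {N : Type u} [Group N] [Finite N] [hN : Group.IsNilpotent N]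
    (p : ℕ) [hp : Fact p.Prime] (hdvd : p ∣ Nat.card N) :
    ∃ (Q : Type u) (_ : Group Q) (φ : N →* Q), Function.Surjective φ ∧ IsPGroup p Q ∧ Nontrivial Q := by
  classical
  obtain ⟨e⟩ := (Group.isNilpotent_of_finite_tfae (G := N)).out 0 4 |>.mp hN
  obtain ⟨P⟩ : Nonempty (Sylow p N) := inferInstance
  have hpm : p ∈ (Nat.card N).primeFactors :=
    Nat.mem_primeFactors.mpr ⟨hp.out, hdvd, Nat.card_pos.ne'⟩
  let i : (Nat.card N).primeFactors := ⟨p, hpm⟩
  let φ₁ : (∀ q : (Nat.card N).primeFactors, ∀ R : Sylow q N, (↑R : Subgroup N)) →*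
      (∀ R : Sylow p N, (↑R : Subgroup N)) :=
    Pi.evalMonoidHom (fun q : (Nat.card N).primeFactors => ∀ R : Sylow q N, (↑R : Subgroup N)) i
  let φ₂ : (∀ R : Sylow p N, (↑R : Subgroup N)) →* (↑P : Subgroup N) :=
    Pi.evalMonoidHom (fun R : Sylow p N => (↑R : Subgroup N)) P
  refine ⟨(↑P : Subgroup N), inferInstance, (φ₂.comp φ₁).comp e.symm.toMonoidHom, ?_, P.isPGroup', ?_⟩
  · have h1 : Function.Surjective φ₁ := by
      intro y
      refine ⟨Pi.mulSingle i y, ?_⟩
      simp [φ₁]
    have h2 : Function.Surjective φ₂ := by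
      intro y
      refine ⟨Pi.mulSingle P y, ?_⟩
      simp [φ₂]
    exact (h2.comp h1).comp e.symm.surjective
  · rw [← Finite.one_lt_card_iff_nontrivial, P.card_eq_multiplicity]
    apply Nat.one_lt_pow _ hp.out.one_lt
    exact (Nat.Prime.factorization_pos_of_dvd hp.out Nat.card_pos.ne' hdvd).ne'

/-- a nilpotent subgroup containing a `p`-subgroup `Q` of index prime to `p` normalizes `Q` -/
theorem le_normalizer_of_isNilpotent_of_not_dvd_index {G : Type*} [Group G] [Finite G] (p : ℕ) [hp : Fact p.Prime]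
    (L Q : Subgroup G) (hL : Group.IsNilpotent L) (hQL : Q ≤ L) (hQ : IsPGroup p Q) (hidx : ¬ p ∣ Q.index) :
    L ≤ Subgroup.normalizer (Q : Set G) := by
  obtain ⟨T⟩ : Nonempty (Sylow p ↥L) := inferInstance
  have hTn : (T : Subgroup ↥L).Normal := inferInstance
  have hQ' : IsPGroup p (Q.subgroupOf L) := hQ.comap_subtype
  obtain ⟨T', hT'⟩ := hQ'.exists_le_sylow
  obtain ⟨g, rfl⟩ := MulAction.exists_smul_eq ↥L T T'
  rw [Sylow.smul_eq_of_normal] at hT'
  set TG : Subgroup G := (T : Subgroup ↥L).map L.subtype with hTG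
  have hQTG : Q ≤ TG := by
    intro x hx
    exact ⟨⟨x, hQL hx⟩, hT' (Subgroup.mem_subgroupOf.mpr hx), rfl⟩
  obtain ⟨k, hk⟩ := IsPGroup.iff_card.mp (T.isPGroup'.map L.subtype)
  have hdvd : Nat.card TG ∣ Nat.card Q := by
    have h1 : Nat.card TG ∣ Nat.card Q * Q.index := by
      rw [Subgroup.card_mul_index]; exact Subgroup.card_subgroup_dvd_card TG
    have h2 : (Nat.card TG).Coprime Q.index := by
      rw [← hTG] at hk
      rw [hk]
      exact Nat.Coprime.pow_left k ((Nat.Prime.coprime_iff_not_dvd hp.out).mpr hidx)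
    exact h2.dvd_of_dvd_mul_right h1
  have hEq : Q = TG := Subgroup.eq_of_le_of_card_ge hQTG (Nat.le_of_dvd Nat.card_pos hdvd)
  rw [hEq]
  have h1 := Subgroup.le_normalizer_map (H := (T : Subgroup ↥L)) L.subtype
  rw [Subgroup.normalizer_eq_top_iff.mpr hTn, ← MonoidHom.range_eq_map, L.range_subtype] at h1
  exact h1

/-- a nilpotent subgroup containing a nontrivial normal subgroup `F` on which a complement `E` acts without fixed points
is equal to `F` -/
theorem eq_of_isNilpotent_of_fpf {M : Type*} [Group M] (F E L : Subgroup M) [hFn : F.Normal] (hF1 : F ≠ ⊥)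
    (hc : Subgroup.IsComplement' F E)
    (hfpf : ∀ e ∈ E, e ≠ 1 → F ⊓ Subgroup.centralizer ({e} : Set M) = ⊥)
    (hL : Group.IsNilpotent L) (hFL : F ≤ L) : L = F := by
  obtain ⟨f₀, hf₀, hf₀1⟩ : ∃ f₀ : M, f₀ ∈ F ∧ f₀ ≠ 1 := by
    obtain ⟨a, ha⟩ := (Subgroup.ne_bot_iff_exists_ne_one (H := F)).mp hF1
    exact ⟨(a : M), a.2, fun h => ha (Subtype.ext h)⟩
  have hN1 : F.subgroupOf L ≠ ⊥ := by
    intro h
    have : (⟨f₀, hFL hf₀⟩ : ↥L) ∈ F.subgroupOf L := Subgroup.mem_subgroupOf.mpr hf₀
    rw [h, Subgroup.mem_bot] at this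
    exact hf₀1 (congrArg Subtype.val this)
  obtain ⟨z, hzF, hz1, hzc⟩ := exists_mem_center_of_normal_of_isNilpotent (F.subgroupOf L) hN1
  apply le_antisymm _ hFL
  intro l hl
  obtain ⟨⟨⟨f, hf⟩, ⟨e, he⟩⟩, hfe⟩ := hc.2 l
  simp only at hfe
  have heL : e ∈ L := by
    have : e = f⁻¹ * l := by rw [← hfe]; group
    rw [this]
    exact L.mul_mem (L.inv_mem (hFL hf)) hl
  by_cases he1 : e = 1
  · rw [← hfe, he1, mul_one]; exact hf
  · exfalso
    have hcomm : (⟨e, heL⟩ : ↥L) * z = z * ⟨e, heL⟩ := (Subgroup.mem_center_iff.mp hzc ⟨e, heL⟩)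
    have hcomm' : e * (z : M) = (z : M) * e := congrArg Subtype.val hcomm
    have hz : (z : M) ∈ F ⊓ Subgroup.centralizer ({e} : Set M) := by
      refine Subgroup.mem_inf.mpr ⟨Subgroup.mem_subgroupOf.mp hzF, ?_⟩
      rw [Subgroup.mem_centralizer_singleton_iff]
      exact hcomm'.symm
    rw [hfpf e he he1, Subgroup.mem_bot] at hz
    exact hz1 (Subtype.ext hz)

/-- for a conjugacy functor `W`, `N_G(P) ≤ N_G(W(P))` -/
theorem normalizer_le_normalizer_of_isConjugacyFunctor {p : ℕ} {G : Type*} [Group G]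
    {W : Subgroup G → Subgroup G} (hW : Cfsg.IsConjugacyFunctor p W) (P : Subgroup G) (hP : IsPGroup p P) :
    Subgroup.normalizer (P : Set G) ≤ Subgroup.normalizer ((W P : Subgroup G) : Set G) := by
  intro g hg
  have h1 := (hW P hP).2.2 g
  have h2 : P.map (MulAut.conj g).toMonoidHom = P := by
    ext x
    rw [Subgroup.mem_normalizer_iff] at hg
    constructor
    · rintro ⟨y, hy, rfl⟩
      exact (hg y).mp hy
    · intro hx
      refine ⟨g⁻¹ * x * g, ?_, by simp [MulAut.conj_apply, mul_assoc]⟩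
      show g⁻¹ * x * g ∈ P
      rw [hg]
      simpa [mul_assoc] using hx
  rw [h2] at h1
  rw [Subgroup.mem_normalizer_iff]
  intro x
  constructor
  · intro hx
    rw [h1]
    exact ⟨x, hx, by simp [MulAut.conj_apply]⟩
  · intro hx
    rw [h1] at hx
    obtain ⟨y, hy, hyx⟩ := hx
    have : y = x := by
      have h3 : g * y * g⁻¹ = g * x * g⁻¹ := by simpa [MulAut.conj_apply] using hyx
      exact mul_left_cancel (mul_right_cancel h3)
    rwa [← this]

/-- in a simple group, the normalizer of the image of a nontrivial normal subgroup of a maximal subgroup `M` is `M` -/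
theorem normalizer_map_eq_of_coatom {G : Type*} [Group G] [IsSimpleGroup G] (M : Subgroup G) (hM : IsCoatom M)
    (X : Subgroup ↥M) [hXn : X.Normal] (hX : X ≠ ⊥) :
    Subgroup.normalizer ((X.map M.subtype : Subgroup G) : Set G) = M := by
  have hMN : M ≤ Subgroup.normalizer ((X.map M.subtype : Subgroup G) : Set G) := by
    have h1 := Subgroup.le_normalizer_map (H := X) M.subtype
    rw [Subgroup.normalizer_eq_top_iff.mpr hXn, ← MonoidHom.range_eq_map, M.range_subtype] at h1
    exact h1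
  have hNtop : Subgroup.normalizer ((X.map M.subtype : Subgroup G) : Set G) ≠ ⊤ := by
    intro h
    have hWn : (X.map M.subtype).Normal := Subgroup.normalizer_eq_top_iff.mp h
    rcases hWn.eq_bot_or_eq_top with h0 | h1
    · apply hX
      rwa [Subgroup.map_eq_bot_iff_of_injective _ M.subtype_injective] at h0
    · apply hM.1
      rw [eq_top_iff, ← h1]
      exact Subgroup.map_subtype_le _
  by_contra hne
  exact hNtop (hM.2 _ (lt_of_le_of_ne hMN (Ne.symm hne)))

open scoped commutatorElement in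
/-- **the `K_∞` transfer theorem in a minimal simple group of odd order**: every nontrivial Sylow `p`-subgroup `S` has a
maximal subgroup `M ≥ N_G(S)` with `S ≤ M'` -/
theorem exists_coatom_sylow_le_commutator {p : ℕ} [hp : Fact p.Prime] {G : Type u} [Group G] [Finite G]
    (hG : Cfsg.IsMinSimpleOddOrder G) (S : Sylow p G) (hS : (S : Subgroup G) ≠ ⊥) :
    ∃ M : Subgroup G, IsCoatom M ∧ Subgroup.normalizer ((S : Subgroup G) : Set G) ≤ M ∧
      (S : Subgroup G) ≤ ⁅M, M⁆ := by
  have hG' := hG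
  obtain ⟨hodd, hsimple, hna, hsolv⟩ := hG
  have hperf : commutator G = ⊤ := commutator_eq_top_of_simple hna
  have hsecG : SecProp (ECN p) G := secProp_ecn_of_minSimpleOdd hG'
  have hWc := isCharPFunctor_kInfLower p
  have hcf := isConjugacyFunctor_inducedFunctor Cfsg.kInfLower hWc (G := G)
  set W : Subgroup G := Cfsg.inducedFunctor Cfsg.kInfLower (S : Subgroup G) with hWdef
  have hWS : W ≤ S := (hcf S S.isPGroup').1
  have hWne : W ≠ ⊥ := (hcf S S.isPGroup').2.1 hS
  have hNtop : Subgroup.normalizer (W : Set G) ≠ ⊤ := by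
    intro h
    have hWn : W.Normal := Subgroup.normalizer_eq_top_iff.mp h
    rcases hWn.eq_bot_or_eq_top with h0 | h1
    · exact hWne h0
    · have hStop : (S : Subgroup G) = ⊤ := by rw [eq_top_iff, ← h1]; exact hWS
      have hGp : IsPGroup p G := by
        have := S.isPGroup'
        rw [hStop] at this
        exact this.of_equiv Subgroup.topEquiv
      have hnil : Group.IsNilpotent G := hGp.isNilpotent
      have hlt := Group.IsSolvable.commutator_lt_top_of_nontrivial G
      rw [hperf] at hlt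
      exact lt_irrefl _ hlt
  obtain ⟨M, hM, hNM⟩ := (eq_top_or_exists_le_coatom _).resolve_left hNtop
  refine ⟨M, hM, ?_, ?_⟩
  · exact (normalizer_le_normalizer_of_isConjugacyFunctor hcf S S.isPGroup').trans hNM
  · exact (sylow_le_commutator_normalizer_kInf hsecG hperf S).trans (Subgroup.commutator_mono hNM hNM)

open scoped commutatorElement in
/-- a subgroup `M` with a Sylow `p`-subgroup `S` of `G` inside `M'` has no nontrivial `p`-group quotient -/
theorem no_pQuotient_of_sylow_le_commutator {p : ℕ} [hp : Fact p.Prime] {G : Type*} [Group G] [Finite G]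
    (S : Sylow p G) (M : Subgroup G) (hSM : (S : Subgroup G) ≤ M) (hcomm : (S : Subgroup G) ≤ ⁅M, M⁆)
    {Q : Type*} [Group Q] [Nontrivial Q] (φ : ↥M →* Q) (hφ : Function.Surjective φ) (hQ : IsPGroup p Q) :
    False := by
  apply not_sylow_le_commutator_of_surjective φ hφ hQ (S.subtype hSM)
  rw [Sylow.coe_subtype]
  intro x hx
  have h1 : (x : G) ∈ ⁅M, M⁆ := hcomm (Subgroup.mem_subgroupOf.mp hx)
  rw [← Subgroup.map_subtype_commutator] at h1
  obtain ⟨y, hy, hyx⟩ := h1
  have : y = x := Subtype.ext hyx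
  rwa [← this]

/-- a maximal subgroup of a minimal simple group of odd order is not nilpotent -/
theorem coatom_not_isNilpotent {G : Type u} [Group G] [Finite G] (hG : Cfsg.IsMinSimpleOddOrder G)
    (M : Subgroup G) (hM : IsCoatom M) : ¬ Group.IsNilpotent ↥M := by
  intro hnil
  have hG' := hG
  obtain ⟨hodd, hsimple, hna, hsolv⟩ := hG
  have hperf : commutator G = ⊤ := commutator_eq_top_of_simple hna
  -- `M ≠ ⊥`
  have hMbot : M ≠ ⊥ := by
    intro hbot
    apply hna
    refine ⟨⟨fun a b => ?_⟩⟩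
    by_cases ha : a = 1
    · rw [ha, one_mul, mul_one]
    · have hlt : M < Subgroup.zpowers a := by
        rw [hbot, bot_lt_iff_ne_bot, Ne, Subgroup.zpowers_eq_bot]
        exact ha
      have htop := hM.2 _ hlt
      have hb : b ∈ Subgroup.zpowers a := by rw [htop]; exact Subgroup.mem_top b
      obtain ⟨k, rfl⟩ := Subgroup.mem_zpowers_iff.mp hb
      exact ((Commute.refl a).zpow_right k).eq
  have hcard1 : Nat.card ↥M ≠ 1 := by
    rw [Ne, Subgroup.card_eq_one]; exact hMbot
  obtain ⟨p, hp, hpM⟩ := Nat.exists_prime_and_dvd hcard1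
  have : Fact p.Prime := ⟨hp⟩
  obtain ⟨R⟩ : Nonempty (Sylow p ↥M) := inferInstance
  have hR : (R : Subgroup ↥M) ≠ ⊥ := R.ne_bot_of_dvd_card hpM
  have hRn : (R : Subgroup ↥M).Normal := inferInstance
  have hWc := isCharPFunctor_kInfLower p
  have hcfM := isConjugacyFunctor_inducedFunctor Cfsg.kInfLower hWc (G := ↥M)
  have hn : (Cfsg.inducedFunctor Cfsg.kInfLower (R : Subgroup ↥M)).Normal := by
    rw [← Subgroup.normalizer_eq_top_iff, eq_top_iff, ← Subgroup.normalizer_eq_top_iff.mpr hRn]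
    exact normalizer_le_normalizer_of_isConjugacyFunctor hcfM R R.isPGroup'
  have hsecG : SecProp (ECN p) G := secProp_ecn_of_minSimpleOdd hG'
  have hle := sylow_le_commutator_of_kInf_normal hperf hsecG M hM R hR hn
  obtain ⟨Q, _, φ, hφ, hQ, hQnt⟩ := exists_surjective_pGroup_of_isNilpotent (N := ↥M) p hpM
  exact not_sylow_le_commutator_of_surjective φ hφ hQ R hle

/-- **structure of a maximal subgroup** of a minimal simple CN-group of odd order: with `F = fittingHall M`,
`F ≠ 1`, `F ≠ M`, `F` has a complement acting on it without fixed points, and `M / F` is nilpotent -/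
theorem coatom_structure {G : Type u} [Group G] [Finite G] (hG : Cfsg.IsMinSimpleOddOrder G)
    (hCN : Cfsg.IsCNGroup G) (M : Subgroup G) (hM : IsCoatom M) :
    Cfsg.fittingHall ↥M ≠ ⊥ ∧ Cfsg.fittingHall ↥M ≠ ⊤ ∧
      (∃ E : Subgroup ↥M, Subgroup.IsComplement' (Cfsg.fittingHall ↥M) E ∧
        ∀ e ∈ E, e ≠ 1 → Cfsg.fittingHall ↥M ⊓ Subgroup.centralizer ({e} : Set ↥M) = ⊥) ∧
      Group.IsNilpotent (↥M ⧸ Cfsg.fittingHall ↥M) := by
  have hMnn := coatom_not_isNilpotent hG M hM
  have hG' := hG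
  obtain ⟨hodd, hsimple, hna, hsolv⟩ := hG
  have : Group.IsSolvable ↥M := hsolv M hM.1
  have hCNM : Cfsg.IsCNGroup ↥M := isCNGroup_subgroup hCN M
  by_cases hex : ∃ (r : ℕ) (_ : Fact r.Prime) (R : Sylow r ↥M),
      (R : Subgroup ↥M).Normal ∧ (R : Subgroup ↥M) ≠ ⊥
  · obtain ⟨r, _, R, hRn, hR1⟩ := hex
    obtain ⟨h1, h2, ⟨E, hc, -, hfpf⟩, h4⟩ := Cfsg.Agent.S1474.result hCNM hMnn r R hR1 hRn
    exact ⟨h1, h2, ⟨E, hc, hfpf⟩, h4⟩
  · exfalso
    obtain ⟨s, hs, h3⟩ := exists_threeStep_of_no_normal_sylow hCNM hMnn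
      (fun r _ R hRn => by
        by_contra hne
        exact hex ⟨r, inferInstance, R, hRn, hne⟩)
    have : Fact s.Prime := ⟨hs⟩
    exact maximal_not_threeStep hG' M hM s h3

/-- for a maximal subgroup `M` of a minimal simple CN-group of odd order, `fittingHallOf M` is a nontrivial maximal
nilpotent subgroup of `G` with normalizer `M` -/
theorem coatom_fittingHallOf {G : Type u} [Group G] [Finite G] (hG : Cfsg.IsMinSimpleOddOrder G)
    (hCN : Cfsg.IsCNGroup G) (M : Subgroup G) (hM : IsCoatom M) :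
    Group.IsNilpotent ↥(Cfsg.fittingHallOf M) ∧ Cfsg.fittingHallOf M ≠ ⊥ ∧
      Subgroup.normalizer ((Cfsg.fittingHallOf M : Subgroup G) : Set G) = M ∧
      ∀ L : Subgroup G, Group.IsNilpotent L → Cfsg.fittingHallOf M ≤ L → L = Cfsg.fittingHallOf M := by
  obtain ⟨hF1, hFtop, ⟨E, hc, hfpf⟩, hquot⟩ := coatom_structure hG hCN M hM
  have hsimple : IsSimpleGroup G := hG.2.1
  set F₀ := Cfsg.fittingHall ↥M with hF₀
  have hF₀n : F₀.Normal := Cfsg.fittingHall_normal ↥M
  have hF₀nil : Group.IsNilpotent F₀ := Cfsg.Agent.S1474.fittingHall_isNilpotent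
  have hFdef : Cfsg.fittingHallOf M = F₀.map M.subtype := rfl
  have hFnil : Group.IsNilpotent ↥(Cfsg.fittingHallOf M) := by
    rw [hFdef]
    exact (Group.isNilpotent_congr (Subgroup.equivMapOfInjective F₀ M.subtype M.subtype_injective)).mp hF₀nil
  have hFne : Cfsg.fittingHallOf M ≠ ⊥ := by
    rw [hFdef, Ne, Subgroup.map_eq_bot_iff_of_injective _ M.subtype_injective]
    exact hF1
  refine ⟨hFnil, hFne, normalizer_map_eq_of_coatom M hM F₀ hF1, ?_⟩
  intro L hL hFL
  -- a nontrivial normal Sylow subgroup of `M` inside `F₀`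
  have hcard1 : Nat.card F₀ ≠ 1 := by
    rw [Ne, Subgroup.card_eq_one]; exact hF1
  obtain ⟨p, hp, hpF⟩ := Nat.exists_prime_and_dvd hcard1
  have : Fact p.Prime := ⟨hp⟩
  obtain ⟨R⟩ : Nonempty (Sylow p ↥M) := inferInstance
  obtain ⟨hRn, hRF⟩ := sylow_normal_of_dvd_card_fittingHall p hpF R
  have hR1 : (R : Subgroup ↥M) ≠ ⊥ :=
    R.ne_bot_of_dvd_card (hpF.trans (Subgroup.card_subgroup_dvd_card F₀))
  have hNR := normalizer_map_eq_of_coatom M hM (R : Subgroup ↥M) hR1
  have hidx := not_dvd_index_map_of_normalizer_le M R hNR.le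
  have hRL : (R : Subgroup ↥M).map M.subtype ≤ L :=
    (Subgroup.map_mono hRF).trans hFL
  have hLM : L ≤ M := by
    rw [← hNR]
    exact le_normalizer_of_isNilpotent_of_not_dvd_index p L _ hL hRL (R.isPGroup'.map _) hidx
  -- work inside `M`
  have hL'nil : Group.IsNilpotent ↥(L.subgroupOf M) :=
    (Group.isNilpotent_congr (Subgroup.subgroupOfEquivOfLe hLM)).mpr hL
  have hFL' : F₀ ≤ L.subgroupOf M := by
    intro x hx
    rw [Subgroup.mem_subgroupOf]
    exact hFL ⟨x, hx, rfl⟩
  have hEq := eq_of_isNilpotent_of_fpf F₀ E (L.subgroupOf M) hF1 hc hfpf hL'nil hFL'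
  rw [hFdef, ← hEq, Subgroup.map_subgroupOf_eq_of_le hLM]

end Cfsg.Agent.Lib.Helper64
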