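import Mathlib

set_option autoImplicit false

/-!
PROJECT PF, Peterfalvi section 11 (end game): the arithmetic heart of the "anchor" argument.

Let `E` be a generalized character of `G` whose coefficients on the cyclic-TI family `η_{kl}`
(`k` running over `Irr W₁`, `|W₁| = q`, `l` over `Irr W₂`, `|W₂| = p`) are `g` at `(0,0)`,
`A` at `(k,0)`, `k ≠ 0`, `B` at `(0,l)`, `l ≠ 0`, and (rectangle rule) `A + B - g` at `(k,l)`,
`k, l ≠ 0`.  If `E` is orthogonal to `∑_k η_{kj}` (`j ≠ 0`), i.e. `B + (q-1)(A+B-g) = 0`, and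
`‖E‖² ≤ g² q`, then as soon as `2 g < q + p - 1` we get `A = g` and `B = 0`, i.e.
`E = g ∑_k η_{k0}`.
-/

namespace Cfsg.Agent.Lib.Helper64.PF11

/-- arithmetic heart of the anchor argument (integers). -/
theorem anchor_arith (p q g A B : ℤ) (hp : 3 ≤ p) (hq : 3 ≤ q) (hg : 0 < g)
    (h2g : 2 * g < q + p - 1)
    (h1 : q * B = (q - 1) * (g - A))
    (h2 : g ^ 2 + (q - 1) * A ^ 2 + (p - 1) * B ^ 2 + (p - 1) * (q - 1) * (A + B - g) ^ 2 ≤
      g ^ 2 * q) :
    A = g ∧ B = 0 := by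
  -- `q ∣ g - A`
  have hcop : IsCoprime q (q - 1) := ⟨1, -1, by ring⟩
  have hdvd : q ∣ (q - 1) * (g - A) := ⟨B, h1.symm⟩
  have hdvd' : q ∣ g - A := hcop.dvd_of_dvd_mul_left hdvd
  obtain ⟨t, ht⟩ := hdvd'
  have hq0 : q ≠ 0 := by omega
  have hB : B = (q - 1) * t := by
    have : q * B = q * ((q - 1) * t) := by rw [h1, ht]; ring
    exact mul_left_cancel₀ hq0 this
  have hA : A = g - q * t := by linarith
  subst hB
  subst hA
  -- the inequality becomes `q (q-1) t ((q+p-1) t - 2 g) ≤ 0`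
  have key : q * (q - 1) * (t * ((q + p - 1) * t - 2 * g)) ≤ 0 := by
    have : g ^ 2 + (q - 1) * (g - q * t) ^ 2 + (p - 1) * ((q - 1) * t) ^ 2 +
        (p - 1) * (q - 1) * (g - q * t + (q - 1) * t - g) ^ 2 - g ^ 2 * q =
        q * (q - 1) * (t * ((q + p - 1) * t - 2 * g)) := by ring
    linarith
  have hpos : 0 < q * (q - 1) := by nlinarith
  have key2 : t * ((q + p - 1) * t - 2 * g) ≤ 0 := by
    by_contra h
    push Not at h
    have := mul_pos hpos h
    linarith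
  have ht0 : t = 0 := by
    by_contra hne
    rcases lt_or_gt_of_ne hne with hneg | hpos'
    · -- `t ≤ -1`: both factors negative, product positive
      have h1' : (q + p - 1) * t - 2 * g < 0 := by nlinarith
      have : 0 < t * ((q + p - 1) * t - 2 * g) := mul_pos_of_neg_of_neg hneg h1'
      linarith
    · -- `t ≥ 1`: `(q+p-1) t - 2g > 0`
      have h1' : 0 < (q + p - 1) * t - 2 * g := by nlinarith
      have : 0 < t * ((q + p - 1) * t - 2 * g) := mul_pos hpos' h1'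
      linarith
  subst ht0
  constructor <;> ring

/-- natural-number/real-free corollary in the form used with inner products: the same with the
orthogonality relation written as `B + (q-1)(A+B-g) = 0`. -/
theorem anchor_arith' (p q g A B : ℤ) (hp : 3 ≤ p) (hq : 3 ≤ q) (hg : 0 < g)
    (h2g : 2 * g < q + p - 1)
    (h1 : B + (q - 1) * (A + B - g) = 0)
    (h2 : g ^ 2 + (q - 1) * A ^ 2 + (p - 1) * B ^ 2 + (p - 1) * (q - 1) * (A + B - g) ^ 2 ≤
      g ^ 2 * q) :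
    A = g ∧ B = 0 :=
  anchor_arith p q g A B hp hq hg h2g (by linarith) h2

/-- the degree-`q` step (3): coefficients `(1; a; b; a+b-1)` of `Γ = τ(μ₀ - ζ₁)` with
`‖Γ‖² = q + 1`; if `a = 1` then `b = 0`. -/
theorem degree_q_arith (p q b : ℤ) (hp : 3 ≤ p) (hq : 3 ≤ q)
    (h : 1 + (q - 1) * 1 ^ 2 + (p - 1) * b ^ 2 + (p - 1) * (q - 1) * (1 + b - 1) ^ 2 ≤ q + 1) :
    b = 0 := by
  by_contra hb
  have hb2 : 1 ≤ b ^ 2 := by
    have : 0 < b ^ 2 := by positivity
    linarith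
  have h1 : (p - 1) * q * b ^ 2 ≤ 1 := by
    have : 1 + (q - 1) * 1 ^ 2 + (p - 1) * b ^ 2 + (p - 1) * (q - 1) * (1 + b - 1) ^ 2 =
        q + (p - 1) * q * b ^ 2 := by ring
    linarith
  have h2 : 6 ≤ (p - 1) * q := by nlinarith
  have h3 : (p - 1) * q * 1 ≤ (p - 1) * q * b ^ 2 :=
    mul_le_mul_of_nonneg_left hb2 (by nlinarith)
  linarith

/-- the inner-product step of (3): if `|a' (q-1) (a-1)| ≤ √(q+1)` with `a' ≥ 2` then `a = 1`;
stated with squares. -/
theorem degree_q_arith_a (q a' a : ℤ) (hq : 3 ≤ q) (ha' : 2 ≤ a')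
    (h : (a' * (q - 1) * (a - 1)) ^ 2 ≤ q + 1) : a = 1 := by
  by_contra hne
  have h1 : 1 ≤ (a - 1) ^ 2 := by
    have hne' : a - 1 ≠ 0 := sub_ne_zero.mpr hne
    have : 0 < (a - 1) ^ 2 := by positivity
    linarith
  have h2 : 4 ≤ a' ^ 2 := by nlinarith
  have h3 : 4 ≤ (q - 1) ^ 2 := by nlinarith
  have h4 : (a' * (q - 1) * (a - 1)) ^ 2 = a' ^ 2 * (q - 1) ^ 2 * (a - 1) ^ 2 := by ring
  have h5 : 4 * (q - 1) ^ 2 ≤ a' ^ 2 * (q - 1) ^ 2 * (a - 1) ^ 2 := by
    have : 4 * (q - 1) ^ 2 * 1 ≤ a' ^ 2 * (q - 1) ^ 2 * (a - 1) ^ 2 := by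
      apply mul_le_mul _ h1 (by norm_num) (by positivity)
      nlinarith
    linarith
  nlinarith

end Cfsg.Agent.Lib.Helper64.PF11
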