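import Mathlib
import Cfsg.Agent.S1507
import Cfsg.Agent.Lib.Helper52.BL.Gen
import Cfsg.Agent.Lib.Helper64.PFElevenAnchorArith

/-!
# PROJECT PF, Peterfalvi section 11 (end game): the abstract anchor lemma [ANCHOR-ABS] (helper64)

* `bessel_on`, `bessel_eq_on`, `classInner_sub_sum_on`: Bessel's inequality and its equality case for
  an orthonormal family of class functions (no irreducibility needed).
* `sum_hom_eq_sum_product`, `sum_sq_coeff`, `sum_col_coeff`: sums over the dual of `A = A₁ × A₂`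
  of a coefficient system obeying the rectangle rule.
* `anchor_abs`: a class function `E` vanishing on `W ∖ (W₁ ∪ W₂)` with invariant integral
  coefficients `(g; A; B)` on the cyclic TI family `η`, orthogonal to one column `∑_φ η_{φψ₀}`, with
  `‖E‖² ≤ g² q` and `2g < q + p - 1`, equals `g ∑_φ η_φ`.
-/

set_option autoImplicit false
set_option linter.unusedSectionVars false
open Cfsg
open scoped ComplexConjugate

namespace Cfsg.Agent.Lib.Helper64.PF11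

open Cfsg.Agent.Lib.Helper26 Cfsg.Agent.Lib.Helper52.BL
open Cfsg.Agent.Lib

section Bessel

variable {K : Type*} [Group K] [Fintype K]

/-- **Bessel** for an orthonormal family (not necessarily irreducible characters): the defect. -/
theorem classInner_sub_sum_on {κ : Type*} [Fintype κ] (A : K → ℂ) (Z : κ → K → ℂ)
    (hZ1 : ∀ k, classInner (Z k) (Z k) = 1)
    (hZ0 : ∀ k l, k ≠ l → classInner (Z k) (Z l) = 0) (b : κ → ℝ)
    (hb : ∀ k, classInner A (Z k) = (b k : ℂ)) :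
    classInner (A - ∑ k, (b k : ℂ) • Z k) (A - ∑ k, (b k : ℂ) • Z k) =
      classInner A A - ((∑ k, b k ^ 2 : ℝ) : ℂ) := by
  classical
  have h1 : classInner A (∑ k, (b k : ℂ) • Z k) = ((∑ k, b k ^ 2 : ℝ) : ℂ) := by
    rw [classInner_sum_right, Complex.ofReal_sum]
    apply Finset.sum_congr rfl
    intro k _
    rw [Helper78.classInner_smul_right, hb k, Complex.conj_ofReal, Complex.ofReal_pow]
    ring
  have h2 : classInner (∑ k, (b k : ℂ) • Z k) A = ((∑ k, b k ^ 2 : ℝ) : ℂ) := by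
    rw [← Helper78.classInner_conj_symm, h1, Complex.conj_ofReal]
  have h3 : classInner (∑ k, (b k : ℂ) • Z k) (∑ k, (b k : ℂ) • Z k) =
      ((∑ k, b k ^ 2 : ℝ) : ℂ) := by
    rw [Helper78.classInner_sum_left, Complex.ofReal_sum]
    apply Finset.sum_congr rfl
    intro k _
    rw [Helper78.classInner_smul_left, classInner_sum_right, Finset.sum_eq_single k]
    · rw [Helper78.classInner_smul_right, hZ1 k, Complex.conj_ofReal,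
        Complex.ofReal_pow]
      ring
    · intro l _ hlk
      rw [Helper78.classInner_smul_right, hZ0 k l (fun he => hlk he.symm), mul_zero]
    · intro hk; exact absurd (Finset.mem_univ k) hk
  rw [classInner_sub_left, classInner_sub_right, classInner_sub_right, h1, h2, h3]
  ring

theorem bessel_on {κ : Type*} [Fintype κ] (A : K → ℂ) (Z : κ → K → ℂ)
    (hZ1 : ∀ k, classInner (Z k) (Z k) = 1)
    (hZ0 : ∀ k l, k ≠ l → classInner (Z k) (Z l) = 0) (b : κ → ℝ)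
    (hb : ∀ k, classInner A (Z k) = (b k : ℂ)) :
    ∑ k, b k ^ 2 ≤ (classInner A A).re := by
  have h := classInner_sub_sum_on A Z hZ1 hZ0 b hb
  have h0 := classInner_self_re_nonneg (A - ∑ k, (b k : ℂ) • Z k)
  rw [h, Complex.sub_re, Complex.ofReal_re] at h0
  linarith

theorem bessel_eq_on {κ : Type*} [Fintype κ] (A : K → ℂ) (Z : κ → K → ℂ)
    (hZ1 : ∀ k, classInner (Z k) (Z k) = 1)
    (hZ0 : ∀ k l, k ≠ l → classInner (Z k) (Z l) = 0) (b : κ → ℝ)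
    (hb : ∀ k, classInner A (Z k) = (b k : ℂ))
    (he : (classInner A A).re ≤ ∑ k, b k ^ 2) :
    A = ∑ k, (b k : ℂ) • Z k := by
  have h := classInner_sub_sum_on A Z hZ1 hZ0 b hb
  have h0 : (classInner (A - ∑ k, (b k : ℂ) • Z k) (A - ∑ k, (b k : ℂ) • Z k)).re ≤ 0 := by
    rw [h, Complex.sub_re, Complex.ofReal_re]
    linarith
  have := eq_zero_of_classInner_self_re_nonpos h0
  exact sub_eq_zero.mp this

end Bessel

section Abstract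

variable {A : Type*} [Group A] [Fintype A]

open Cfsg.Agent.Lib.Helper25 (dualOf mem_dualOf one_mem_dualOf)

/-- sums over all linear characters of `A = A₁ × A₂` as double sums. -/
theorem sum_hom_eq_sum_product (hc : ∀ a b : A, a * b = b * a) (A₁ A₂ : Subgroup A)
    (hext : ∀ φ : A →* ℂˣ, (∀ w ∈ A₁, φ w = 1) → (∀ w ∈ A₂, φ w = 1) → φ = 1)
    (hcard : Nat.card A = Nat.card A₁ * Nat.card A₂) [Fintype (A →* ℂˣ)]
    {M : Type*} [AddCommMonoid M] (f : (A →* ℂˣ) → M) :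
    ∑ ω, f ω = ∑ φ ∈ dualOf A₂, ∑ ψ ∈ dualOf A₁, f (φ * ψ) := by
  rw [← Finset.sum_product']
  symm
  apply Finset.sum_bij (fun (p : (A →* ℂˣ) × (A →* ℂˣ)) _ => p.1 * p.2)
  · intro p _
    exact Finset.mem_univ _
  · intro p hp r hr h
    rw [Finset.mem_product] at hp hr
    obtain ⟨e1, e2⟩ := Cfsg.Agent.S1507.factor_inj A₁ A₂ hext hp.1 hr.1 hp.2 hr.2 h
    exact Prod.ext e1 e2
  · intro ω _
    obtain ⟨φ, hφ, ψ, hψ, rfl⟩ := Cfsg.Agent.S1507.factor_surj hc A₁ A₂ hext hcard ω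
    exact ⟨(φ, ψ), Finset.mem_product.2 ⟨hφ, hψ⟩, rfl⟩
  · intro p _
    rfl

/-- the sum of squares of a coefficient system `(g; A; B; A+B-g)`. -/
theorem sum_sq_coeff (hc : ∀ a b : A, a * b = b * a) (A₁ A₂ : Subgroup A)
    (hext : ∀ φ : A →* ℂˣ, (∀ w ∈ A₁, φ w = 1) → (∀ w ∈ A₂, φ w = 1) → φ = 1)
    (hcard : Nat.card A = Nat.card A₁ * Nat.card A₂) [Fintype (A →* ℂˣ)]
    (a : (A →* ℂˣ) → ℤ) (g Ac Bc : ℤ)
    (hrect : ∀ φ ∈ dualOf A₂, ∀ ψ ∈ dualOf A₁, a (φ * ψ) = a φ + a ψ - a 1)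
    (h1 : a 1 = g) (hA : ∀ φ ∈ dualOf A₂, φ ≠ 1 → a φ = Ac)
    (hB : ∀ ψ ∈ dualOf A₁, ψ ≠ 1 → a ψ = Bc) :
    ∑ ω, (a ω) ^ 2 = g ^ 2 + ((Nat.card A₁ : ℤ) - 1) * Ac ^ 2 + ((Nat.card A₂ : ℤ) - 1) * Bc ^ 2 +
      ((Nat.card A₂ : ℤ) - 1) * ((Nat.card A₁ : ℤ) - 1) * (Ac + Bc - g) ^ 2 := by
  classical
  obtain ⟨c1, c2⟩ := Cfsg.Agent.S1507.card_dual_eq hc A₁ A₂ hcard
  rw [sum_hom_eq_sum_product hc A₁ A₂ hext hcard]
  have hin : ∀ φ ∈ dualOf A₂, ∑ ψ ∈ dualOf A₁, (a (φ * ψ)) ^ 2 =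
      (a φ) ^ 2 + ((Nat.card A₂ : ℤ) - 1) * (a φ + Bc - g) ^ 2 := by
    intro φ hφ
    rw [← Finset.add_sum_erase _ _ (one_mem_dualOf A₁), mul_one φ]
    have h2 : ∀ ψ ∈ (dualOf A₁).erase 1, (a (φ * ψ)) ^ 2 = (a φ + Bc - g) ^ 2 := by
      intro ψ hψ
      rw [Finset.mem_erase] at hψ
      rw [hrect φ hφ ψ hψ.2, hB ψ hψ.2 hψ.1, h1]
    rw [Finset.sum_congr rfl h2, Finset.sum_const, Finset.card_erase_of_mem (one_mem_dualOf A₁),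
      c2, nsmul_eq_mul, Nat.cast_sub Nat.card_pos]
    simp
  rw [Finset.sum_congr rfl hin, ← Finset.add_sum_erase _ _ (one_mem_dualOf A₂), h1]
  have h3 : ∀ φ ∈ (dualOf A₂).erase 1, (a φ) ^ 2 + ((Nat.card A₂ : ℤ) - 1) * (a φ + Bc - g) ^ 2 =
      Ac ^ 2 + ((Nat.card A₂ : ℤ) - 1) * (Ac + Bc - g) ^ 2 := by
    intro φ hφ
    rw [Finset.mem_erase] at hφ
    rw [hA φ hφ.2 hφ.1]
  rw [Finset.sum_congr rfl h3, Finset.sum_const, Finset.card_erase_of_mem (one_mem_dualOf A₂),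
    c1, nsmul_eq_mul, Nat.cast_sub Nat.card_pos]
  push_cast
  ring

/-- the column sum `∑_φ a(φ ψ)` for `ψ ≠ 1`. -/
theorem sum_col_coeff (hc : ∀ a b : A, a * b = b * a) (A₁ A₂ : Subgroup A)
    (hcard : Nat.card A = Nat.card A₁ * Nat.card A₂)
    (a : (A →* ℂˣ) → ℤ) (g Ac Bc : ℤ)
    (hrect : ∀ φ ∈ dualOf A₂, ∀ ψ ∈ dualOf A₁, a (φ * ψ) = a φ + a ψ - a 1)
    (h1 : a 1 = g) (hA : ∀ φ ∈ dualOf A₂, φ ≠ 1 → a φ = Ac)
    (hB : ∀ ψ ∈ dualOf A₁, ψ ≠ 1 → a ψ = Bc) {ψ : A →* ℂˣ} (hψ : ψ ∈ dualOf A₁) (hψ1 : ψ ≠ 1) :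
    ∑ φ ∈ dualOf A₂, a (φ * ψ) = Bc + ((Nat.card A₁ : ℤ) - 1) * (Ac + Bc - g) := by
  classical
  obtain ⟨c1, c2⟩ := Cfsg.Agent.S1507.card_dual_eq hc A₁ A₂ hcard
  rw [← Finset.add_sum_erase _ _ (one_mem_dualOf A₂), one_mul ψ, hB ψ hψ hψ1]
  have h2 : ∀ φ ∈ (dualOf A₂).erase 1, a (φ * ψ) = Ac + Bc - g := by
    intro φ hφ
    rw [Finset.mem_erase] at hφ
    rw [hrect φ hφ.2 ψ hψ, hA φ hφ.2 hφ.1, hB ψ hψ hψ1, h1]
  rw [Finset.sum_congr rfl h2, Finset.sum_const, Finset.card_erase_of_mem (one_mem_dualOf A₂),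
    c1, nsmul_eq_mul, Nat.cast_sub Nat.card_pos]
  simp

end Abstract

section Main

variable {G : Type*} [Group G] [Fintype G]

open Cfsg.Agent.Lib.Helper25 (dualOf mem_dualOf one_mem_dualOf hom_ext_sup)

open Classical in
/-- **[ANCHOR-ABS]** (Peterfalvi sec. 11 end game, abstract form).  `η = χ` a cyclic TI family for
`W = W₁ × W₂`, `|W₁| = q`, `|W₂| = p`; `E` a class function vanishing on `W ∖ (W₁ ∪ W₂)` whose
coefficients on `η` are the integers `g` at `1`, `A` on the nontrivial characters trivial on `W₂`,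
`B` on the nontrivial characters trivial on `W₁`; `E` is orthogonal to one column sum
`∑_φ η_{φ ψ₀}` (`ψ₀ ≠ 1` trivial on `W₁`), `‖E‖² ≤ g² q` and `2 g < q + p - 1`.
Then `E = g ∑_φ η_φ` (sum over the characters trivial on `W₂`). -/
theorem anchor_abs (W₁ W₂ : Subgroup G) (hW : IsSelfNormalizingCyclic W₁ W₂)
    (χ : (↥(W₁ ⊔ W₂) →* ℂˣ) → (G → ℂ)) (hχ : IsCyclicTIFamily W₁ W₂ χ)
    (p q : ℕ) (hq : Nat.card W₁ = q) (hp : Nat.card W₂ = p) (hp3 : 3 ≤ p) (hq3 : 3 ≤ q)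
    (E : G → ℂ) (hE : IsClassFunction G E)
    (hEV : ∀ w : ↥(W₁ ⊔ W₂), (w : G) ∉ W₁ → (w : G) ∉ W₂ → E w = 0)
    (g Ac Bc : ℤ) (hg : 0 < g) (h2g : 2 * g < q + p - 1)
    (he1 : classInner E (χ 1) = g)
    (heA : ∀ φ : ↥(W₁ ⊔ W₂) →* ℂˣ, φ ≠ 1 → (∀ w : ↥(W₁ ⊔ W₂), (w : G) ∈ W₂ → φ w = 1) →
      classInner E (χ φ) = Ac)
    (heB : ∀ ψ : ↥(W₁ ⊔ W₂) →* ℂˣ, ψ ≠ 1 → (∀ w : ↥(W₁ ⊔ W₂), (w : G) ∈ W₁ → ψ w = 1) →
      classInner E (χ ψ) = Bc)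
    (ψ₀ : ↥(W₁ ⊔ W₂) →* ℂˣ) (hψ₀1 : ψ₀ ≠ 1)
    (hψ₀ : ∀ w : ↥(W₁ ⊔ W₂), (w : G) ∈ W₁ → ψ₀ w = 1)
    (horth : ∀ S : Finset (↥(W₁ ⊔ W₂) →* ℂˣ),
      (∀ φ, φ ∈ S ↔ ∀ w : ↥(W₁ ⊔ W₂), (w : G) ∈ W₂ → φ w = 1) →
      ∑ φ ∈ S, classInner E (χ (φ * ψ₀)) = 0)
    (hnorm : (classInner E E).re ≤ (g : ℝ) ^ 2 * q) :
    Ac = g ∧ Bc = 0 ∧
    (∀ ω : ↥(W₁ ⊔ W₂) →* ℂˣ, classInner E (χ ω) =
      if (∀ w : ↥(W₁ ⊔ W₂), (w : G) ∈ W₂ → ω w = 1) then (g : ℂ) else 0) ∧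
    (∀ S : Finset (↥(W₁ ⊔ W₂) →* ℂˣ),
      (∀ φ, φ ∈ S ↔ ∀ w : ↥(W₁ ⊔ W₂), (w : G) ∈ W₂ → φ w = 1) →
      E = (g : ℂ) • ∑ φ ∈ S, χ φ) := by
  classical
  have hFW : Fintype ↥(W₁ ⊔ W₂) := Fintype.ofFinite _
  have hFH : Fintype (↥(W₁ ⊔ W₂) →* ℂˣ) := Fintype.ofFinite _
  obtain ⟨hW₁, hW₂, hinf, hcomm, hcyc, hnormz⟩ := hW
  have hWcomm : ∀ a b : ↥(W₁ ⊔ W₂), a * b = b * a := by
    intro a b
    obtain ⟨g, hg⟩ := hcyc.exists_generator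
    obtain ⟨m, rfl⟩ := hg a
    obtain ⟨n, rfl⟩ := hg b
    exact zpow_mul_comm g m n
  set A₁ := W₁.subgroupOf (W₁ ⊔ W₂) with hA₁
  set A₂ := W₂.subgroupOf (W₁ ⊔ W₂) with hA₂
  have hext : ∀ φ : ↥(W₁ ⊔ W₂) →* ℂˣ, (∀ w ∈ A₁, φ w = 1) → (∀ w ∈ A₂, φ w = 1) → φ = 1 :=
    fun φ h1 h2 => hom_ext_sup W₁ W₂ φ 1 (fun w hw => h1 w hw) (fun w hw => h2 w hw)
  have hc1 : Nat.card A₁ = q := by
    rw [← hq]
    exact Nat.card_congr (Subgroup.subgroupOfEquivOfLe le_sup_left).toEquiv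
  have hc2 : Nat.card A₂ = p := by
    rw [← hp]
    exact Nat.card_congr (Subgroup.subgroupOfEquivOfLe le_sup_right).toEquiv
  have hle : W₂ ≤ Subgroup.normalizer (W₁ : Set G) := by
    intro b hb
    rw [Subgroup.mem_normalizer_iff]
    intro a
    constructor
    · intro ha
      have : b * a * b⁻¹ = a := by rw [← hcomm a ha b hb, mul_inv_cancel_right]
      rw [this]; exact ha
    · intro ha
      have h1 := hcomm _ ha b hb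
      have h2 : a = b * a * b⁻¹ := by
        have : b * a * b⁻¹ * b = b * a := by group
        rw [h1] at this
        exact (mul_left_cancel this).symm
      rw [h2]; exact ha
  have hcard : Nat.card ↥(W₁ ⊔ W₂) = Nat.card A₁ * Nat.card A₂ := by
    rw [hc1, hc2, ← hq, ← hp]
    exact Cfsg.Agent.Lib.Helper54.card_sup_of_le_normalizer hle hinf
  -- membership in the duals
  have hmem₂ : ∀ φ : ↥(W₁ ⊔ W₂) →* ℂˣ, φ ∈ dualOf A₂ ↔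
      ∀ w : ↥(W₁ ⊔ W₂), (w : G) ∈ W₂ → φ w = 1 := by
    intro φ
    rw [mem_dualOf]
    exact ⟨fun h w hw => h w hw, fun h w hw => h w hw⟩
  have hmem₁ : ∀ ψ : ↥(W₁ ⊔ W₂) →* ℂˣ, ψ ∈ dualOf A₁ ↔
      ∀ w : ↥(W₁ ⊔ W₂), (w : G) ∈ W₁ → ψ w = 1 := by
    intro ψ
    rw [mem_dualOf]
    exact ⟨fun h w hw => h w hw, fun h w hw => h w hw⟩
  -- the coefficient function
  have hrectC : ∀ φ ∈ dualOf A₂, ∀ ψ ∈ dualOf A₁,
      classInner E (χ (φ * ψ)) =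
        classInner E (χ φ) + classInner E (χ ψ) - classInner E (χ 1) := fun φ hφ ψ hψ =>
    Cfsg.Agent.S1506.key W₁ W₂ χ hχ E hE hEV φ ψ ((hmem₂ φ).1 hφ) ((hmem₁ ψ).1 hψ)
  -- integer coefficient function
  have hcoef : ∀ ω : ↥(W₁ ⊔ W₂) →* ℂˣ, ∃ n : ℤ, classInner E (χ ω) = (n : ℂ) := by
    intro ω
    obtain ⟨φ, hφ, ψ, hψ, rfl⟩ := Cfsg.Agent.S1507.factor_surj hWcomm A₁ A₂ hext hcard ω
    rw [hrectC φ hφ ψ hψ, he1]
    have h1 : ∃ n : ℤ, classInner E (χ φ) = (n : ℂ) := by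
      by_cases h : φ = 1
      · exact ⟨g, by rw [h, he1]⟩
      · exact ⟨Ac, heA φ h ((hmem₂ φ).1 hφ)⟩
    have h2 : ∃ n : ℤ, classInner E (χ ψ) = (n : ℂ) := by
      by_cases h : ψ = 1
      · exact ⟨g, by rw [h, he1]⟩
      · exact ⟨Bc, heB ψ h ((hmem₁ ψ).1 hψ)⟩
    obtain ⟨n₁, hn₁⟩ := h1
    obtain ⟨n₂, hn₂⟩ := h2
    exact ⟨n₁ + n₂ - g, by rw [hn₁, hn₂]; push_cast; ring⟩
  choose a ha using hcoef
  have hinj : Function.Injective (Int.cast : ℤ → ℂ) := Int.cast_injective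
  have ha1 : a 1 = g := hinj (by rw [← ha 1, he1])
  have haA : ∀ φ ∈ dualOf A₂, φ ≠ 1 → a φ = Ac := fun φ hφ h =>
    hinj (by rw [← ha φ, heA φ h ((hmem₂ φ).1 hφ)])
  have haB : ∀ ψ ∈ dualOf A₁, ψ ≠ 1 → a ψ = Bc := fun ψ hψ h =>
    hinj (by rw [← ha ψ, heB ψ h ((hmem₁ ψ).1 hψ)])
  have hrect : ∀ φ ∈ dualOf A₂, ∀ ψ ∈ dualOf A₁, a (φ * ψ) = a φ + a ψ - a 1 := by
    intro φ hφ ψ hψ
    apply hinj
    rw [← ha, hrectC φ hφ ψ hψ, ha φ, ha ψ, ha 1]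
    push_cast
    ring
  -- orthogonality to the column
  have h1 : Bc + ((q : ℤ) - 1) * (Ac + Bc - g) = 0 := by
    have h2 := sum_col_coeff hWcomm A₁ A₂ hcard a g Ac Bc hrect ha1 haA haB
      ((hmem₁ ψ₀).2 hψ₀) hψ₀1
    rw [hc1] at h2
    rw [← h2]
    apply hinj
    push_cast
    rw [← horth (dualOf A₂) hmem₂]
    apply Finset.sum_congr rfl
    intro φ _
    rw [ha]
  -- Bessel
  have hon1 : ∀ ω : ↥(W₁ ⊔ W₂) →* ℂˣ, classInner (χ ω) (χ ω) = 1 := by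
    intro ω
    rw [hχ.orthonormal, if_pos rfl]
  have hon0 : ∀ ω ω' : ↥(W₁ ⊔ W₂) →* ℂˣ, ω ≠ ω' → classInner (χ ω) (χ ω') = 0 := by
    intro ω ω' h
    rw [hχ.orthonormal, if_neg h]
  have hbes := bessel_on E (fun ω : ↥(W₁ ⊔ W₂) →* ℂˣ => χ ω)
    hon1 hon0 (fun ω => ((a ω : ℤ) : ℝ))
    (fun ω => by rw [ha ω]; push_cast; rfl)
  have hsq := sum_sq_coeff hWcomm A₁ A₂ hext hcard a g Ac Bc hrect ha1 haA haB
  rw [hc1, hc2] at hsq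
  have hsqR : ∑ ω : ↥(W₁ ⊔ W₂) →* ℂˣ, ((a ω : ℤ) : ℝ) ^ 2 =
      ((g ^ 2 + ((q : ℤ) - 1) * Ac ^ 2 + ((p : ℤ) - 1) * Bc ^ 2 +
        ((p : ℤ) - 1) * ((q : ℤ) - 1) * (Ac + Bc - g) ^ 2 : ℤ) : ℝ) := by
    rw [← hsq]
    push_cast
    rfl
  have h2 : g ^ 2 + ((q : ℤ) - 1) * Ac ^ 2 + ((p : ℤ) - 1) * Bc ^ 2 +
      ((p : ℤ) - 1) * ((q : ℤ) - 1) * (Ac + Bc - g) ^ 2 ≤ g ^ 2 * q := by
    have h3 : ((g ^ 2 + ((q : ℤ) - 1) * Ac ^ 2 + ((p : ℤ) - 1) * Bc ^ 2 +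
        ((p : ℤ) - 1) * ((q : ℤ) - 1) * (Ac + Bc - g) ^ 2 : ℤ) : ℝ) ≤ ((g ^ 2 * q : ℤ) : ℝ) := by
      rw [← hsqR]
      push_cast
      exact le_trans hbes hnorm
    exact_mod_cast h3
  obtain ⟨hAg, hB0⟩ := anchor_arith' (p : ℤ) (q : ℤ) g Ac Bc (by exact_mod_cast hp3)
    (by exact_mod_cast hq3) hg h2g h1 h2
  -- all coefficients
  have hall : ∀ ω : ↥(W₁ ⊔ W₂) →* ℂˣ, a ω = if ω ∈ dualOf A₂ then g else 0 := by
    intro ω
    obtain ⟨φ, hφ, ψ, hψ, rfl⟩ := Cfsg.Agent.S1507.factor_surj hWcomm A₁ A₂ hext hcard ω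
    have haφ : a φ = g := by
      by_cases h : φ = 1
      · rw [h, ha1]
      · rw [haA φ hφ h, hAg]
    by_cases hψ1 : ψ = 1
    · subst hψ1
      rw [mul_one φ, if_pos hφ, haφ]
    · have hnot : φ * ψ ∉ dualOf A₂ := by
        intro hmem
        apply hψ1
        have h5 : ψ ∈ dualOf A₂ := by
          have h6 := Cfsg.Agent.Lib.Helper25.mul_mem_dualOf A₂
            (Cfsg.Agent.Lib.Helper25.inv_mem_dualOf A₂ hφ) hmem
          have h7 : φ⁻¹ * (φ * ψ) = ψ := inv_mul_cancel_left φ ψ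
          rwa [h7] at h6
        exact hext ψ ((mem_dualOf A₁ ψ).1 hψ) ((mem_dualOf A₂ ψ).1 h5)
      rw [if_neg hnot, hrect φ hφ ψ hψ, haφ, haB ψ hψ hψ1, hB0, ha1]
      ring
  refine ⟨hAg, hB0, ?_, ?_⟩
  · intro ω
    rw [ha ω, hall ω]
    by_cases h : ω ∈ dualOf A₂
    · rw [if_pos h, if_pos ((hmem₂ ω).1 h)]
    · rw [if_neg h, if_neg (fun h' => h ((hmem₂ ω).2 h'))]
      simp
  · intro S hS
    have hSeq : S = dualOf A₂ := by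
      ext φ
      rw [hS φ, hmem₂ φ]
    have hsum : ∑ ω : ↥(W₁ ⊔ W₂) →* ℂˣ, ((a ω : ℤ) : ℝ) ^ 2 = (g : ℝ) ^ 2 * q := by
      rw [hsqR, hAg, hB0]
      push_cast
      ring
    have hE' := bessel_eq_on E (fun ω : ↥(W₁ ⊔ W₂) →* ℂˣ => χ ω)
      hon1 hon0 (fun ω => ((a ω : ℤ) : ℝ))
      (fun ω => by rw [ha ω]; push_cast; rfl) (by rw [hsum]; exact hnorm)
    rw [hE', hSeq, Finset.smul_sum]
    have h7 : ∀ ω : ↥(W₁ ⊔ W₂) →* ℂˣ, (((a ω : ℤ) : ℝ) : ℂ) • χ ω =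
        if ω ∈ dualOf A₂ then (g : ℂ) • χ ω else 0 := by
      intro ω
      rw [hall ω]
      split_ifs
      · push_cast; rfl
      · simp
    rw [Finset.sum_congr rfl (fun ω _ => h7 ω), Finset.sum_ite_mem, Finset.univ_inter]

end Main

end Cfsg.Agent.Lib.Helper64.PF11
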