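import Mathlib
import Cfsg.Agent.Lib.Helper64.PFElevenAnchor

/-!
# PROJECT PF, Peterfalvi section 11 (end game): module [KZERO] (helper64)

* `bessel_orthogonal`: Bessel's inequality for an orthogonal family with positive norms.
* `kzero`: if `⟨E,1⟩ = g`, `‖E‖² = g² q + 2k` and `g ⟨E, Z_i⟩ = a_i k` on an orthogonal family `Z`
  (orthogonal to `1`) with `∑ a_i² / ‖Z_i‖² > g² (g² (q-1) + 2)`, then `k = 0`.
-/

set_option autoImplicit false
set_option linter.unusedSectionVars false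
open Cfsg
open scoped ComplexConjugate

namespace Cfsg.Agent.Lib.Helper64.PF11

open Cfsg.Agent.Lib.Helper26 Cfsg.Agent.Lib.Helper52.BL
open Cfsg.Agent.Lib

section Bessel

variable {K : Type*} [Group K] [Fintype K]

/-- **Bessel** for an orthogonal family with positive norms `n k`. -/
theorem bessel_orthogonal {κ : Type*} [Fintype κ] (A : K → ℂ) (Z : κ → K → ℂ) (n : κ → ℝ)
    (hn : ∀ k, 0 < n k) (hZ1 : ∀ k, classInner (Z k) (Z k) = (n k : ℂ))
    (hZ0 : ∀ k l, k ≠ l → classInner (Z k) (Z l) = 0) (b : κ → ℝ)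
    (hb : ∀ k, classInner A (Z k) = (b k : ℂ)) :
    ∑ k, b k ^ 2 / n k ≤ (classInner A A).re := by
  have hs : ∀ k, (Real.sqrt (n k)) ≠ 0 := fun k => (Real.sqrt_pos.2 (hn k)).ne'
  have hsC : ∀ k, ((Real.sqrt (n k) : ℝ) : ℂ) ≠ 0 := fun k => by exact_mod_cast hs k
  have hsq : ∀ k, (Real.sqrt (n k)) ^ 2 = n k := fun k => Real.sq_sqrt (hn k).le
  have h := bessel_on A (fun k => (((Real.sqrt (n k))⁻¹ : ℝ) : ℂ) • Z k)
    (fun k => by
      rw [Helper78.classInner_smul_left, Helper78.classInner_smul_right, hZ1 k,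
        Complex.conj_ofReal]
      have : ((n k : ℝ) : ℂ) = ((Real.sqrt (n k) : ℝ) : ℂ) ^ 2 := by
        rw [← Complex.ofReal_pow, hsq k]
      rw [this]
      push_cast
      have h0 := hsC k
      field_simp)
    (fun k l hkl => by
      rw [Helper78.classInner_smul_left, Helper78.classInner_smul_right, hZ0 k l hkl]
      ring)
    (fun k => b k / Real.sqrt (n k))
    (fun k => by
      rw [Helper78.classInner_smul_right, hb k, Complex.conj_ofReal]
      push_cast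
      have h0 := hsC k
      field_simp)
  refine le_trans (le_of_eq ?_) h
  apply Finset.sum_congr rfl
  intro k _
  rw [div_pow, hsq k]

theorem classInner_one_one : classInner (fun _ : K => (1 : ℂ)) (fun _ : K => (1 : ℂ)) = 1 := by
  unfold classInner
  simp only [map_one, mul_one, Finset.sum_const, Finset.card_univ, nsmul_eq_mul]
  rw [Nat.card_eq_fintype_card]
  have : (Fintype.card K : ℂ) ≠ 0 := by
    have := Fintype.card_pos (α := K)
    exact_mod_cast this.ne'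
  field_simp

/-- pure arithmetic of [KZERO]. -/
theorem kzero_arith (g q k : ℤ) (S : ℝ) (hg : 0 < g) (hq : 1 ≤ q)
    (h : (g : ℝ) ^ 2 * (g : ℝ) ^ 2 + (k : ℝ) ^ 2 * S ≤ (g : ℝ) ^ 2 * ((g : ℝ) ^ 2 * q + 2 * k))
    (hS : (g : ℝ) ^ 2 * ((g : ℝ) ^ 2 * (q - 1) + 2) < S) : k = 0 := by
  by_contra hk
  have hk1 : (1 : ℝ) ≤ (k : ℝ) ^ 2 := by
    have : (1 : ℤ) ≤ k ^ 2 := by
      have : 0 < k ^ 2 := by positivity
      omega
    exact_mod_cast this
  have hk2 : (k : ℝ) ≤ (k : ℝ) ^ 2 := by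
    have : k ≤ k ^ 2 := by
      rcases lt_or_gt_of_ne hk with h | h
      · nlinarith
      · nlinarith
    exact_mod_cast this
  have hg0 : (0 : ℝ) < (g : ℝ) ^ 2 := by
    have : (0 : ℝ) < g := by exact_mod_cast hg
    positivity
  have hq0 : (0 : ℝ) ≤ (q : ℝ) - 1 := by
    have : (1 : ℝ) ≤ q := by exact_mod_cast hq
    linarith
  have h1 : (k : ℝ) ^ 2 * ((g : ℝ) ^ 2 * ((g : ℝ) ^ 2 * (q - 1) + 2)) < (k : ℝ) ^ 2 * S := by
    apply mul_lt_mul_of_pos_left hS
    linarith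
  have h2 : (g : ℝ) ^ 2 * ((g : ℝ) ^ 2 * (q - 1) + 2 * k) ≤
      (k : ℝ) ^ 2 * ((g : ℝ) ^ 2 * ((g : ℝ) ^ 2 * (q - 1) + 2)) := by
    have h3 : (g : ℝ) ^ 2 * (q - 1) ≤ (k : ℝ) ^ 2 * ((g : ℝ) ^ 2 * (q - 1)) := by
      have : 0 ≤ (g : ℝ) ^ 2 * (q - 1) := mul_nonneg hg0.le hq0
      nlinarith
    nlinarith
  nlinarith

/-- **[KZERO]**: `E` with `⟨E, 1⟩ = g`, `‖E‖² = g² q + 2k`, and `g ⟨E, Z_i⟩ = a_i k` on an
orthogonal family `Z` (orthogonal to `1`) of norms `n_i`: if `∑ a_i² / n_i > g² (g² (q-1) + 2)`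
then `k = 0`. -/
theorem kzero {κ : Type*} [Fintype κ] (E : K → ℂ) (Z : κ → K → ℂ) (n : κ → ℝ)
    (hn : ∀ i, 0 < n i) (hZ1 : ∀ i, classInner (Z i) (Z i) = (n i : ℂ))
    (hZ0 : ∀ i j, i ≠ j → classInner (Z i) (Z j) = 0)
    (hZone : ∀ i, classInner (Z i) (fun _ : K => (1 : ℂ)) = 0)
    (a : κ → ℤ) (g q k : ℤ) (hg : 0 < g) (hq : 1 ≤ q)
    (hE1 : classInner E (fun _ : K => (1 : ℂ)) = g)
    (hcoef : ∀ i, (g : ℂ) * classInner E (Z i) = (a i : ℂ) * k)
    (hnorm : (classInner E E).re = (g : ℝ) ^ 2 * q + 2 * k)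
    (hS : (g : ℝ) ^ 2 * ((g : ℝ) ^ 2 * (q - 1) + 2) < ∑ i, ((a i : ℝ)) ^ 2 / n i) : k = 0 := by
  have hgR : (0 : ℝ) < g := by exact_mod_cast hg
  have hgC : (g : ℂ) ≠ 0 := by
    have : (g : ℤ) ≠ 0 := hg.ne'
    exact_mod_cast this
  -- the family with `1` added
  let Z' : Option κ → K → ℂ := fun o => o.elim (fun _ => 1) Z
  let n' : Option κ → ℝ := fun o => o.elim 1 n
  let b' : Option κ → ℝ := fun o => o.elim (g : ℝ) (fun i => (a i : ℝ) * k / g)
  have h := bessel_orthogonal E Z' n'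
    (fun o => by cases o with
      | none => exact one_pos
      | some i => exact hn i)
    (fun o => by cases o with
      | none => simpa [Z', n'] using classInner_one_one (K := K)
      | some i => exact hZ1 i)
    (fun o o' hne => by
      cases o with
      | none =>
        cases o' with
        | none => exact absurd rfl hne
        | some j =>
          show classInner (fun _ : K => (1 : ℂ)) (Z j) = 0
          rw [← Helper78.classInner_conj_symm, hZone j, map_zero]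
      | some i =>
        cases o' with
        | none => exact hZone i
        | some j => exact hZ0 i j (fun h => hne (by rw [h])))
    b'
    (fun o => by cases o with
      | none =>
        show classInner E (fun _ : K => (1 : ℂ)) = ((g : ℝ) : ℂ)
        rw [hE1]; push_cast; rfl
      | some i =>
        show classInner E (Z i) = (((a i : ℝ) * k / g : ℝ) : ℂ)
        have := hcoef i
        push_cast
        field_simp
        linear_combination this)
  rw [Fintype.sum_option] at h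
  simp only [Option.elim, b', n'] at h
  rw [hnorm] at h
  have h2 : ∑ i, ((a i : ℝ) * k / g) ^ 2 / n i = (k : ℝ) ^ 2 / (g : ℝ) ^ 2 * ∑ i, (a i : ℝ) ^ 2 / n i := by
    rw [Finset.mul_sum]
    apply Finset.sum_congr rfl
    intro i _
    have := (hn i).ne'
    field_simp
  rw [h2] at h
  apply kzero_arith g q k (∑ i, ((a i : ℝ)) ^ 2 / n i) hg hq _ hS
  have h3 : (g : ℝ) ^ 2 / 1 + (k : ℝ) ^ 2 / (g : ℝ) ^ 2 * ∑ i, (a i : ℝ) ^ 2 / n i ≤
      (g : ℝ) ^ 2 * q + 2 * k := h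
  have hg2 : (0 : ℝ) < (g : ℝ) ^ 2 := by positivity
  have h4 := mul_le_mul_of_nonneg_left h3 hg2.le
  have h5 : (g : ℝ) ^ 2 * ((g : ℝ) ^ 2 / 1 + (k : ℝ) ^ 2 / (g : ℝ) ^ 2 * ∑ i, (a i : ℝ) ^ 2 / n i) =
      (g : ℝ) ^ 2 * (g : ℝ) ^ 2 + (k : ℝ) ^ 2 * ∑ i, (a i : ℝ) ^ 2 / n i := by
    field_simp
  rw [h5] at h4
  exact h4

end Bessel

end Cfsg.Agent.Lib.Helper64.PF11
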