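import Mathlib

/-!
# Project CH4 (S4167): no conjugacy class size divisible by 4 implies solvable

Common definitions for the modules of the project (helper64).
-/

set_option autoImplicit false

namespace Cfsg.Agent.Lib.Helper64.CH4

/-- No conjugacy class of `G` has size divisible by `4`. -/
def Hyp4 (G : Type*) [Group G] : Prop :=
  ∀ x : G, ¬ 4 ∣ (Subgroup.centralizer ({x} : Set G)).index

/-- All Sylow `2`-subgroups of `G` are abelian (phrased elementwise). -/
def AbSyl (G : Type*) [Group G] : Prop :=
  ∀ P : Sylow 2 G, ∀ a ∈ P, ∀ b ∈ P, a * b = b * a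

end Cfsg.Agent.Lib.Helper64.CH4
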