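import Mathlib

/-!
# Counting conjugacy classes over a TI subgroup with Frobenius-like normaliser (helper64)

`K ≤ N ≤ G`, elements outside `N` conjugate no non-identity element of `K` into `K`, and every
element of `N` outside `K` is `N`-conjugate into `E ≤ N`.  Then
`k(N) + #(classes of G avoiding K) + 1 ≤ k(G) + |E|`.
-/

set_option autoImplicit false

namespace Cfsg.Agent.Lib.Helper64

section

theorem natCard_split {α : Type*} [Finite α] (p : α → Prop) :
    Nat.card α = Nat.card {x // p x} + Nat.card {x // ¬ p x} := by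
  classical
  have := Fintype.ofFinite α
  rw [Nat.card_eq_fintype_card, Nat.card_eq_fintype_card, Nat.card_eq_fintype_card,
    Fintype.card_subtype_compl]
  have := Fintype.card_subtype_le p
  omega

variable {G : Type*} [Group G] [Finite G]

theorem card_conjClasses_ge (N K E : Subgroup G) (hEN : E ≤ N)
    (hTI : ∀ g : G, g ∉ N → ∀ u ∈ K, g * u * g⁻¹ ∈ K → u = 1)
    (hconj : ∀ x ∈ N, x ∉ K → ∃ n ∈ N, n * x * n⁻¹ ∈ E) :
    Nat.card (ConjClasses N) +
      Nat.card {C : ConjClasses G // ∀ g : G, ConjClasses.mk g = C → g ∉ K} + 1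
      ≤ Nat.card (ConjClasses G) + Nat.card E := by
  classical
  -- classes of `N` meeting `K`
  let pX : ConjClasses N → Prop := fun D => ∃ n : N, (n : G) ∈ K ∧ ConjClasses.mk n = D
  let pA : ConjClasses G → Prop := fun C => ∀ g : G, ConjClasses.mk g = C → g ∉ K
  have hN := natCard_split pX
  have hG := natCard_split pA
  -- (1) classes of `N` avoiding `K`
  have h1 : Nat.card {D : ConjClasses N // ¬ pX D} + 1 ≤ Nat.card E := by
    have hex : ∀ D : {D : ConjClasses N // ¬ pX D}, ∃ y : E, (y : G) ≠ 1 ∧
        ∃ hy : (y : G) ∈ N, ConjClasses.mk (⟨(y : G), hy⟩ : N) = D.1 := by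
      rintro ⟨D, hD⟩
      obtain ⟨n, rfl⟩ := ConjClasses.mk_surjective D
      have hnK : (n : G) ∉ K := fun h => hD ⟨n, h, rfl⟩
      obtain ⟨n', hn', hE⟩ := hconj n n.2 hnK
      refine ⟨⟨n' * n * n'⁻¹, hE⟩, ?_, hEN hE, ?_⟩
      · intro h
        apply hnK
        have : (n : G) = 1 := by
          have h2 : n' * (n : G) * n'⁻¹ = 1 := h
          have := congrArg (fun z => n'⁻¹ * z * n') h2
          simpa [mul_assoc] using this
        rw [this]; exact K.one_mem
      · show ConjClasses.mk _ = ConjClasses.mk n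
        rw [ConjClasses.mk_eq_mk_iff_isConj, isConj_comm, isConj_iff]
        exact ⟨⟨n', hn'⟩, Subtype.ext rfl⟩
    choose f hf using hex
    have hinj : Function.Injective (fun D => (⟨f D, fun h => (hf D).1 (by
        have := congrArg Subtype.val h; simpa using this)⟩ : {y : E // ¬ y = 1})) := by
      intro D D' h
      have h2 : f D = f D' := congrArg Subtype.val h
      obtain ⟨hy, hD⟩ := (hf D).2
      obtain ⟨hy', hD'⟩ := (hf D').2
      apply Subtype.ext
      rw [← hD, ← hD']
      congr 1
      apply Subtype.ext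
      show ((f D : E) : G) = ((f D' : E) : G)
      rw [h2]
    have hle := Nat.card_le_card_of_injective _ hinj
    have hE1 := natCard_split (fun y : E => y = 1)
    have hone : Nat.card {y : E // y = 1} = 1 := by
      rw [Nat.card_eq_one_iff_unique]
      exact ⟨⟨fun a b => Subtype.ext (a.2.trans b.2.symm)⟩, ⟨⟨1, rfl⟩⟩⟩
    omega
  -- (2) classes of `N` meeting `K` inject into classes of `G` meeting `K`
  have h2 : Nat.card {D : ConjClasses N // pX D} ≤ Nat.card {C : ConjClasses G // ¬ pA C} := by
    have hmap : ∀ D : {D : ConjClasses N // pX D}, ¬ pA (ConjClasses.map N.subtype D.1) := by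
      rintro ⟨D, n, hn, rfl⟩ h
      exact h (n : G) rfl hn
    apply Nat.card_le_card_of_injective (fun D => (⟨ConjClasses.map N.subtype D.1, hmap D⟩ :
      {C : ConjClasses G // ¬ pA C}))
    rintro ⟨D, n, hn, rfl⟩ ⟨D', n', hn', rfl⟩ h
    have h3 : ConjClasses.mk (n : G) = ConjClasses.mk (n' : G) := congrArg Subtype.val h
    rw [ConjClasses.mk_eq_mk_iff_isConj, isConj_iff] at h3
    obtain ⟨g, hg⟩ := h3
    apply Subtype.ext
    show ConjClasses.mk n = ConjClasses.mk n'
    rw [ConjClasses.mk_eq_mk_iff_isConj]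
    by_cases hn1 : (n : G) = 1
    · have hn'1 : (n' : G) = 1 := by rw [← hg, hn1]; group
      have e1 : n = 1 := Subtype.ext hn1
      have e2 : n' = 1 := Subtype.ext hn'1
      rw [e1, e2]
    · have hgN : g ∈ N := by
        by_contra hgN
        exact hn1 (hTI g hgN n hn (by rw [hg]; exact hn'))
      rw [isConj_iff]
      exact ⟨⟨g, hgN⟩, Subtype.ext hg⟩
  show Nat.card (ConjClasses N) + Nat.card {C : ConjClasses G // pA C} + 1 ≤ _
  omega

end

end Cfsg.Agent.Lib.Helper64
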