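import Mathlib
import Cfsg.Prelude.Def_OddOrderChar
import Cfsg.Prelude.Def_Blocks
import Cfsg.Agent.Lib.Helper26.ZSpan
import Cfsg.Agent.Lib.Helper26.IrrFactsInst
import Cfsg.Agent.Lib.Helper25.Induced
import Cfsg.Agent.Lib.Helper75.Clifford
import Cfsg.Agent.Lib.Helper78.CharMore
import Cfsg.Agent.Lib.Helper64.SibleyNumeric

/-!
# The degree of a non-exceptional character over a coherent Frobenius normaliser (helper64)

`N ≤ G`, `H ⊴ N`; `S` = irreducible characters of `N` not trivial on `H`; `τ₁` a linear isometry on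
`ℤS` extending induction on `ℤS°`.  An irreducible character `χ` of `G` orthogonal to all `τ₁ ζ`
and whose restriction to `N` has no constituent trivial on `H` has degree `c (|H| - 1)`.
-/

set_option autoImplicit false

namespace Cfsg.Agent.Lib.Helper64

open Cfsg Cfsg.Agent.Lib.Helper26 Cfsg.Agent.Lib.Helper78
open scoped ComplexConjugate

section

variable {G : Type*} [Group G] [Fintype G] (N : Subgroup G) [Fintype N] (H : Subgroup N)
  [hHn : H.Normal]

theorem coherent_degree_core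
    (τ₁ : (N → ℂ) → (G → ℂ))
    (hτ₁ : IsLinearIsometryOn
      (zspan {ζ : N → ℂ | IsIrrCharacter N ζ ∧ ∃ h ∈ H, ζ h ≠ ζ 1}) τ₁)
    (hext : ∀ α ∈ zspanOn {ζ : N → ℂ | IsIrrCharacter N ζ ∧ ∃ h ∈ H, ζ h ≠ ζ 1} {1}ᶜ,
      τ₁ α = indFun N α)
    (χ : G → ℂ) (hχ : IsIrrCharacter G χ)
    (hχS : ∀ ζ : N → ℂ, IsIrrCharacter N ζ → (∃ h ∈ H, ζ h ≠ ζ 1) → classInner (τ₁ ζ) χ = 0)
    (hχ0 : ∀ ψ : N → ℂ, IsIrrCharacter N ψ → (∀ h ∈ H, ψ h = ψ 1) →
      classInner (fun n : N => χ n) ψ = 0)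
    (ζ₀ : N → ℂ) (hζ₀ : IsIrrCharacter N ζ₀) (hζ₀H : ∃ h ∈ H, ζ₀ h ≠ ζ₀ 1)
    (d₀ : ℕ) (hd₀ : d₀ ∣ Nat.card H) (hdeg : charDegree ζ₀ = H.index * d₀) :
    (Nat.card H - 1) ∣ charDegree χ := by
  classical
  set S : Set (N → ℂ) := {ζ : N → ℂ | IsIrrCharacter N ζ ∧ ∃ h ∈ H, ζ h ≠ ζ 1} with hS
  have hχch : IsCharacter G χ := IsIrrCharacter.isCharacter hχ
  have hχcf : IsClassFunction G χ := IsCharacter.isClassFunction hχch
  set res : N → ℂ := fun n => χ n with hres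
  have hresch : IsCharacter N res := Cfsg.Agent.Lib.Helper75.isCharacter_res N hχch
  have hmult : ∀ ψ : IrrCharacter N, ∃ n : ℕ, classInner res (ψ : N → ℂ) = n :=
    fun ψ => IsCharacter.exists_nat_classInner hresch ψ
  choose m hm using hmult
  set ζ₀' : IrrCharacter N := ⟨ζ₀, hζ₀⟩ with hζ₀'
  have hm₀ : classInner res ζ₀ = (m ζ₀' : ℂ) := hm ζ₀'
  have hζ₀S : ζ₀ ∈ S := ⟨hζ₀, hζ₀H⟩
  have hclosed : IsZClosed (zspan S) := isZClosed_zspan S
  -- proportionality of the multiplicities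
  have hprop : ∀ ζ : IrrCharacter N, (∃ h ∈ H, (ζ : N → ℂ) h ≠ (ζ : N → ℂ) 1) →
      charDegree (ζ : N → ℂ) * m ζ₀' = (H.index * d₀) * m ζ := by
    intro ζ hζH
    have hζS : (ζ : N → ℂ) ∈ S := ⟨ζ.2, hζH⟩
    set α : N → ℂ := ((charDegree (ζ : N → ℂ) : ℕ) : ℤ) • ζ₀ -
      ((charDegree ζ₀ : ℕ) : ℤ) • (ζ : N → ℂ) with hα
    have ha1 : ((charDegree (ζ : N → ℂ) : ℕ) : ℤ) • ζ₀ ∈ zspan S :=
      zspan_zsmul _ (subset_zspan S hζ₀S)
    have ha2 : ((charDegree ζ₀ : ℕ) : ℤ) • (ζ : N → ℂ) ∈ zspan S :=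
      zspan_zsmul _ (subset_zspan S hζS)
    have hαspan : α ∈ zspan S := zspan_sub ha1 ha2
    have hα1 : α 1 = 0 := by
      rw [hα]
      show ((charDegree (ζ : N → ℂ) : ℕ) : ℤ) • ζ₀ 1 -
        ((charDegree ζ₀ : ℕ) : ℤ) • (ζ : N → ℂ) 1 = 0
      rw [zsmul_eq_mul, zsmul_eq_mul, IsCharacter.apply_one_eq_charDegree (IsIrrCharacter.isCharacter hζ₀),
        IsCharacter.apply_one_eq_charDegree (IsIrrCharacter.isCharacter ζ.2)]
      push_cast
      ring
    have hαon : α ∈ zspanOn S {1}ᶜ := mem_zspanOn_compl_one.2 ⟨hαspan, hα1⟩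
    have hτα : τ₁ α = ((charDegree (ζ : N → ℂ) : ℕ) : ℤ) • τ₁ ζ₀ -
        ((charDegree ζ₀ : ℕ) : ℤ) • τ₁ (ζ : N → ℂ) := by
      rw [hα, isom_sub hclosed hτ₁ ha1 ha2, isom_zsmul hτ₁ _ (subset_zspan S hζ₀S),
        isom_zsmul hτ₁ _ (subset_zspan S hζS)]
    have h1 : classInner (τ₁ α) χ = 0 := by
      rw [hτα, classInner_sub_left, classInner_zsmul_left, classInner_zsmul_left,
        hχS ζ₀ hζ₀ hζ₀H, hχS ζ ζ.2 hζH]
      ring
    have h2 : classInner (τ₁ α) χ = classInner α res := by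
      rw [hext α hαon]
      exact Cfsg.Agent.Lib.Helper25.frobenius_reciprocity N α χ hχcf
    have h3 : classInner α res = (charDegree (ζ : N → ℂ) : ℂ) * (m ζ₀' : ℂ) -
        (charDegree ζ₀ : ℂ) * (m ζ : ℂ) := by
      rw [hα, classInner_sub_left, classInner_zsmul_left, classInner_zsmul_left,
        ← Cfsg.Agent.Lib.Helper26.classInner_conj_symm res ζ₀,
        ← Cfsg.Agent.Lib.Helper26.classInner_conj_symm res (ζ : N → ℂ), hm₀, hm ζ]
      simp
    rw [h2, h3, hdeg] at h1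
    push_cast at h1
    have h4 : ((charDegree (ζ : N → ℂ) * m ζ₀' : ℕ) : ℂ) =
        (((H.index * d₀) * m ζ : ℕ) : ℂ) := by
      push_cast
      linear_combination h1
    exact_mod_cast h4
  -- the degree of χ
  have hsum : res = ∑ ψ : IrrCharacter N, classInner res (ψ : N → ℂ) • (ψ : N → ℂ) :=
    IsCharacter.eq_sum_irr hresch
  have hres1 : res 1 = χ 1 := by
    simp [hres]
  have hdegχ : charDegree χ = ∑ ψ : IrrCharacter N, m ψ * charDegree (ψ : N → ℂ) := by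
    have h1 : (charDegree χ : ℂ) = res 1 := by
      rw [hres1, IsCharacter.apply_one_eq_charDegree hχch]
    have h2 : res 1 = ∑ ψ : IrrCharacter N, (m ψ : ℂ) * (charDegree (ψ : N → ℂ) : ℂ) := by
      conv_lhs => rw [hsum]
      rw [Finset.sum_apply]
      apply Finset.sum_congr rfl
      intro ψ _
      rw [Pi.smul_apply, smul_eq_mul, hm ψ,
        IsCharacter.apply_one_eq_charDegree (IsIrrCharacter.isCharacter ψ.2)]
    have h3 : (charDegree χ : ℂ) =
        ((∑ ψ : IrrCharacter N, m ψ * charDegree (ψ : N → ℂ) : ℕ) : ℂ) := by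
      rw [h1, h2]
      push_cast
      rfl
    exact_mod_cast h3
  -- characters trivial on `H` do not occur
  have hzero : ∀ ψ : IrrCharacter N, (∀ z ∈ H, (ψ : N → ℂ) z = (ψ : N → ℂ) 1) → m ψ = 0 := by
    intro ψ hψ
    have h1 := hχ0 ψ ψ.2 hψ
    have h2 : (m ψ : ℂ) = 0 := by rw [← hm ψ]; exact h1
    exact_mod_cast h2
  set F := Finset.univ.filter
    (fun ξ : IrrCharacter N => ¬ ∀ z ∈ H, (ξ : N → ℂ) z = (ξ : N → ℂ) 1) with hF
  have hsplit : ∑ ψ : IrrCharacter N, m ψ * charDegree (ψ : N → ℂ) =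
      ∑ ψ ∈ F, m ψ * charDegree (ψ : N → ℂ) := by
    rw [hF, Finset.sum_filter]
    apply Finset.sum_congr rfl
    intro ψ _
    by_cases h : ∀ z ∈ H, (ψ : N → ℂ) z = (ψ : N → ℂ) 1
    · rw [if_neg (not_not.2 h), hzero ψ h, zero_mul]
    · rw [if_pos h]
  have hkey : (H.index * d₀) * charDegree χ = m ζ₀' * (H.index * (Nat.card H - 1)) := by
    have hnum := sum_sq_charDegree_nontrivial_on H
    have hcard : Nat.card H * H.index = Nat.card N := Subgroup.card_mul_index H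
    have hF2 : ∑ ξ ∈ F, charDegree (ξ : N → ℂ) ^ 2 = H.index * (Nat.card H - 1) := by
      have hpos : 0 < Nat.card H := Nat.card_pos
      have h5 : ∑ ξ ∈ F, charDegree (ξ : N → ℂ) ^ 2 + H.index = Nat.card H * H.index := by
        rw [hcard]; exact hnum
      have h6 : H.index * (Nat.card H - 1) + H.index = Nat.card H * H.index := by
        obtain ⟨k, hk⟩ : ∃ k, Nat.card H = k + 1 := ⟨Nat.card H - 1, by omega⟩
        rw [hk]
        simp only [Nat.add_sub_cancel]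
        ring
      omega
    rw [hdegχ, hsplit, Finset.mul_sum, ← hF2, Finset.mul_sum]
    apply Finset.sum_congr rfl
    intro ψ hψ
    have hψH : ∃ h ∈ H, (ψ : N → ℂ) h ≠ (ψ : N → ℂ) 1 := by
      have := (Finset.mem_filter.1 hψ).2
      push Not at this
      exact this
    have := hprop ψ hψH
    calc (H.index * d₀) * (m ψ * charDegree (ψ : N → ℂ))
        = ((H.index * d₀) * m ψ) * charDegree (ψ : N → ℂ) := by ring
      _ = (charDegree (ψ : N → ℂ) * m ζ₀') * charDegree (ψ : N → ℂ) := by rw [this]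
      _ = m ζ₀' * charDegree (ψ : N → ℂ) ^ 2 := by ring
  have hidx : 0 < H.index := Nat.pos_of_ne_zero Subgroup.index_ne_zero_of_finite
  have h7 : H.index * (d₀ * charDegree χ) = H.index * (m ζ₀' * (Nat.card H - 1)) := by
    rw [← mul_assoc, hkey]; ring
  have h8 : d₀ * charDegree χ = m ζ₀' * (Nat.card H - 1) := Nat.eq_of_mul_eq_mul_left hidx h7
  have hcop : Nat.Coprime (Nat.card H - 1) d₀ := by
    have hpos : 0 < Nat.card H := Nat.card_pos
    obtain ⟨k, hk⟩ : ∃ k, Nat.card H = k + 1 := ⟨Nat.card H - 1, by omega⟩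
    have h9 : Nat.Coprime (Nat.card H - 1) (Nat.card H) := by
      rw [hk]
      simp
    exact Nat.Coprime.coprime_dvd_right hd₀ h9
  have h10 : (Nat.card H - 1) ∣ d₀ * charDegree χ := ⟨m ζ₀', by rw [h8]; ring⟩
  exact hcop.dvd_of_dvd_mul_left h10

end

end Cfsg.Agent.Lib.Helper64
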