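import Mathlib
import Cfsg.Prelude.Def_OddOrderChar
import Cfsg.Prelude.Def_Blocks
import Cfsg.Agent.Lib.Helper26.ZSpan
import Cfsg.Agent.Lib.Helper26.IrrFactsInst
import Cfsg.Agent.Lib.Helper25.Norm3
import Cfsg.Agent.Lib.Helper78.CharMore
import Cfsg.Agent.Lib.Helper78.CharValues

/-!
# Counting lemmas for irreducible characters (helper64)

* `card_exceptional_le`: the irreducible characters of `G` meeting some `τ₁ ζ`, `ζ ∈ S`, are at
  most as many as `S`;
* `card_constituents_le`: a character of norm `k` has at most `k` irreducible constituents;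
* `two_mul_card_image_le`: a map constant on the orbits of a fixed-point-free involution has an
  image of at most half the size.
-/

set_option autoImplicit false

namespace Cfsg.Agent.Lib.Helper64

open Cfsg Cfsg.Agent.Lib.Helper26 Cfsg.Agent.Lib.Helper78
open scoped ComplexConjugate

section exc

variable {G : Type*} [Group G] [Fintype G] {N : Type*} [Group N] [Fintype N]

/-- an irreducible character is not the negative of an irreducible character -/
theorem irr_ne_neg_irr {χ ψ : G → ℂ} (hχ : IsIrrCharacter G χ) (hψ : IsIrrCharacter G ψ) :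
    χ ≠ -ψ := by
  intro h
  have h1 := IsCharacter.apply_one_eq_charDegree (IsIrrCharacter.isCharacter hχ)
  have h2 := IsCharacter.apply_one_eq_charDegree (IsIrrCharacter.isCharacter hψ)
  have h3 : χ 1 = - ψ 1 := by rw [h]; rfl
  rw [h1, h2] at h3
  have h4 : ((charDegree χ + charDegree ψ : ℕ) : ℂ) = 0 := by
    push_cast
    rw [h3]
    ring
  have h5 : charDegree χ + charDegree ψ = 0 := by exact_mod_cast h4
  have := IsIrrCharacter.charDegree_pos hχ
  omega

open Classical in
theorem card_exceptional_le (S : Set (N → ℂ)) (τ₁ : (N → ℂ) → (G → ℂ))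
    (hτ₁ : IsLinearIsometryOn (zspan S) τ₁) (hSirr : ∀ ζ ∈ S, IsIrrCharacter N ζ)
    (Sf : Finset (N → ℂ)) (hSf : ∀ ζ, ζ ∈ S → ζ ∈ Sf) :
    (Finset.univ.filter (fun χ : IrrCharacter G =>
      ∃ ζ ∈ S, classInner (τ₁ ζ) (χ : G → ℂ) ≠ 0)).card ≤ Sf.card := by
  -- each `τ₁ ζ` is a signed irreducible character
  have hsirr : ∀ ζ ∈ S, Cfsg.Agent.Lib.Helper25.SIrr G (τ₁ ζ) := by
    intro ζ hζ
    apply Cfsg.Agent.Lib.Helper25.sirr_of_norm_one (isom_gen hτ₁ (subset_zspan S hζ))
    rw [isom_inner hτ₁ (subset_zspan S hζ) (subset_zspan S hζ)]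
    exact classInner_irr_self (hSirr ζ hζ)
  have hdet : ∀ ζ ∈ S, ∀ χ : IrrCharacter G, classInner (τ₁ ζ) (χ : G → ℂ) ≠ 0 →
      τ₁ ζ = (χ : G → ℂ) ∨ τ₁ ζ = -(χ : G → ℂ) := by
    intro ζ hζ χ hne
    have hχs : Cfsg.Agent.Lib.Helper25.SIrr G (χ : G → ℂ) := Or.inl χ.2
    rcases (hsirr ζ hζ).inner_tri hχs with h | h | h
    · exact Or.inl h.2
    · exact Or.inr h.2
    · exact absurd h hne
  set F := Finset.univ.filter (fun χ : IrrCharacter G =>
      ∃ ζ ∈ S, classInner (τ₁ ζ) (χ : G → ℂ) ≠ 0) with hF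
  let g : IrrCharacter G → (N → ℂ) := fun χ =>
    if h : ∃ ζ ∈ S, classInner (τ₁ ζ) (χ : G → ℂ) ≠ 0 then Classical.choose h else 0
  have hg : ∀ χ ∈ F, g χ ∈ S ∧ classInner (τ₁ (g χ)) (χ : G → ℂ) ≠ 0 := by
    intro χ hχ
    have h := (Finset.mem_filter.1 hχ).2
    have hgχ : g χ = Classical.choose h := dif_pos h
    rw [hgχ]
    exact Classical.choose_spec h
  apply Finset.card_le_card_of_injOn g
  · intro χ hχ
    exact hSf _ (hg χ hχ).1
  · intro χ hχ χ' hχ' hgg
    have h1 := hg χ hχ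
    have h2 := hg χ' hχ'
    rw [← hgg] at h2
    have d1 := hdet _ h1.1 χ h1.2
    have d2 := hdet _ h1.1 χ' h2.2
    apply Subtype.ext
    rcases d1 with d1 | d1 <;> rcases d2 with d2 | d2
    · rw [← d1, d2]
    · exfalso
      have : (χ : G → ℂ) = -(χ' : G → ℂ) := by rw [← d1, d2]
      exact irr_ne_neg_irr χ.2 χ'.2 this
    · exfalso
      have : (χ' : G → ℂ) = -(χ : G → ℂ) := by rw [← d2, d1]
      exact irr_ne_neg_irr χ'.2 χ.2 this
    · have : -(χ : G → ℂ) = -(χ' : G → ℂ) := by rw [← d1, d2]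
      exact neg_injective this

open Classical in
/-- a character of norm `k` has at most `k` irreducible constituents -/
theorem card_constituents_le {π : G → ℂ} (hπ : IsCharacter G π) (k : ℕ)
    (hk : classInner π π = k) :
    (Finset.univ.filter (fun χ : IrrCharacter G => classInner π (χ : G → ℂ) ≠ 0)).card ≤ k := by
  have hmult : ∀ ψ : IrrCharacter G, ∃ n : ℕ, classInner π (ψ : G → ℂ) = n :=
    fun ψ => IsCharacter.exists_nat_classInner hπ ψ
  choose m hm using hmult
  have hpars := classInner_eq_sum_mul_conj π (IsCharacter.isClassFunction hπ)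
  rw [hk] at hpars
  have h1 : (k : ℂ) = ((∑ ψ : IrrCharacter G, m ψ * m ψ : ℕ) : ℂ) := by
    rw [hpars]
    push_cast
    apply Finset.sum_congr rfl
    intro ψ _
    rw [hm ψ]
    simp
  have h2 : k = ∑ ψ : IrrCharacter G, m ψ * m ψ := by exact_mod_cast h1
  rw [h2, Finset.card_eq_sum_ones, Finset.sum_filter]
  apply Finset.sum_le_sum
  intro ψ _
  by_cases h : classInner π (ψ : G → ℂ) ≠ 0
  · rw [if_pos h]
    have : m ψ ≠ 0 := by
      intro h0
      apply h
      rw [hm ψ, h0]
      simp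
    have : 1 ≤ m ψ := Nat.one_le_iff_ne_zero.2 this
    nlinarith
  · rw [if_neg h]
    exact Nat.zero_le _

end exc

section pairing

/-- a map constant on the orbits of a fixed-point-free involution of `s` has an image of at most
half the size of `s`. -/
theorem two_mul_card_image_le {α β : Type*} [DecidableEq α] [DecidableEq β] (s : Finset α) (f : α → β) (σ : α → α)
    (hσs : ∀ a ∈ s, σ a ∈ s) (hσne : ∀ a ∈ s, σ a ≠ a) (hfσ : ∀ a ∈ s, f (σ a) = f a) :
    2 * (s.image f).card ≤ s.card := by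
  rw [Finset.card_eq_sum_card_image f s, mul_comm, ← smul_eq_mul, ← Finset.sum_const]
  apply Finset.sum_le_sum
  intro b hb
  obtain ⟨a, ha, rfl⟩ := Finset.mem_image.1 hb
  have h1 : ({a, σ a} : Finset α) ⊆ s.filter (fun x => f x = f a) := by
    intro x hx
    rw [Finset.mem_insert, Finset.mem_singleton] at hx
    rcases hx with rfl | rfl
    · exact Finset.mem_filter.2 ⟨ha, rfl⟩
    · exact Finset.mem_filter.2 ⟨hσs _ ha, hfσ _ ha⟩
  have h2 : ({a, σ a} : Finset α).card = 2 :=
    Finset.card_pair (fun h => hσne a ha h.symm)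
  calc 2 = ({a, σ a} : Finset α).card := h2.symm
    _ ≤ _ := Finset.card_le_card h1

end pairing

end Cfsg.Agent.Lib.Helper64
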