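import Mathlib
import Cfsg.Prelude.Def_Blocks
import Cfsg.Agent.Lib.Helper74.FrobInduced
import Cfsg.Agent.Lib.Helper75.Clifford
import Cfsg.Agent.Lib.Helper75.IndNormal
import Cfsg.Agent.Lib.Helper78.CharMore
import Cfsg.Agent.Lib.Helper79.Integrality

/-!
# An induced irreducible character of a Frobenius-type group (helper64)
-/

set_option autoImplicit false

namespace Cfsg.Agent.Lib.Helper64

open Cfsg Cfsg.Agent.Lib.Helper78

section

variable {X : Type*} [Group X] [Fintype X]

/-- a nontrivial finite group has a non-principal irreducible character -/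
theorem exists_irr_ne_one (hX : 1 < Nat.card X) :
    ∃ θ : X → ℂ, IsIrrCharacter X θ ∧ θ ≠ fun _ => 1 := by
  by_contra hcon
  push Not at hcon
  set one' : IrrCharacter X := ⟨fun _ => 1, isIrrCharacter_one⟩ with hone
  have hall : ∀ χ : IrrCharacter X, χ = one' := fun χ => Subtype.ext (hcon χ χ.2)
  have hsum := sum_irr_charDegree_sq (G := X)
  have h1 : ∑ χ : IrrCharacter X, (charDegree (χ : X → ℂ)) ^ 2 =
      (charDegree (one' : X → ℂ)) ^ 2 := by
    apply Finset.sum_eq_single_of_mem one' (Finset.mem_univ _)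
    intro χ _ hne
    exact absurd (hall χ) hne
  have h2 : charDegree (one' : X → ℂ) = 1 := by
    have := IsCharacter.apply_one_eq_charDegree (IsIrrCharacter.isCharacter one'.2)
    have h3 : ((one' : IrrCharacter X) : X → ℂ) 1 = 1 := rfl
    rw [h3] at this
    exact_mod_cast this.symm
  rw [h1, h2] at hsum
  omega

variable (K : Subgroup X) [hKn : K.Normal]

theorem exists_induced_irr (hK1 : 1 < Nat.card K)
    (hC : ∀ n ∈ K, n ≠ 1 → Subgroup.centralizer ({n} : Set X) ≤ K) :
    ∃ (ζ₀ : X → ℂ) (d₀ : ℕ), IsIrrCharacter X ζ₀ ∧ (∃ h ∈ K, ζ₀ h ≠ ζ₀ 1) ∧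
      d₀ ∣ Nat.card K ∧ charDegree ζ₀ = K.index * d₀ := by
  classical
  haveI : Fintype K := Fintype.ofFinite _
  obtain ⟨θ, hθ, hθ1⟩ := exists_irr_ne_one (X := K) hK1
  have hirr := Cfsg.Agent.Lib.Helper74.isIrrCharacter_indFun_of_centralizer_le K hC hθ hθ1
  refine ⟨indFun K θ, charDegree θ, hirr, ?_, ?_, ?_⟩
  · by_contra hcon
    push Not at hcon
    have hconst : ∀ a : K, θ a = θ 1 := by
      intro a
      apply Cfsg.Agent.Lib.Helper75.eq_of_indFun_eq K (IsIrrCharacter.isCharacter hθ) a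
      exact hcon (a : X) a.2
    have h0 := classInner_irr_ne hθ isIrrCharacter_one hθ1
    have hd := IsIrrCharacter.charDegree_pos hθ
    have h1 : classInner θ (fun _ => (1 : ℂ)) = θ 1 := by
      unfold classInner
      simp only [map_one, mul_one, hconst, Finset.sum_const, Finset.card_univ, nsmul_eq_mul]
      rw [← Nat.card_eq_fintype_card]
      have : (Nat.card K : ℂ) ≠ 0 := by
        exact_mod_cast (Nat.card_pos (α := K)).ne'
      field_simp
    rw [h1, IsCharacter.apply_one_eq_charDegree (IsIrrCharacter.isCharacter hθ)] at h0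
    have : (charDegree θ : ℂ) ≠ 0 := by exact_mod_cast hd.ne'
    exact this h0
  · exact Cfsg.Agent.Lib.Helper79.irr_charDegree_dvd_card ⟨θ, hθ⟩
  · have h1 := IsCharacter.apply_one_eq_charDegree (IsIrrCharacter.isCharacter hirr)
    rw [Cfsg.Agent.Lib.Helper75.indFun_one,
      IsCharacter.apply_one_eq_charDegree (IsIrrCharacter.isCharacter hθ)] at h1
    have h2 : ((K.index * charDegree θ : ℕ) : ℂ) = (charDegree (indFun K θ) : ℂ) := by
      push_cast
      exact h1
    exact_mod_cast h2.symm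

end

/-- the arithmetic at the end of Feit's theorem -/
theorem feit_arith (h e : ℕ) (he : 0 < e) (hh : 2 ≤ h) (hd : (h - 1) ∣ (h + 1) * h * e) :
    h - 1 ≤ 2 * e := by
  obtain ⟨m, rfl⟩ : ∃ m, h = m + 1 := ⟨h - 1, by omega⟩
  simp only [Nat.add_sub_cancel] at hd ⊢
  have hm : 0 < m := by omega
  have hcop : Nat.Coprime m (m + 1) := by simp
  have h1 : m ∣ (m + 1) * ((m + 1 + 1) * e) := by
    have : (m + 1 + 1) * (m + 1) * e = (m + 1) * ((m + 1 + 1) * e) := by ring
    rw [← this]; exact hd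
  have h2 : m ∣ (m + 1 + 1) * e := hcop.dvd_of_dvd_mul_left h1
  have h3 : (m + 1 + 1) * e = m * e + 2 * e := by ring
  rw [h3] at h2
  have h4 : m ∣ 2 * e := (Nat.dvd_add_right (Dvd.intro _ rfl)).1 h2
  exact Nat.le_of_dvd (by omega) h4

end Cfsg.Agent.Lib.Helper64
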