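import Mathlib
import Cfsg.Prelude.Def_LieExceptional
import Cfsg.Prelude.Def_OddOrderChar
import Cfsg.Prelude.Def_Blocks
import Cfsg.Agent.Lib.Helper64.ZassSetup
import Cfsg.Agent.Lib.Helper64.ZassChar
import Cfsg.Agent.Lib.Helper64.ZassInd
import Cfsg.Agent.Lib.Helper64.ZassExc
import Cfsg.Agent.Lib.Helper64.ZassClassCount
import Cfsg.Agent.Lib.Helper64.ZassCohCore
import Cfsg.Agent.Lib.Helper64.ZassFrobChar
import Cfsg.Agent.Lib.Helper3.PermChar
import Cfsg.Agent.Lib.Helper81.IrrTwist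
import Cfsg.Agent.S0190
import Cfsg.Agent.S0878
import Cfsg.Agent.S0884

/-!
# Feit's theorem on Zassenhaus groups: the coherent case (helper64)
-/

set_option autoImplicit false
set_option linter.unusedSectionVars false
set_option maxHeartbeats 1000000

namespace Cfsg.Agent.Lib.Helper64

open MulAction Cfsg Cfsg.Agent.Lib.Helper59 Cfsg.Agent.Lib.Helper78
open scoped ComplexConjugate

section

variable {G Ω : Type*} [Group G] [Fintype G] [MulAction G Ω] [Fintype Ω]
  (hZ : Cfsg.IsZassenhausGroup G Ω) {a b : Ω} (hab : a ≠ b) [IsSimpleGroup G]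
  (h e : ℕ) (hh : Fintype.card Ω = h + 1)
  (he : Nat.card ↥(stabilizer G a ⊓ stabilizer G b : Subgroup G) = e) (hodd : Odd e)
  (hlt : 2 * e < h - 1)
  (H : Subgroup G) (hHa : H ≤ stabilizer G a) (hHcard : Nat.card H + 1 = Fintype.card Ω)
  (hHfix : ∀ u ∈ H, u ≠ 1 → ∀ c : Ω, u • c = c → c = a)

include hZ hab hh he hodd hlt hHa hHcard hHfix

local notation "NN" => MulAction.stabilizer G a
local notation "HH" => Subgroup.subgroupOf H (MulAction.stabilizer G a)

open Classical in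
/-- the characters of `G` lying over characters of the point stabiliser trivial on the kernel
are few. -/
theorem zass_card_bad_le [Fintype ↥(stabilizer G a)] :
    2 * (Finset.univ.filter (fun χ : IrrCharacter G =>
      ∃ ψ : stabilizer G a → ℂ, IsIrrCharacter (stabilizer G a) ψ ∧
        (∀ z ∈ H.subgroupOf (stabilizer G a), ψ z = ψ 1) ∧
        classInner (fun n : stabilizer G a => (χ : G → ℂ) n) ψ ≠ 0)).card ≤ e + 3 := by
  have hn := zass_kernel_normal hZ hab H hHa hHcard hHfix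
  have hoddE : Odd (Nat.card ↥(stabilizer G a ⊓ stabilizer G b : Subgroup G)) := by
    rw [he]; exact hodd
  have hlt' : Nat.card ↥(stabilizer G a ⊓ stabilizer G b : Subgroup G) < Fintype.card Ω - 2 := by
    rw [he, hh]; omega
  obtain ⟨hcomm, hinv⟩ := zass_simple_stab2 hZ hab hoddE
  have hidx : (HH).index = e := (zass_index_kernel hZ hab H hHa hHcard hHfix).trans he
  set oneN : IrrCharacter NN := ⟨fun _ => 1, isIrrCharacter_one⟩ with honeN
  -- facts about a non-principal character trivial on the kernel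
  have hfacts : ∀ ξ : IrrCharacter NN, (∀ z ∈ HH, (ξ : NN → ℂ) z = (ξ : NN → ℂ) 1) → ξ ≠ oneN →
      (IsCharacter NN (ξ : NN → ℂ) ∧ (ξ : NN → ℂ) 1 = 1) ∧
      (∀ u : NN, (u : G) ∈ H → (ξ : NN → ℂ) u = 1) ∧ (ξ : NN → ℂ) ≠ fun _ => 1 := by
    intro ξ hξH hξ1
    have hd := zass_linear_of_trivial_on_kernel hZ hab H hHa hHcard hHfix hcomm ξ.2 hξH
    have h1 : (ξ : NN → ℂ) 1 = 1 := by
      rw [IsCharacter.apply_one_eq_charDegree (IsIrrCharacter.isCharacter ξ.2), hd]
      simp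
    refine ⟨⟨IsIrrCharacter.isCharacter ξ.2, h1⟩, ?_, ?_⟩
    · intro u hu
      rw [hξH u (Subgroup.mem_subgroupOf.2 hu), h1]
    · intro h2
      exact hξ1 (Subtype.ext h2)
  have hirr : ∀ ξ : IrrCharacter NN, (∀ z ∈ HH, (ξ : NN → ℂ) z = (ξ : NN → ℂ) 1) → ξ ≠ oneN →
      IsIrrCharacter G (indFun NN (ξ : NN → ℂ)) := by
    intro ξ hξH hξ1
    obtain ⟨hμ, hμH, hμne⟩ := hfacts ξ hξH hξ1
    exact (Cfsg.Agent.S0881.result hZ hab hoddE hlt' H hHa hHcard hHfix _ hμ hμH hμne).1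
  -- the set of non-principal characters trivial on the kernel
  set Tset := Finset.univ.filter
    (fun ξ : IrrCharacter NN => ∀ z ∈ HH, (ξ : NN → ℂ) z = (ξ : NN → ℂ) 1) with hTset
  set T' := Tset.erase oneN with hT'
  have hTcard : Tset.card = e := by
    have h1 := sum_sq_charDegree_trivial_on HH
    rw [hidx] at h1
    rw [← h1, Finset.card_eq_sum_ones]
    apply Finset.sum_congr rfl
    intro ξ hξ
    have hξH := (Finset.mem_filter.1 hξ).2
    rw [zass_linear_of_trivial_on_kernel hZ hab H hHa hHcard hHfix hcomm ξ.2 hξH, one_pow]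
  have honeT : oneN ∈ Tset := by
    rw [hTset, Finset.mem_filter]
    exact ⟨Finset.mem_univ _, fun z _ => rfl⟩
  have hT'card : T'.card = e - 1 := by
    rw [hT', Finset.card_erase_of_mem honeT, hTcard]
  have hT'mem : ∀ ξ, ξ ∈ T' ↔ (∀ z ∈ HH, (ξ : NN → ℂ) z = (ξ : NN → ℂ) 1) ∧ ξ ≠ oneN := by
    intro ξ
    rw [hT', Finset.mem_erase, hTset, Finset.mem_filter]
    constructor
    · rintro ⟨h1, -, h2⟩; exact ⟨h2, h1⟩
    · rintro ⟨h1, h2⟩; exact ⟨h2, Finset.mem_univ _, h1⟩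
  -- the induction map and the conjugation
  let f : IrrCharacter NN → IrrCharacter G := fun ξ =>
    if hξ : IsIrrCharacter G (indFun NN (ξ : NN → ℂ)) then ⟨indFun NN (ξ : NN → ℂ), hξ⟩
    else ⟨fun _ => 1, isIrrCharacter_one⟩
  let σ : IrrCharacter NN → IrrCharacter NN := fun ξ =>
    ⟨fun n => conj ((ξ : NN → ℂ) n), Cfsg.Agent.Lib.Helper81.isIrrCharacter_conj ξ.2⟩
  have hσT : ∀ ξ ∈ T', σ ξ ∈ T' := by
    intro ξ hξ
    rw [hT'mem] at hξ ⊢
    refine ⟨?_, ?_⟩
    · intro z hz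
      show conj ((ξ : NN → ℂ) z) = conj ((ξ : NN → ℂ) 1)
      rw [hξ.1 z hz]
    · intro h1
      apply hξ.2
      apply Subtype.ext
      funext n
      have h2 : conj ((ξ : NN → ℂ) n) = 1 := congrFun (congrArg Subtype.val h1) n
      have h3 := congrArg conj h2
      rw [Complex.conj_conj, map_one] at h3
      exact h3
  have hσne : ∀ ξ ∈ T', σ ξ ≠ ξ := by
    intro ξ hξ h1
    rw [hT'mem] at hξ
    obtain ⟨hμ, hμH, hμne⟩ := hfacts ξ hξ.1 hξ.2
    exact zass_conj_ne hZ hab hoddE hlt' H hHa hHcard hHfix _ hμ hμH hμne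
      (congrArg Subtype.val h1)
  have hfσ : ∀ ξ ∈ T', f (σ ξ) = f ξ := by
    intro ξ hξ
    have hξ' := hσT ξ hξ
    rw [hT'mem] at hξ hξ'
    obtain ⟨hμ, hμH, hμne⟩ := hfacts ξ hξ.1 hξ.2
    have h1 := hirr ξ hξ.1 hξ.2
    have h2 := hirr (σ ξ) hξ'.1 hξ'.2
    have h3 : indFun NN ((σ ξ : IrrCharacter NN) : NN → ℂ) = indFun NN (ξ : NN → ℂ) :=
      zass_indFun_conj hZ hab hoddE hlt' H hHa hHcard hHfix _ hμ hμH hμne
    show (if hξ : IsIrrCharacter G (indFun NN ((σ ξ : IrrCharacter NN) : NN → ℂ)) then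
        (⟨indFun NN ((σ ξ : IrrCharacter NN) : NN → ℂ), hξ⟩ : IrrCharacter G)
      else ⟨fun _ => 1, isIrrCharacter_one⟩) =
      (if hξ : IsIrrCharacter G (indFun NN (ξ : NN → ℂ)) then
        (⟨indFun NN (ξ : NN → ℂ), hξ⟩ : IrrCharacter G)
      else ⟨fun _ => 1, isIrrCharacter_one⟩)
    rw [dif_pos h1, dif_pos h2]
    exact Subtype.ext h3
  have himage : 2 * (T'.image f).card ≤ e - 1 := by
    rw [← hT'card]
    exact two_mul_card_image_le T' f σ hσT hσne hfσ
  -- the permutation character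
  have h2tr : ∀ a b c d : Ω, a ≠ b → c ≠ d → ∃ g : G, g • a = c ∧ g • b = d :=
    fun a b c d hab hcd => zass_two_trans hZ a b c d hab hcd
  have htr : IsPretransitive G Ω := by
    refine ⟨fun c d => ?_⟩
    by_cases hcd : c = d
    · exact ⟨1, by rw [one_smul, hcd]⟩
    · obtain ⟨g, hg, -⟩ := h2tr c d d c hcd (Ne.symm hcd)
      exact ⟨g, hg⟩
  set π : G → ℂ := indFun NN (fun _ => 1) with hπ
  have hπeq : (fun g : G => (Nat.card (MulAction.fixedBy Ω g) : ℂ)) = π :=
    Cfsg.Agent.S0190.result Ω a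
  have hπch : IsCharacter G π := by
    rw [← hπeq]; exact Cfsg.Agent.Lib.Helper3.isCharacter_card_fixedBy
  have hπnorm : classInner π π = ((2 : ℕ) : ℂ) := by
    rw [← hπeq, Cfsg.Agent.Lib.Helper3.classInner_card_fixedBy_self]
    have hΩ2 : 2 ≤ Nat.card Ω := by
      rw [Nat.card_eq_fintype_card, hh]; omega
    rw [(Cfsg.Agent.Lib.Helper3.is_two_pretransitive_iff_card_orbits hΩ2).1 hZ.2.1]
  have hB1 := card_constituents_le hπch 2 hπnorm
  -- the bad set is covered
  have hcover : Finset.univ.filter (fun χ : IrrCharacter G =>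
      ∃ ψ : NN → ℂ, IsIrrCharacter NN ψ ∧ (∀ z ∈ HH, ψ z = ψ 1) ∧
        classInner (fun n : NN => (χ : G → ℂ) n) ψ ≠ 0) ⊆
      Finset.univ.filter (fun χ : IrrCharacter G => classInner π (χ : G → ℂ) ≠ 0) ∪
        T'.image f := by
    intro χ hχ
    obtain ⟨ψ, hψ, hψH, hne⟩ := (Finset.mem_filter.1 hχ).2
    have hcf : IsClassFunction G (χ : G → ℂ) :=
      IsCharacter.isClassFunction (IsIrrCharacter.isCharacter χ.2)
    have hrec := Cfsg.Agent.Lib.Helper25.frobenius_reciprocity NN ψ (χ : G → ℂ) hcf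
    have hne' : classInner (indFun NN ψ) (χ : G → ℂ) ≠ 0 := by
      rw [hrec, ← Cfsg.Agent.Lib.Helper26.classInner_conj_symm]
      intro h0
      apply hne
      have := congrArg conj h0
      rw [Complex.conj_conj, map_zero] at this
      exact this
    by_cases hψ1 : (⟨ψ, hψ⟩ : IrrCharacter NN) = oneN
    · apply Finset.mem_union_left
      rw [Finset.mem_filter]
      refine ⟨Finset.mem_univ _, ?_⟩
      have : ψ = fun _ => 1 := congrArg Subtype.val hψ1
      rw [hπ, ← this]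
      exact hne'
    · apply Finset.mem_union_right
      rw [Finset.mem_image]
      refine ⟨⟨ψ, hψ⟩, (hT'mem _).2 ⟨hψH, hψ1⟩, ?_⟩
      have h1 := hirr ⟨ψ, hψ⟩ hψH hψ1
      show (if hξ : IsIrrCharacter G (indFun NN ψ) then (⟨indFun NN ψ, hξ⟩ : IrrCharacter G)
        else ⟨fun _ => 1, isIrrCharacter_one⟩) = χ
      rw [dif_pos h1]
      apply Subtype.ext
      by_contra hneq
      exact hne' (classInner_irr_ne h1 χ.2 hneq)
  have hle := Finset.card_le_card hcover
  have hun := Finset.card_union_le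
    (Finset.univ.filter (fun χ : IrrCharacter G => classInner π (χ : G → ℂ) ≠ 0)) (T'.image f)
  have he1 : 1 ≤ e := by
    obtain ⟨k, hk⟩ := hodd; omega
  omega

open Classical in
/-- **The coherent case of Feit's theorem**: coherence is impossible when `2e < h - 1`. -/
theorem zass_coherent_false [Fintype ↥(stabilizer G a)]
    (hcoh : IsCoherent {χ : NN → ℂ | IsIrrCharacter NN χ ∧
        ∃ k : NN, (k : G) ∈ H ∧ χ k ≠ χ 1} {1}ᶜ (fun α : NN → ℂ => indFun NN α)) : False := by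
  have hn := zass_kernel_normal hZ hab H hHa hHcard hHfix
  obtain ⟨-, τ₁, hτ₁, hext⟩ := hcoh
  have hidx : (HH).index = e := (zass_index_kernel hZ hab H hHa hHcard hHfix).trans he
  have hHHcard : Nat.card HH = Nat.card H :=
    Nat.card_congr (Subgroup.subgroupOfEquivOfLe hHa).toEquiv
  have hHh : Nat.card H = h := by omega
  have h2tr : ∀ a b c d : Ω, a ≠ b → c ≠ d → ∃ g : G, g • a = c ∧ g • b = d :=
    fun a b c d hab hcd => zass_two_trans hZ a b c d hab hcd
  have hGcard : Nat.card G = (h + 1) * h * e := by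
    rw [Cfsg.Agent.Lib.Helper25.ZassInv.card_group_eq h2tr hab, hh, he, Nat.add_sub_cancel]
  have he1 : 1 ≤ e := by
    obtain ⟨k, hk⟩ := hodd; omega
  have he3 : 3 ≤ e := by
    obtain ⟨k, hk⟩ := hodd
    by_contra hcon
    have hk0 : e = 1 := by omega
    obtain ⟨x, hx1, hxa, hxb⟩ := zass_stab2_ne_bot hZ hab
    have hsub : Subsingleton ↥(stabilizer G a ⊓ stabilizer G b : Subgroup G) := by
      rw [← Finite.card_le_one_iff_subsingleton, he, hk0]
    have := Subsingleton.elim (⟨x, mem_stab2.2 ⟨hxa, hxb⟩⟩ :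
      ↥(stabilizer G a ⊓ stabilizer G b : Subgroup G)) 1
    exact hx1 (congrArg Subtype.val this)
  -- the class count
  have hTI := (Cfsg.Agent.S0878.result hZ a H hHa hHcard hHfix).1
  have hconj : ∀ x ∈ stabilizer G a, x ∉ H →
      ∃ n ∈ stabilizer G a, n * x * n⁻¹ ∈ stabilizer G a ⊓ stabilizer G b := by
    intro x hx hxH
    obtain ⟨n, hna, hnE⟩ := zass_conj_into_stab2 hZ H hHa hHcard hHfix hab
      (mem_stabilizer_iff.1 hx) hxH
    exact ⟨n, mem_stabilizer_iff.2 hna, hnE⟩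
  have hcls := card_conjClasses_ge (stabilizer G a) H (stabilizer G a ⊓ stabilizer G b)
    inf_le_left hTI hconj
  have h884 := Cfsg.Agent.S0884.result hZ hab h e hh he hodd hlt H hHa hHcard hHfix
  rw [he] at hcls
  -- irreducible characters of the point stabiliser
  set Tset := Finset.univ.filter
    (fun ξ : IrrCharacter NN => ∀ z ∈ HH, (ξ : NN → ℂ) z = (ξ : NN → ℂ) 1) with hTset
  set Sset := Finset.univ.filter
    (fun ξ : IrrCharacter NN => ¬ ∀ z ∈ HH, (ξ : NN → ℂ) z = (ξ : NN → ℂ) 1) with hSset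
  have hoddE : Odd (Nat.card ↥(stabilizer G a ⊓ stabilizer G b : Subgroup G)) := by
    rw [he]; exact hodd
  obtain ⟨hcomm, -⟩ := zass_simple_stab2 hZ hab hoddE
  have hTcard : Tset.card = e := by
    have h1 := sum_sq_charDegree_trivial_on HH
    rw [hidx] at h1
    rw [← h1, Finset.card_eq_sum_ones]
    apply Finset.sum_congr rfl
    intro ξ hξ
    have hξH := (Finset.mem_filter.1 hξ).2
    rw [zass_linear_of_trivial_on_kernel hZ hab H hHa hHcard hHfix hcomm ξ.2 hξH, one_pow]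
  have hkN : Nat.card (ConjClasses NN) = Tset.card + Sset.card := by
    rw [← card_irrCharacter, Nat.card_eq_fintype_card, ← Finset.card_univ, hTset, hSset,
      Finset.card_filter_add_card_filter_not]
  have hkG : Nat.card (ConjClasses G) = (Finset.univ : Finset (IrrCharacter G)).card := by
    rw [← card_irrCharacter, Nat.card_eq_fintype_card, Finset.card_univ]
  -- the exceptional characters
  set S : Set (NN → ℂ) := {χ : NN → ℂ | IsIrrCharacter NN χ ∧
        ∃ k : NN, (k : G) ∈ H ∧ χ k ≠ χ 1} with hS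
  have hExc := card_exceptional_le S τ₁ hτ₁ (fun ζ hζ => hζ.1)
    (Sset.image (fun ξ : IrrCharacter NN => (ξ : NN → ℂ))) (by
      intro ζ hζ
      rw [Finset.mem_image]
      refine ⟨⟨ζ, hζ.1⟩, ?_, rfl⟩
      rw [hSset, Finset.mem_filter]
      refine ⟨Finset.mem_univ _, ?_⟩
      obtain ⟨k, hk, hne⟩ := hζ.2
      intro hall
      exact hne (hall k (Subgroup.mem_subgroupOf.2 hk)))
  have hSf : (Sset.image (fun ξ : IrrCharacter NN => (ξ : NN → ℂ))).card ≤ Sset.card :=
    Finset.card_image_le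
  have hbad := zass_card_bad_le hZ hab h e hh he hodd hlt H hHa hHcard hHfix
  -- a good character
  obtain ⟨χ, hχExc, hχB⟩ : ∃ χ : IrrCharacter G,
      χ ∉ Finset.univ.filter (fun χ : IrrCharacter G =>
        ∃ ζ ∈ S, classInner (τ₁ ζ) (χ : G → ℂ) ≠ 0) ∧
      χ ∉ Finset.univ.filter (fun χ : IrrCharacter G =>
        ∃ ψ : NN → ℂ, IsIrrCharacter NN ψ ∧ (∀ z ∈ HH, ψ z = ψ 1) ∧
          classInner (fun n : NN => (χ : G → ℂ) n) ψ ≠ 0) := by
    by_contra hcon
    push Not at hcon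
    have hsub : (Finset.univ : Finset (IrrCharacter G)) ⊆
        Finset.univ.filter (fun χ : IrrCharacter G =>
          ∃ ζ ∈ S, classInner (τ₁ ζ) (χ : G → ℂ) ≠ 0) ∪
        Finset.univ.filter (fun χ : IrrCharacter G =>
          ∃ ψ : NN → ℂ, IsIrrCharacter NN ψ ∧ (∀ z ∈ HH, ψ z = ψ 1) ∧
            classInner (fun n : NN => (χ : G → ℂ) n) ψ ≠ 0) := by
      intro χ _
      by_cases h1 : χ ∈ Finset.univ.filter (fun χ : IrrCharacter G =>
          ∃ ζ ∈ S, classInner (τ₁ ζ) (χ : G → ℂ) ≠ 0)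
      · exact Finset.mem_union_left _ h1
      · exact Finset.mem_union_right _ (hcon χ h1)
    have h1 := Finset.card_le_card hsub
    have h2 := Finset.card_union_le
      (Finset.univ.filter (fun χ : IrrCharacter G =>
          ∃ ζ ∈ S, classInner (τ₁ ζ) (χ : G → ℂ) ≠ 0))
      (Finset.univ.filter (fun χ : IrrCharacter G =>
          ∃ ψ : NN → ℂ, IsIrrCharacter NN ψ ∧ (∀ z ∈ HH, ψ z = ψ 1) ∧
            classInner (fun n : NN => (χ : G → ℂ) n) ψ ≠ 0))
    omega
  have hχS : ∀ ζ : NN → ℂ, IsIrrCharacter NN ζ → (∃ k ∈ HH, ζ k ≠ ζ 1) →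
      classInner (τ₁ ζ) (χ : G → ℂ) = 0 := by
    intro ζ hζ hζH
    by_contra hne
    apply hχExc
    rw [Finset.mem_filter]
    obtain ⟨k, hk, hkne⟩ := hζH
    exact ⟨Finset.mem_univ _, ζ, ⟨hζ, k, Subgroup.mem_subgroupOf.1 hk, hkne⟩, hne⟩
  have hχ0 : ∀ ψ : NN → ℂ, IsIrrCharacter NN ψ → (∀ k ∈ HH, ψ k = ψ 1) →
      classInner (fun n : NN => (χ : G → ℂ) n) ψ = 0 := by
    intro ψ hψ hψH
    by_contra hne
    apply hχB
    rw [Finset.mem_filter]
    exact ⟨Finset.mem_univ _, ψ, hψ, hψH, hne⟩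
  -- an induced character of degree `e d₀`
  have hC := zass_centralizer_le hZ H hHa hHcard hHfix
  have hC' : ∀ n ∈ HH, n ≠ 1 → Subgroup.centralizer ({n} : Set NN) ≤ HH := by
    intro n hn' hn1 x hx
    rw [Subgroup.mem_subgroupOf] at hn' ⊢
    have hn1' : (n : G) ≠ 1 := fun h => hn1 (Subtype.ext h)
    apply hC (n : G) hn' hn1'
    rw [Subgroup.mem_centralizer_singleton_iff] at hx ⊢
    have := congrArg Subtype.val hx
    simpa using this
  have hh2 : 2 ≤ h := by omega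
  obtain ⟨ζ₀, d₀, hζ₀, hζ₀H, hd₀, hdeg⟩ := exists_induced_irr HH (by rw [hHHcard, hHh]; omega) hC'
  rw [hidx] at hdeg
  have hcore := coherent_degree_core NN HH τ₁ hτ₁ hext (χ : G → ℂ) χ.2 hχS hχ0 ζ₀ hζ₀ hζ₀H d₀ hd₀
    (by rw [hidx]; exact hdeg)
  rw [hHHcard, hHh] at hcore
  have hdvd := Cfsg.Agent.Lib.Helper79.irr_charDegree_dvd_card χ
  rw [hGcard] at hdvd
  have := feit_arith h e (by omega) hh2 (hcore.trans hdvd)
  omega

end

end Cfsg.Agent.Lib.Helper64
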