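import Mathlib
import Cfsg.Agent.Lib.Helper64.ZassCoherent
import Cfsg.Agent.Lib.Helper74.TIFNCoh
import Cfsg.Agent.S1534
import Cfsg.Agent.S1535

/-!
# Feit's theorem on Zassenhaus groups with odd two-point stabiliser: the simple case (helper64)
-/

set_option autoImplicit false
set_option linter.unusedSectionVars false
set_option maxHeartbeats 1000000

namespace Cfsg.Agent.Lib.Helper64

open MulAction Cfsg Cfsg.Agent.Lib.Helper59 Cfsg.Agent.Lib.Helper78 Cfsg.Agent.Lib.Helper74

section

variable {G Ω : Type*} [Group G] [Fintype G] [MulAction G Ω] [Fintype Ω]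
  (hZ : Cfsg.IsZassenhausGroup G Ω) {a b : Ω} (hab : a ≠ b) [IsSimpleGroup G]
  (h e : ℕ) (hh : Fintype.card Ω = h + 1)
  (he : Nat.card ↥(stabilizer G a ⊓ stabilizer G b : Subgroup G) = e) (hodd : Odd e)
  (hlt : 2 * e < h - 1)
  (H : Subgroup G) (hHa : H ≤ stabilizer G a) (hHcard : Nat.card H + 1 = Fintype.card Ω)
  (hHfix : ∀ u ∈ H, u ≠ 1 → ∀ c : Ω, u • c = c → c = a)

include hZ hab hh he hodd hlt hHa hHcard hHfix

/-- the coherent case, for any subgroup equal to the point stabiliser -/
theorem zass_coherent_false' (N : Subgroup G) [Fintype N] (hNa : N = stabilizer G a)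
    (hcoh : IsCoherent {χ : N → ℂ | IsIrrCharacter N χ ∧
        ∃ k : N, (k : G) ∈ H ∧ χ k ≠ χ 1} {1}ᶜ (fun α : N → ℂ => indFun N α)) : False := by
  subst hNa
  exact zass_coherent_false hZ hab h e hh he hodd hlt H hHa hHcard hHfix hcoh

end

section

/-- **Feit's theorem for simple Zassenhaus groups with odd two-point stabiliser.** -/
theorem zass_simple_case {G Ω : Type*} [Group G] [Finite G] [MulAction G Ω] [Fintype Ω]
    [IsSimpleGroup G] (hZ : Cfsg.IsZassenhausGroup G Ω) {a b : Ω} (hab : a ≠ b)
    (h e : ℕ) (hh : Fintype.card Ω = h + 1)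
    (he : Nat.card ↥(stabilizer G a ⊓ stabilizer G b : Subgroup G) = e) (hodd : Odd e)
    (H : Subgroup G) (hHa : H ≤ stabilizer G a) (hHcard : Nat.card H + 1 = Fintype.card Ω)
    (hHfix : ∀ u ∈ H, u ≠ 1 → ∀ c : Ω, u • c = c → c = a) :
    h - 1 ≤ 2 * e ∨ (IsPGroup 2 H ∧ (∃ u v : H, u * v ≠ v * u) ∧
      (commutator H).index ≤ 4 * e ^ 2 + 1) := by
  classical
  have := Fintype.ofFinite G
  by_cases hle : h - 1 ≤ 2 * e
  · exact Or.inl hle
  right
  have hlt : 2 * e < h - 1 := by omega
  have he1 : 1 ≤ e := by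
    obtain ⟨k, hk⟩ := hodd; omega
  obtain ⟨hTI', hN⟩ := Cfsg.Agent.S0878.result hZ a H hHa hHcard hHfix
  have : Fintype ↥(Subgroup.normalizer (H : Set G)) := Fintype.ofFinite _
  have hHh : Nat.card H = h := by omega
  have hK1 : H ≠ ⊥ := by
    intro hbot
    rw [hbot, Subgroup.card_bot] at hHh
    omega
  have hTI : IsTISubset (H : Set G) := by
    intro g hg x hx hgx
    exact hTI' g (by rw [← hN]; exact hg) x hx hgx
  have hleN : H ≤ Subgroup.normalizer (H : Set G) := Subgroup.le_normalizer
  have hltN : H < Subgroup.normalizer (H : Set G) := by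
    refine lt_of_le_of_ne hleN ?_
    intro heq
    obtain ⟨x, hx1, hxa, hxb⟩ := zass_stab2_ne_bot hZ hab
    have hxN : x ∈ Subgroup.normalizer (H : Set G) := by
      rw [hN]; exact mem_stabilizer_iff.2 hxa
    rw [← heq] at hxN
    exact hab (hHfix x hxN hx1 b hxb).symm
  have hC := zass_centralizer_le hZ H hHa hHcard hHfix
  have hidx : (H.subgroupOf (Subgroup.normalizer (H : Set G))).index = e := by
    rw [hN]
    exact (zass_index_kernel hZ hab H hHa hHcard hHfix).trans he
  have hcardH : Nat.card (H.subgroupOf (Subgroup.normalizer (H : Set G))) = Nat.card H :=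
    Nat.card_congr (Subgroup.subgroupOfEquivOfLe hleN).toEquiv
  have hsmall : Nat.card H ≠ (H.subgroupOf (Subgroup.normalizer (H : Set G))).index + 1 := by
    rw [hidx, hHh]; omega
  have hiso := indFun_isometry_of_TI H (Subgroup.normalizer (H : Set G)) hleN hTI rfl (tifnS H)
    (fun χ hχ => IsIrrCharacter.isCharacter hχ.1) (fun χ hχ x hx => tifnS_vanish hC hχ x hx)
  have hres := Cfsg.Agent.S1535.result (H.subgroupOf (Subgroup.normalizer (H : Set G)))
    (subgroupOf_ne_bot H (Subgroup.normalizer (H : Set G)) hleN hK1)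
    (tifn_subgroupOf_ne_top H hltN) (tifn_centralizer_le hC) (by rw [hcardH]; exact hsmall)
    (fun α : ↥(Subgroup.normalizer (H : Set G)) → ℂ => indFun (Subgroup.normalizer (H : Set G)) α)
    hiso.1 hiso.2
  rcases hres with hcoh | ⟨p, hp, ⟨m, hm⟩, hna, hbound⟩
  · exfalso
    exact zass_coherent_false' hZ hab h e hh he hodd hlt H hHa hHcard hHfix
      (Subgroup.normalizer (H : Set G)) hN hcoh
  · rw [hcardH] at hm
    have hpH : IsPGroup p H := IsPGroup.of_card hm
    have hnil : Group.IsNilpotent H := by
      have : Fact p.Prime := ⟨hp⟩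
      exact hpH.isNilpotent
    have h1534 := Cfsg.Agent.S1534.result H hK1 hnil hTI hltN hC
    rcases h1534 with ⟨-, hcard, -⟩ | ⟨hsyl, -⟩ | hcoh
    · exact absurd hcard hsmall
    · -- `p = 2`
      have hm1 : m ≠ 0 := by
        intro h0
        rw [h0, pow_zero] at hm
        omega
      have hp2 : p = 2 := by
        have h1 : p ∣ 2 ^ (Nat.card G).factorization 2 := by
          rw [← hsyl, hm]
          exact dvd_pow_self p hm1
        exact (Nat.prime_dvd_prime_iff_eq hp Nat.prime_two).1 (hp.dvd_of_dvd_pow h1)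
      subst hp2
      refine ⟨hpH, ?_, ?_⟩
      · by_contra hcon
        push Not at hcon
        apply hna
        refine ⟨⟨fun x y => ?_⟩⟩
        apply Subtype.ext
        apply Subtype.ext
        have h3 := hcon ⟨(x : G), x.2⟩ ⟨(y : G), y.2⟩
        have h4 := congrArg Subtype.val h3
        exact h4
      · have hrel : (⁅H.subgroupOf (Subgroup.normalizer (H : Set G)),
            H.subgroupOf (Subgroup.normalizer (H : Set G))⁆.subgroupOf
            (H.subgroupOf (Subgroup.normalizer (H : Set G)))).index =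
            (⁅H, H⁆.subgroupOf H).index := by
          show ⁅H.subgroupOf (Subgroup.normalizer (H : Set G)),
            H.subgroupOf (Subgroup.normalizer (H : Set G))⁆.relIndex
              (H.subgroupOf (Subgroup.normalizer (H : Set G))) = ⁅H, H⁆.relIndex H
          rw [← Subgroup.relIndex_map_map_of_injective _ _
            (Subgroup.subtype_injective (Subgroup.normalizer (H : Set G))),
            Subgroup.map_commutator, Subgroup.map_subgroupOf_eq_of_le hleN]
        rw [hrel, hidx] at hbound
        have hcomm : (commutator H).index = (⁅H, H⁆.subgroupOf H).index := by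
          rw [← Subgroup.map_subtype_commutator, Subgroup.subgroupOf,
            Subgroup.comap_map_eq_self_of_injective (Subgroup.subtype_injective H)]
        rw [hcomm]
        exact hbound
    · exfalso
      exact zass_coherent_false' hZ hab h e hh he hodd hlt H hHa hHcard hHfix
        (Subgroup.normalizer (H : Set G)) hN hcoh

end

end Cfsg.Agent.Lib.Helper64
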