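import Mathlib
import Cfsg.Agent.Lib.Helper64.BrauerNNV
import Cfsg.Agent.Lib.Helper79.BrauerN.Partition
import Cfsg.Agent.Lib.Helper79.ClassCount

/-!
# S0999 / S4701 (Brauer-Reynolds, `|G| < p³`): module [E3] of helper79's SPINE.md (helper64)

`rigid_involution_count`: in the rigid configuration with `ε = -1`, the values of the principal
block at an involution `s` force `|C_G(s)| = p - 1` and
`#{(a,b) | s^a s^b = s} = (p-1)² (p-1-q)` (steps (0)-(6) of SPINE.md).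
-/

set_option autoImplicit false
set_option linter.unusedSectionVars false
open Cfsg
open scoped ComplexConjugate

namespace Cfsg.Agent.Lib.Helper64.BrauerN

open Cfsg.Agent.Lib.Helper79.BrauerN
open Cfsg.Agent.Lib

section Rigid

variable {G : Type*} [Group G] [Finite G] {p : ℕ} [Fact p.Prime] {P : Sylow p G}
  {q t : ℕ} {ε : ℤ} {a : IrrCharacter G → ℤ} {X Y : Finset (IrrCharacter G)}

/-- `Nat.card` of a subtype of pairs as the cardinality of a filter. -/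
theorem natCard_pairs [Fintype G] [DecidableEq G] (x y u : G) :
    Nat.card {ab : G × G // ab.1 * x * ab.1⁻¹ * (ab.2 * y * ab.2⁻¹) = u} =
      (Finset.univ.filter
        (fun ab : G × G => ab.1 * x * ab.1⁻¹ * (ab.2 * y * ab.2⁻¹) = u)).card := by
  rw [Nat.card_eq_fintype_card, Fintype.card_subtype]

/-- the class-count formula in `Nat.card` form. -/
theorem natCard_pairs_eq [Fintype G] (x y u : G) :
    (Nat.card {ab : G × G // ab.1 * x * ab.1⁻¹ * (ab.2 * y * ab.2⁻¹) = u} : ℂ) =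
      (Nat.card G : ℂ) * ∑ χ : IrrCharacter G,
        (χ : G → ℂ) x * (χ : G → ℂ) y * (χ : G → ℂ) u⁻¹ / (χ : G → ℂ) 1 := by
  classical
  rw [natCard_pairs]
  convert Helper79.card_conj_pairs x y u
/-- step (1): `πs² = t²`. -/
theorem e3_alg1 (K T p q m c πs vY : ℂ) (hq : q = K * T + 2) (hp : p = q * T + 1)
    (hm : m = p - q) (hm0 : m ≠ 0) (hT0 : T ≠ 0) (hp0 : p ≠ 0) (hq0 : q ≠ 0)
    (hc : πs * q = c) (hv : T * vY = πs ∨ T * vY = -πs)
    (hE : c ^ 2 * p = (p * q * (T * m)) * (1 + K * (πs ^ 2 / (T * m)) + vY ^ 2 / m)) :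
    πs ^ 2 = T ^ 2 := by
  have hE' : c ^ 2 * p = p * q * T * m + p * q * K * πs ^ 2 + p * q * T * vY ^ 2 := by
    rw [hE]
    field_simp
  have hv2 : T ^ 2 * vY ^ 2 = πs ^ 2 := by
    rcases hv with h | h
    · rw [← h]; ring
    · have : πs = -(T * vY) := by rw [h]; ring
      rw [this]; ring
  have key : p * q * m * (πs ^ 2 - T ^ 2) = 0 := by
    subst hc hm hp hq
    linear_combination T * hE' + ((K * T + 2) * T + 1) * (K * T + 2) * hv2
  have h2 : πs ^ 2 - T ^ 2 = 0 := by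
    rcases mul_eq_zero.1 key with h | h
    · exfalso
      rcases mul_eq_zero.1 h with h | h
      · rcases mul_eq_zero.1 h with h | h
        · exact hp0 h
        · exact hq0 h
      · exact hm0 h
    · exact h
  linear_combination h2

/-- step (3). -/
theorem e3_alg3 (K T p q m Dc S1 : ℂ) (hq : q = K * T + 2) (hp : p = q * T + 1)
    (hm : m = p - q) (hD : Dc = T * m)
    (h : 1 + 0 * T * Dc + T * (-1) * m + S1 = 0) : S1 = (T - 1) * p := by
  subst hD hm hp hq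
  linear_combination h

/-- step (4). -/
theorem e3_alg4 (K T p q S2 : ℂ) (hq : q = K * T + 2) (hp : p = q * T + 1)
    (h : 1 + K * T ^ 2 + T * (-1) ^ 2 + S2 = p - 1) : S2 = T - 1 := by
  subst hp hq
  linear_combination h

/-- step (5). -/
theorem e3_alg5 (K T p q m Bc S0 : ℂ) (hq : q = K * T + 2) (hp : p = q * T + 1)
    (hm : m = p - q) (hB : 1 + (K + Bc) = q)
    (h : 1 + K * (T * m) ^ 2 + Bc * (p - 1) ^ 2 + T * m ^ 2 + S0 = p * q * (T * m)) :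
    S0 = p ^ 2 * (T - 1) := by
  have hB' : Bc = q - 1 - K := by linear_combination hB
  subst hB' hm hp hq
  linear_combination h

/-- step (6). -/
theorem e3_alg6 (K T p q m : ℂ) (hq : q = K * T + 2) (hp : p = q * T + 1)
    (hm : m = p - q) (hm0 : m ≠ 0) (hp0 : p ≠ 0) :
    (p * q * (T * m)) * (1 + 0 + (-(T / m)) + (T - 1) / p) = (p - 1) ^ 2 * (p - 1 - q) := by
  have : (p * q * (T * m)) * (1 + 0 + (-(T / m)) + (T - 1) / p) =
      p * q * T * m - p * q * T ^ 2 + q * T * m * (T - 1) := by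
    field_simp
    ring
  rw [this]
  subst hm hp hq
  ring


/-- **[E3]**. -/
theorem rigid_involution_count (D : RigidData p P q t ε a X Y) (hε : ε = -1)
    (hvan : ∀ ζ : IrrCharacter G, ζ ∉ X → ζ ∉ Y → ∀ x : G, x ∈ (P : Subgroup G) → x ≠ 1 →
      (ζ : G → ℂ) x = 0)
    (s : G) (hs : orderOf s = 2) (πs : ℂ)
    (hπ : πs * (q : ℂ) = (Nat.card (Subgroup.centralizer ({s} : Set G)) : ℂ))
    (hXp : ∀ χ ∈ X, a χ = 1 → (χ : G → ℂ) ≠ (fun _ => 1) →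
      (χ : G → ℂ) s = πs ∨ (χ : G → ℂ) s = -πs)
    (hYs : ∀ θ ∈ Y, (t : ℂ) * (θ : G → ℂ) s = πs ∨ (t : ℂ) * (θ : G → ℂ) s = -πs)
    (hXm : ∀ χ ∈ X, a χ = -1 → (χ : G → ℂ) s = 0)
    (hssx : ∀ x : G, x ∈ (P : Subgroup G) → x ≠ 1 →
      Nat.card {ab : G × G // ab.1 * s * ab.1⁻¹ * (ab.2 * s * ab.2⁻¹) = x} =
        Nat.card (Subgroup.centralizer ({s} : Set G)) ^ 2 * p) :
    Nat.card (Subgroup.centralizer ({s} : Set G)) = p - 1 ∧
    Nat.card {ab : G × G // ab.1 * s * ab.1⁻¹ * (ab.2 * s * ab.2⁻¹) = s} =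
      (p - 1) ^ 2 * (p - 1 - q) := by
  classical
  have : Fintype G := Fintype.ofFinite G
  obtain ⟨triv, htriv, htX, hta, htY⟩ := D.exists_triv
  have hkt := D.card_A_mul hε htriv htX hta
  have hcard := D.card_split htX hta
  have hp7 := D.p_ge_seven
  have hpqt := D.hpqt
  have hq2 := D.hq
  have ht3 := D.ht
  have hqp : q ≤ p := q_le_p D
  -- abbreviations
  set A := setA a X triv with hA
  set B := setB a X with hB
  set R := setR X Y with hR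
  set c := Nat.card (Subgroup.centralizer ({s} : Set G)) with hc
  have hc0 : 0 < c := Nat.card_pos
  -- complex numbers
  have hqC : (q : ℂ) = (A.card : ℂ) * (t : ℂ) + 2 := by exact_mod_cast hkt.symm
  have hpC : (p : ℂ) = (q : ℂ) * (t : ℂ) + 1 := by exact_mod_cast hpqt
  have hBC : 1 + ((A.card : ℂ) + (B.card : ℂ)) = (q : ℂ) := by exact_mod_cast hcard
  have hT0 : (t : ℂ) ≠ 0 := by
    have : t ≠ 0 := by omega
    exact_mod_cast this
  have hp0 : (p : ℂ) ≠ 0 := by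
    have : p ≠ 0 := by omega
    exact_mod_cast this
  have hq0 : (q : ℂ) ≠ 0 := by
    have : q ≠ 0 := by omega
    exact_mod_cast this
  have hm0 : (p : ℂ) - (q : ℂ) ≠ 0 := by
    have h1 : q < p := by nlinarith
    have h2 : ((p - q : ℕ) : ℂ) ≠ 0 := by
      have : p - q ≠ 0 := by omega
      exact_mod_cast this
    rwa [Nat.cast_sub hqp] at h2
  -- degrees
  have hdA : ∀ χ ∈ A, (χ : G → ℂ) 1 = (t : ℂ) * ((p : ℂ) - (q : ℂ)) := by
    intro χ hχ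
    obtain ⟨h1, h2, h3⟩ := mem_setA.mp hχ
    rw [D.hdegXp χ h1 h2 (fun h => h3 (Subtype.ext (by rw [h, htriv])))]
    push_cast [Nat.cast_sub (by omega : 1 ≤ t)]
    rw [hpC]
    ring
  have hdB : ∀ χ ∈ B, (χ : G → ℂ) 1 = (p : ℂ) - 1 := by
    intro χ hχ
    obtain ⟨h1, h2⟩ := mem_setB.mp hχ
    rw [D.hdegXm χ h1 h2, Nat.cast_sub (by omega : 1 ≤ p)]
    simp
  have hdY : ∀ θ ∈ Y, (θ : G → ℂ) 1 = (p : ℂ) - (q : ℂ) := by
    intro θ hθ
    rw [D.hdegY θ hθ, if_neg (by rw [hε]; norm_num), Nat.cast_sub hqp]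
  -- the involution
  have hs2 : s * s = 1 := by
    have := pow_orderOf_eq_one s
    rwa [hs, pow_two] at this
  have hsinv : s⁻¹ = s := inv_eq_of_mul_eq_one_right hs2
  have hs1 : s ≠ 1 := by
    intro h
    rw [h, orderOf_one] at hs
    omega
  have hsreg : ¬ p ∣ orderOf s := by
    rw [hs]
    intro h
    have := Nat.le_of_dvd (by norm_num) h
    omega
  have hreal : ∀ ζ : IrrCharacter G, conj ((ζ : G → ℂ) s) = (ζ : G → ℂ) s := by
    intro ζ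
    rw [← Helper78.IsCharacter.inv (Helper78.IsIrrCharacter.isCharacter ζ.2), hsinv]
  -- values at s
  have hvB : ∀ χ ∈ B, (χ : G → ℂ) s = 0 := by
    intro χ hχ
    obtain ⟨h1, h2⟩ := mem_setB.mp hχ
    exact hXm χ h1 h2
  have hvA : ∀ χ ∈ A, (χ : G → ℂ) s = πs ∨ (χ : G → ℂ) s = -πs := by
    intro χ hχ
    obtain ⟨h1, h2, h3⟩ := mem_setA.mp hχ
    exact hXp χ h1 h2 (fun h => h3 (Subtype.ext (by rw [h, htriv])))
  have hYne : Y.Nonempty := by
    rw [← Finset.card_pos, D.hYcard]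
    omega
  obtain ⟨θ₀, hθ₀⟩ := hYne
  set vY := (θ₀ : G → ℂ) s with hvYdef
  have hvY : ∀ θ ∈ Y, (θ : G → ℂ) s = vY := fun θ hθ => D.hYreg s hsreg θ hθ θ₀ hθ₀
  have hvY' : (t : ℂ) * vY = πs ∨ (t : ℂ) * vY = -πs := hYs θ₀ hθ₀
  -- |G|
  have hGC : (Nat.card G : ℂ) = (p : ℂ) * (q : ℂ) * ((t : ℂ) * ((p : ℂ) - (q : ℂ))) := by
    rw [D.hGcard]
    push_cast [Nat.cast_sub (by omega : 1 ≤ t)]
    rw [hpC]
    ring
  -- step (1)
  obtain ⟨x, hxP, hx1⟩ := D.exists_elt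
  have hxP' : x⁻¹ ∈ (P : Subgroup G) := inv_mem hxP
  have hx1' : x⁻¹ ≠ 1 := fun h => hx1 (inv_eq_one.1 h)
  have hπ2 : πs ^ 2 = (t : ℂ) ^ 2 := by
    have h1 := natCard_pairs_eq s s x
    rw [hssx x hxP hx1, D.sum_split htX hta] at h1
    have e1 : (triv : G → ℂ) s * (triv : G → ℂ) s * (triv : G → ℂ) x⁻¹ / (triv : G → ℂ) 1 = 1 := by
      rw [htriv]; simp
    have e2 : ∑ χ ∈ A, (χ : G → ℂ) s * (χ : G → ℂ) s * (χ : G → ℂ) x⁻¹ / (χ : G → ℂ) 1 =
        (A.card : ℂ) * (πs ^ 2 / ((t : ℂ) * ((p : ℂ) - (q : ℂ)))) := by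
      rw [Finset.sum_congr rfl (g := fun _ => πs ^ 2 / ((t : ℂ) * ((p : ℂ) - (q : ℂ))))]
      · rw [Finset.sum_const, nsmul_eq_mul]
      · intro χ hχ
        obtain ⟨h1, h2, h3⟩ := mem_setA.mp hχ
        rw [hdA χ hχ, D.hXval χ h1 x⁻¹ hxP' hx1', h2]
        rcases hvA χ hχ with h | h <;> rw [h] <;> push_cast <;> ring
    have e3 : ∑ χ ∈ B, (χ : G → ℂ) s * (χ : G → ℂ) s * (χ : G → ℂ) x⁻¹ / (χ : G → ℂ) 1 = 0 := by
      apply Finset.sum_eq_zero
      intro χ hχ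
      rw [hvB χ hχ]
      simp
    have e4 : ∑ θ ∈ Y, (θ : G → ℂ) s * (θ : G → ℂ) s * (θ : G → ℂ) x⁻¹ / (θ : G → ℂ) 1 =
        vY ^ 2 / ((p : ℂ) - (q : ℂ)) := by
      have h5 : ∀ θ ∈ Y, (θ : G → ℂ) s * (θ : G → ℂ) s * (θ : G → ℂ) x⁻¹ / (θ : G → ℂ) 1 =
          vY ^ 2 / ((p : ℂ) - (q : ℂ)) * (θ : G → ℂ) x⁻¹ := by
        intro θ hθ
        rw [hvY θ hθ, hdY θ hθ]
        ring
      rw [Finset.sum_congr rfl h5, ← Finset.mul_sum, D.hYsum x⁻¹ hxP' hx1', hε]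
      push_cast
      ring
    have e5 : ∑ ζ ∈ R, (ζ : G → ℂ) s * (ζ : G → ℂ) s * (ζ : G → ℂ) x⁻¹ / (ζ : G → ℂ) 1 = 0 := by
      apply Finset.sum_eq_zero
      intro ζ hζ
      obtain ⟨h1, h2⟩ := mem_setR.mp hζ
      rw [hvan ζ h1 h2 x⁻¹ hxP' hx1']
      simp
    rw [e1, e2, e3, e4, e5, hGC] at h1
    refine e3_alg1 (A.card : ℂ) (t : ℂ) (p : ℂ) (q : ℂ) ((p : ℂ) - (q : ℂ)) (c : ℂ) πs vY hqC hpC rfl
      hm0 hT0 hp0 hq0 hπ hvY' ?_
    push_cast at h1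
    rw [h1]
    ring
  have hπt : πs = (t : ℂ) := by
    have h1 : (πs - t) * (πs + t) = 0 := by linear_combination hπ2
    rcases mul_eq_zero.1 h1 with h | h
    · linear_combination h
    · exfalso
      have h2 : πs = -(t : ℂ) := by linear_combination h
      rw [h2] at hπ
      have h3 : ((c + t * q : ℕ) : ℂ) = 0 := by
        push_cast
        rw [← hπ]
        ring
      have h4 : c + t * q = 0 := by exact_mod_cast h3
      omega
  have hcp : c = p - 1 := by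
    rw [hπt] at hπ
    have h1 : ((t * q : ℕ) : ℂ) = (c : ℂ) := by
      push_cast
      exact hπ
    have h2 : t * q = c := by exact_mod_cast h1
    rw [← h2, hpqt, mul_comm]
    simp
  -- signs on A
  set sg : IrrCharacter G → ℤ := fun χ => if (χ : G → ℂ) s = πs then 1 else -1 with hsg
  have hsgA : ∀ χ ∈ A, (χ : G → ℂ) s = (sg χ : ℂ) * πs := by
    intro χ hχ
    by_cases h : (χ : G → ℂ) s = πs
    · simp only [hsg, if_pos h]
      rw [h]
      push_cast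
      ring
    · rcases hvA χ hχ with h' | h'
      · exact absurd h' h
      · simp only [hsg, if_neg h]
        rw [h']
        push_cast
        ring
  have hsg2 : ∀ χ : IrrCharacter G, (sg χ : ℂ) ^ 2 = 1 := by
    intro χ
    simp only [hsg]
    split_ifs <;> push_cast <;> ring
  set σ : ℤ := ∑ χ ∈ A, sg χ with hσ
  have hsumA : ∑ χ ∈ A, (χ : G → ℂ) s = (σ : ℂ) * πs := by
    rw [Finset.sum_congr rfl hsgA, ← Finset.sum_mul, hσ]
    push_cast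
    rfl
  -- step (2)
  have hstep2 : vY = -1 ∧ σ = 0 := by
    have h1 := D.hrel s hsreg θ₀ hθ₀
    rw [D.sum_X_split htX hta, hta, htriv, hε] at h1
    have e1 : ∑ χ ∈ A, (a χ : ℂ) * (χ : G → ℂ) s = (σ : ℂ) * πs := by
      rw [← hsumA]
      apply Finset.sum_congr rfl
      intro χ hχ
      obtain ⟨_, h2, _⟩ := mem_setA.mp hχ
      rw [h2]
      push_cast
      ring
    have e2 : ∑ χ ∈ B, (a χ : ℂ) * (χ : G → ℂ) s = 0 := by
      apply Finset.sum_eq_zero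
      intro χ hχ
      rw [hvB χ hχ, mul_zero]
    rw [e1, e2, hπt] at h1
    have h2 : -vY = 1 + (σ : ℂ) * (t : ℂ) := by
      rw [← hvYdef] at h1
      push_cast at h1
      linear_combination h1
    have h3 : vY = 1 ∨ vY = -1 := by
      rw [hπt] at hvY'
      rcases hvY' with h | h
      · left
        have : (t : ℂ) * (vY - 1) = 0 := by linear_combination h
        rcases mul_eq_zero.1 this with h' | h'
        · exact absurd h' hT0
        · linear_combination h'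
      · right
        have : (t : ℂ) * (vY + 1) = 0 := by linear_combination h
        rcases mul_eq_zero.1 this with h' | h'
        · exact absurd h' hT0
        · linear_combination h'
    rcases h3 with h | h
    · exfalso
      rw [h] at h2
      have h4 : ((σ * (t : ℤ) : ℤ) : ℂ) = ((-2 : ℤ) : ℂ) := by
        push_cast
        linear_combination -h2
      have h5 : σ * (t : ℤ) = -2 := by exact_mod_cast h4
      have h6 : (t : ℤ) ∣ 2 := by
        have : (t : ℤ) ∣ -2 := ⟨σ, by rw [← h5]; ring⟩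
        exact (dvd_neg).1 this
      have h7 : (t : ℤ) ≤ 2 := Int.le_of_dvd (by norm_num) h6
      have h8 : (3 : ℤ) ≤ t := by exact_mod_cast ht3
      omega
    · refine ⟨h, ?_⟩
      rw [h] at h2
      have h4 : ((σ * (t : ℤ) : ℤ) : ℂ) = ((0 : ℤ) : ℂ) := by
        push_cast
        linear_combination -h2
      have h5 : σ * (t : ℤ) = 0 := by exact_mod_cast h4
      rcases mul_eq_zero.1 h5 with h' | h'
      · exact h'
      · exfalso
        have : t = 0 := by exact_mod_cast h'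
        omega
  obtain ⟨hvYm, hσ0⟩ := hstep2
  have hvY1 : ∀ θ ∈ Y, (θ : G → ℂ) s = -1 := fun θ hθ => by rw [hvY θ hθ, hvYm]
  have hsumA0 : ∑ χ ∈ A, (sg χ : ℂ) = 0 := by
    have : ((σ : ℤ) : ℂ) = 0 := by rw [hσ0]; simp
    rw [hσ] at this
    push_cast at this
    exact this
  have hconj1 : ∀ ζ : IrrCharacter G, conj ((ζ : G → ℂ) 1) = (ζ : G → ℂ) 1 := by
    intro ζ
    rw [irr_apply_one ζ, Complex.conj_natCast]
  -- step (3)
  have hS1 : ∑ ζ ∈ R, (ζ : G → ℂ) s * (ζ : G → ℂ) 1 = ((t : ℂ) - 1) * (p : ℂ) := by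
    have h1 := Helper78.second_orthogonality_of_not_isConj (G := G) (g := s) (h := 1)
      (fun h => hs1 (isConj_one_left.mp h))
    rw [Finset.sum_congr rfl (fun ζ _ => by rw [hconj1 ζ]), D.sum_split htX hta, htriv] at h1
    have e2 : ∑ χ ∈ A, (χ : G → ℂ) s * (χ : G → ℂ) 1 = 0 := by
      have h5 : ∀ χ ∈ A, (χ : G → ℂ) s * (χ : G → ℂ) 1 =
          (sg χ : ℂ) * (πs * ((t : ℂ) * ((p : ℂ) - (q : ℂ)))) := by
        intro χ hχ
        rw [hsgA χ hχ, hdA χ hχ]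
        ring
      rw [Finset.sum_congr rfl h5, ← Finset.sum_mul, hsumA0, zero_mul]
    have e3 : ∑ χ ∈ B, (χ : G → ℂ) s * (χ : G → ℂ) 1 = 0 := by
      apply Finset.sum_eq_zero
      intro χ hχ
      rw [hvB χ hχ, zero_mul]
    have e4 : ∑ θ ∈ Y, (θ : G → ℂ) s * (θ : G → ℂ) 1 = (t : ℂ) * (-1 * ((p : ℂ) - (q : ℂ))) := by
      rw [Finset.sum_congr rfl (g := fun _ => -1 * ((p : ℂ) - (q : ℂ)))]
      · rw [Finset.sum_const, D.hYcard, nsmul_eq_mul]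
      · intro θ hθ
        rw [hvY1 θ hθ, hdY θ hθ]
    rw [e2, e3, e4] at h1
    refine e3_alg3 (A.card : ℂ) (t : ℂ) (p : ℂ) (q : ℂ) ((p : ℂ) - (q : ℂ))
      ((t : ℂ) * ((p : ℂ) - (q : ℂ))) _ hqC hpC rfl rfl ?_
    linear_combination h1
  -- step (4)
  have hS2 : ∑ ζ ∈ R, (ζ : G → ℂ) s * (ζ : G → ℂ) s = (t : ℂ) - 1 := by
    have h1 := Helper78.second_orthogonality_of_isConj (G := G) (IsConj.refl s)
    rw [Finset.sum_congr rfl (fun ζ _ => by rw [hreal ζ]), D.sum_split htX hta, htriv, ← hc,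
      hcp] at h1
    have e2 : ∑ χ ∈ A, (χ : G → ℂ) s * (χ : G → ℂ) s = (A.card : ℂ) * (t : ℂ) ^ 2 := by
      rw [Finset.sum_congr rfl (g := fun _ => (t : ℂ) ^ 2)]
      · rw [Finset.sum_const, nsmul_eq_mul]
      · intro χ hχ
        rw [hsgA χ hχ, hπt]
        have := hsg2 χ
        linear_combination (t : ℂ) ^ 2 * this
    have e3 : ∑ χ ∈ B, (χ : G → ℂ) s * (χ : G → ℂ) s = 0 := by
      apply Finset.sum_eq_zero
      intro χ hχ
      rw [hvB χ hχ, zero_mul]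
    have e4 : ∑ θ ∈ Y, (θ : G → ℂ) s * (θ : G → ℂ) s = (t : ℂ) * (-1) ^ 2 := by
      rw [Finset.sum_congr rfl (g := fun _ => (-1 : ℂ) ^ 2)]
      · rw [Finset.sum_const, D.hYcard, nsmul_eq_mul]
      · intro θ hθ
        rw [hvY1 θ hθ]
        ring
    rw [e2, e3, e4, Nat.cast_sub (by omega : 1 ≤ p)] at h1
    refine e3_alg4 (A.card : ℂ) (t : ℂ) (p : ℂ) (q : ℂ) _ hqC hpC ?_
    push_cast at h1
    linear_combination h1
  -- step (5)
  have hS0 : ∑ ζ ∈ R, ((ζ : G → ℂ) 1) ^ 2 = (p : ℂ) ^ 2 * ((t : ℂ) - 1) := by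
    have h1 := Helper78.sum_irr_apply_one_sq (G := G)
    rw [D.sum_split htX hta, htriv, hGC] at h1
    have e2 : ∑ χ ∈ A, ((χ : G → ℂ) 1) ^ 2 =
        (A.card : ℂ) * ((t : ℂ) * ((p : ℂ) - (q : ℂ))) ^ 2 := by
      rw [Finset.sum_congr rfl (g := fun _ => ((t : ℂ) * ((p : ℂ) - (q : ℂ))) ^ 2)]
      · rw [Finset.sum_const, nsmul_eq_mul]
      · intro χ hχ
        rw [hdA χ hχ]
    have e3 : ∑ χ ∈ B, ((χ : G → ℂ) 1) ^ 2 = (B.card : ℂ) * ((p : ℂ) - 1) ^ 2 := by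
      rw [Finset.sum_congr rfl (g := fun _ => ((p : ℂ) - 1) ^ 2)]
      · rw [Finset.sum_const, nsmul_eq_mul]
      · intro χ hχ
        rw [hdB χ hχ]
    have e4 : ∑ θ ∈ Y, ((θ : G → ℂ) 1) ^ 2 = (t : ℂ) * ((p : ℂ) - (q : ℂ)) ^ 2 := by
      rw [Finset.sum_congr rfl (g := fun _ => ((p : ℂ) - (q : ℂ)) ^ 2)]
      · rw [Finset.sum_const, D.hYcard, nsmul_eq_mul]
      · intro θ hθ
        rw [hdY θ hθ]
    rw [e2, e3, e4] at h1
    refine e3_alg5 (A.card : ℂ) (t : ℂ) (p : ℂ) (q : ℂ) ((p : ℂ) - (q : ℂ)) (B.card : ℂ) _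
      hqC hpC rfl hBC ?_
    linear_combination h1
  -- ζ(1) = p ζ(s) on R
  have hRs : ∀ ζ ∈ R, (ζ : G → ℂ) 1 = (p : ℂ) * (ζ : G → ℂ) s := by
    have hre : ∀ ζ : IrrCharacter G, (((ζ : G → ℂ) s).re : ℂ) = (ζ : G → ℂ) s :=
      fun ζ => Complex.conj_eq_iff_re.1 (hreal ζ)
    have h1 : ∑ ζ ∈ R, ((charDegree (ζ : G → ℂ) : ℝ) - (p : ℝ) * ((ζ : G → ℂ) s).re) ^ 2 = 0 := by
      have h2 : ((∑ ζ ∈ R, ((charDegree (ζ : G → ℂ) : ℝ) - (p : ℝ) * ((ζ : G → ℂ) s).re) ^ 2 : ℝ) : ℂ)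
          = 0 := by
        push_cast
        have h3 : ∀ ζ ∈ R, ((charDegree (ζ : G → ℂ) : ℂ) - (p : ℂ) * (((ζ : G → ℂ) s).re : ℂ)) ^ 2 =
            ((ζ : G → ℂ) 1) ^ 2 - 2 * (p : ℂ) * ((ζ : G → ℂ) s * (ζ : G → ℂ) 1) +
              (p : ℂ) ^ 2 * ((ζ : G → ℂ) s * (ζ : G → ℂ) s) := by
          intro ζ _
          rw [hre ζ, ← irr_apply_one ζ]
          ring
        rw [Finset.sum_congr rfl h3, Finset.sum_add_distrib, Finset.sum_sub_distrib,
          ← Finset.mul_sum, ← Finset.mul_sum, hS0, hS1, hS2]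
        ring
      exact_mod_cast h2
    intro ζ hζ
    have h4 := (Finset.sum_eq_zero_iff_of_nonneg (fun ζ _ => sq_nonneg _)).1 h1 ζ hζ
    have h5 : (charDegree (ζ : G → ℂ) : ℝ) - (p : ℝ) * ((ζ : G → ℂ) s).re = 0 := by
      simpa using h4
    rw [irr_apply_one ζ, ← hre ζ]
    have h6 : ((charDegree (ζ : G → ℂ) : ℝ) : ℂ) = (((p : ℝ) * ((ζ : G → ℂ) s).re : ℝ) : ℂ) := by
      rw [sub_eq_zero.1 h5]
    push_cast at h6
    exact h6
  -- step (6)
  refine ⟨hcp, ?_⟩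
  have h1 := natCard_pairs_eq s s s
  rw [hsinv, D.sum_split htX hta, htriv, hGC] at h1
  have e1 : (fun _ : G => (1 : ℂ)) s * (fun _ : G => (1 : ℂ)) s * (fun _ : G => (1 : ℂ)) s /
      (fun _ : G => (1 : ℂ)) 1 = 1 := by simp
  have e2 : ∑ χ ∈ A, (χ : G → ℂ) s * (χ : G → ℂ) s * (χ : G → ℂ) s / (χ : G → ℂ) 1 = 0 := by
    have h5 : ∀ χ ∈ A, (χ : G → ℂ) s * (χ : G → ℂ) s * (χ : G → ℂ) s / (χ : G → ℂ) 1 =
        (sg χ : ℂ) * (πs ^ 3 / ((t : ℂ) * ((p : ℂ) - (q : ℂ)))) := by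
      intro χ hχ
      rw [hsgA χ hχ, hdA χ hχ]
      have := hsg2 χ
      have h6 : (sg χ : ℂ) * πs * ((sg χ : ℂ) * πs) * ((sg χ : ℂ) * πs) =
          (sg χ : ℂ) * πs ^ 3 := by
        linear_combination (sg χ : ℂ) * πs ^ 3 * this
      rw [h6]
      ring
    rw [Finset.sum_congr rfl h5, ← Finset.sum_mul, hsumA0, zero_mul]
  have e3 : ∑ χ ∈ B, (χ : G → ℂ) s * (χ : G → ℂ) s * (χ : G → ℂ) s / (χ : G → ℂ) 1 = 0 := by
    apply Finset.sum_eq_zero
    intro χ hχ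
    rw [hvB χ hχ]
    simp
  have e4 : ∑ θ ∈ Y, (θ : G → ℂ) s * (θ : G → ℂ) s * (θ : G → ℂ) s / (θ : G → ℂ) 1 =
      -((t : ℂ) / ((p : ℂ) - (q : ℂ))) := by
    rw [Finset.sum_congr rfl (g := fun _ => -(1 / ((p : ℂ) - (q : ℂ))))]
    · rw [Finset.sum_const, D.hYcard, nsmul_eq_mul]
      ring
    · intro θ hθ
      rw [hvY1 θ hθ, hdY θ hθ]
      ring
  have e5 : ∑ ζ ∈ R, (ζ : G → ℂ) s * (ζ : G → ℂ) s * (ζ : G → ℂ) s / (ζ : G → ℂ) 1 =
      ((t : ℂ) - 1) / (p : ℂ) := by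
    have h5 : ∀ ζ ∈ R, (ζ : G → ℂ) s * (ζ : G → ℂ) s * (ζ : G → ℂ) s / (ζ : G → ℂ) 1 =
        (ζ : G → ℂ) s * (ζ : G → ℂ) s / (p : ℂ) := by
      intro ζ hζ
      rw [hRs ζ hζ]
      by_cases h0 : (ζ : G → ℂ) s = 0
      · rw [h0]
        simp
      · field_simp
    rw [Finset.sum_congr rfl h5, ← Finset.sum_div, hS2]
  rw [e1, e2, e3, e4, e5] at h1
  have h2 : (p : ℂ) * (q : ℂ) * ((t : ℂ) * ((p : ℂ) - (q : ℂ))) *
      (1 + (0 + 0) + -((t : ℂ) / ((p : ℂ) - (q : ℂ))) + ((t : ℂ) - 1) / (p : ℂ)) =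
      ((p : ℂ) - 1) ^ 2 * ((p : ℂ) - 1 - (q : ℂ)) := by
    have := e3_alg6 (A.card : ℂ) (t : ℂ) (p : ℂ) (q : ℂ) ((p : ℂ) - (q : ℂ)) hqC hpC rfl hm0 hp0
    rw [← this]
    ring
  rw [h2] at h1
  have hq1 : q ≤ p - 1 := by
    have : q * 1 ≤ q * t := Nat.mul_le_mul_left q (by omega)
    omega
  have h3 : (((p - 1) ^ 2 * (p - 1 - q) : ℕ) : ℂ) = ((p : ℂ) - 1) ^ 2 * ((p : ℂ) - 1 - (q : ℂ)) := by
    rw [Nat.cast_mul, Nat.cast_pow, Nat.cast_sub hq1, Nat.cast_sub (by omega : 1 ≤ p)]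
    simp
  rw [← h3] at h1
  exact_mod_cast h1

end Rigid

end Cfsg.Agent.Lib.Helper64.BrauerN
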