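import Mathlib
import Cfsg.Agent.Lib.Helper64.BrauerNNV

/-!
# S0999 / S4701 (Brauer-Reynolds, `|G| < p³`): module [PLUS] of helper79's SPINE.md (helper64)

`rigid_eps_eq_neg_one`: in the rigid configuration `RigidData p P q t ε a X Y` the sign `ε` is `-1`.
Proof: if `ε = 1` then `θ(1) = q`; decompose `θ θ̄` and count on `P ∖ 1` (with module [NV]).
-/

set_option autoImplicit false
set_option linter.unusedSectionVars false
open Cfsg
open scoped ComplexConjugate

namespace Cfsg.Agent.Lib.Helper64.BrauerN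

open Cfsg.Agent.Lib.Helper79.BrauerN
open Cfsg.Agent.Lib

section Rigid

variable {G : Type*} [Group G] [Finite G] {p : ℕ} [Fact p.Prime] {P : Sylow p G}
  {q t : ℕ} {ε : ℤ} {a : IrrCharacter G → ℤ} {X Y : Finset (IrrCharacter G)}

/-- the final arithmetic contradiction of [PLUS]. -/
theorem plus_arith (p q t mp : ℕ) (hpqt : p = q * t + 1) (hq : 2 ≤ q) (ht : 3 ≤ t)
    (hA : 1 + (1 + (t - 1) * p) * mp ≤ q ^ 2)
    (hB : q * (p - q) ≤ (p - 1) * (1 + mp)) : False := by
  subst hpqt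
  obtain ⟨s, rfl⟩ : ∃ s, t = s + 3 := ⟨t - 3, by omega⟩
  obtain ⟨r, rfl⟩ : ∃ r, q = r + 2 := ⟨q - 2, by omega⟩
  have h1 : (r + 2) * (s + 3) + 1 - (r + 2) = (r + 2) * (s + 2) + 1 := by
    have : (r + 2) * (s + 3) = (r + 2) * (s + 2) + (r + 2) := by ring
    omega
  have h2 : (r + 2) * (s + 3) + 1 - 1 = (r + 2) * (s + 3) := by omega
  have h3 : s + 3 - 1 = s + 2 := by omega
  rw [h1, h2] at hB
  rw [h3] at hA
  -- hB : (r+2) * ((r+2)(s+2)+1) ≤ (r+2)(s+3)(1+mp)  ⇒  (r+2)(s+2)+1 ≤ (s+3)(1+mp)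
  have hB' : (r + 2) * (s + 2) + 1 ≤ (s + 3) * (1 + mp) := by
    have : (r + 2) * ((r + 2) * (s + 2) + 1) ≤ (r + 2) * ((s + 3) * (1 + mp)) := by
      calc (r + 2) * ((r + 2) * (s + 2) + 1) ≤ (r + 2) * (s + 3) * (1 + mp) := hB
        _ = (r + 2) * ((s + 3) * (1 + mp)) := by ring
    exact Nat.le_of_mul_le_mul_left this (by omega)
  nlinarith [Nat.zero_le (r * s), Nat.zero_le (r * mp), Nat.zero_le (s * mp),
    Nat.zero_le (r * s * mp), Nat.zero_le (s * s * mp), Nat.zero_le (r * s * s * mp)]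

/-- the sum of `ζ` over `P ∖ 1`. -/
theorem sum_erase_irr [DecidableEq G] (D : RigidData p P q t ε a X Y) (hε : ε = 1) [Fintype G]
    [Fintype (P : Subgroup G)] (ζ : IrrCharacter G) :
    ∑ x ∈ (Finset.univ : Finset (P : Subgroup G)).erase 1, (ζ : G → ℂ) x =
      (if ζ ∈ X then ((p : ℂ) - 1) * (a ζ : ℂ) else 0) + (if ζ ∈ Y then -(q : ℂ) else 0) := by
  classical
  have hp : 1 ≤ p := (Fact.out : p.Prime).one_lt.le
  by_cases hX : ζ ∈ X
  · have hY : ζ ∉ Y := fun h => (Finset.disjoint_left.1 D.hdisj) hX h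
    rw [if_pos hX, if_neg hY, add_zero]
    have h1 : ∀ x ∈ (Finset.univ : Finset (P : Subgroup G)).erase 1,
        (ζ : G → ℂ) x = (a ζ : ℂ) := fun x hx => D.hXval ζ hX x x.2 (ne_one_of_mem_erase hx)
    rw [Finset.sum_congr rfl h1, Finset.sum_const, card_erase_one D, nsmul_eq_mul]
    push_cast [hp]
    ring
  · by_cases hY : ζ ∈ Y
    · rw [if_neg hX, if_pos hY, zero_add, Finset.sum_erase_eq_sub (Finset.mem_univ _)]
      have h1 := rigid_finsum_Y D hY
      rw [finsum_mem_subgroup, if_pos hε] at h1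
      rw [h1]
      have h2 : (ζ : G → ℂ) ((1 : (P : Subgroup G)) : G) = (degY p q ε : ℂ) := apply_one_Y D hY
      rw [h2]
      unfold degY
      rw [if_pos hε]
      ring
    · rw [if_neg hX, if_neg hY, add_zero]
      apply Finset.sum_eq_zero
      intro x hx
      exact rigid_apply_eq_zero_of_not_mem D hX hY x.2 (ne_one_of_mem_erase hx)

/-- **[PLUS]**: `ε = -1`. -/
theorem rigid_eps_eq_neg_one (D : RigidData p P q t ε a X Y) : ε = -1 := by
  classical
  rcases D.hε with hε | hε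
  swap
  · exact hε
  exfalso
  have : Fintype G := Fintype.ofFinite G
  have : Fintype (P : Subgroup G) := Fintype.ofFinite _
  have hp : 1 ≤ p := (Fact.out : p.Prime).one_lt.le
  have hqp := q_le_p D
  -- pick θ
  have hYne : Y.Nonempty := by
    rw [← Finset.card_pos, D.hYcard]
    have := D.ht
    omega
  obtain ⟨θ, hθ⟩ := hYne
  have hθc : IsCharacter G (θ : G → ℂ) := Helper78.IsIrrCharacter.isCharacter θ.2
  have hΦ : IsCharacter G ((θ : G → ℂ) * fun g => conj ((θ : G → ℂ) g)) :=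
    Helper80.isCharacter_mul hθc (Helper80.isCharacter_conj hθc)
  obtain ⟨m, hm⟩ := (Helper78.isCharacter_iff_exists_nat_combination _).1 hΦ
  have hpt : ∀ g : G, (θ : G → ℂ) g * conj ((θ : G → ℂ) g) =
      ∑ ζ : IrrCharacter G, (m ζ : ℂ) * (ζ : G → ℂ) g := by
    intro g
    have h := congrFun hm g
    simpa [Finset.sum_apply] using h
  -- the trivial character
  obtain ⟨χ₁, hχ₁X, hχ₁⟩ := D.htriv
  have hm1 : m χ₁ = 1 := by
    have h1 := Helper78.classInner_nat_combination (fun ζ => (m ζ : ℂ)) χ₁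
    rw [← hm] at h1
    have h2 : classInner ((θ : G → ℂ) * fun g => conj ((θ : G → ℂ) g)) (χ₁ : G → ℂ) =
        classInner (θ : G → ℂ) (θ : G → ℂ) := by
      unfold classInner
      congr 1
      apply Finset.sum_congr rfl
      intro g _
      rw [hχ₁]
      simp
    rw [h2, Helper78.classInner_irr_self θ.2] at h1
    exact_mod_cast h1.symm
  -- a nonidentity element of P
  have hne : ((Finset.univ : Finset (P : Subgroup G)).erase 1).Nonempty := by
    rw [← Finset.card_pos, card_erase_one D]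
    have := (Fact.out : p.Prime).two_le
    omega
  obtain ⟨x₀, hx₀⟩ := hne
  have ha1 : a χ₁ = 1 := by
    have h1 : ((a χ₁ : ℤ) : ℂ) = 1 := by
      rw [← D.hXval χ₁ hχ₁X x₀ x₀.2 (ne_one_of_mem_erase hx₀), hχ₁]
    exact_mod_cast h1
  set mp : ℕ := ∑ χ ∈ X.erase χ₁, (if a χ = 1 then m χ else 0) with hmp
  -- (A)
  have hA : 1 + (1 + (t - 1) * p) * mp ≤ q ^ 2 := by
    have h1 := hpt 1
    have hθ1 : (θ : G → ℂ) 1 = (q : ℂ) := by
      rw [D.hdegY θ hθ, if_pos hε]
    rw [hθ1, Complex.conj_natCast] at h1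
    have h2 : ∀ ζ : IrrCharacter G, (ζ : G → ℂ) 1 = (charDegree (ζ : G → ℂ) : ℂ) :=
      fun ζ => Helper78.IsCharacter.apply_one_eq_charDegree
        (Helper78.IsIrrCharacter.isCharacter ζ.2)
    have h3 : q * q = ∑ ζ : IrrCharacter G, m ζ * charDegree (ζ : G → ℂ) := by
      have : ((q * q : ℕ) : ℂ) = ((∑ ζ : IrrCharacter G, m ζ * charDegree (ζ : G → ℂ) : ℕ) : ℂ) := by
        push_cast
        rw [h1]
        apply Finset.sum_congr rfl
        intro ζ _
        rw [h2 ζ]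
      exact_mod_cast this
    have h4 : ∑ ζ ∈ X, m ζ * charDegree (ζ : G → ℂ) ≤
        ∑ ζ : IrrCharacter G, m ζ * charDegree (ζ : G → ℂ) :=
      Finset.sum_le_sum_of_subset (Finset.subset_univ X)
    rw [← Finset.add_sum_erase X _ hχ₁X] at h4
    have h5 : charDegree (χ₁ : G → ℂ) = 1 := by
      have : (charDegree (χ₁ : G → ℂ) : ℂ) = 1 := by
        rw [← h2 χ₁, hχ₁]
      exact_mod_cast this
    have h6 : (1 + (t - 1) * p) * mp ≤ ∑ ζ ∈ X.erase χ₁, m ζ * charDegree (ζ : G → ℂ) := by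
      rw [hmp, Finset.mul_sum]
      apply Finset.sum_le_sum
      intro χ hχ
      by_cases hax : a χ = 1
      · rw [if_pos hax]
        have hχX := (Finset.mem_erase.1 hχ).2
        have hχne : (χ : G → ℂ) ≠ fun _ => 1 := by
          intro h
          apply (Finset.mem_erase.1 hχ).1
          apply Subtype.ext
          rw [h, hχ₁]
        have h7 := D.hdegXp χ hχX hax hχne
        rw [h2 χ] at h7
        have h8 : charDegree (χ : G → ℂ) = 1 + (t - 1) * p := by exact_mod_cast h7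
        rw [h8, mul_comm]
      · rw [if_neg hax, mul_zero]
        exact Nat.zero_le _
    rw [hm1, h5] at h4
    rw [sq, h3]
    omega
  -- (B)
  have hB : q * (p - q) ≤ (p - 1) * (1 + mp) := by
    -- complex identity
    have h1 : ∑ x ∈ (Finset.univ : Finset (P : Subgroup G)).erase 1,
        (θ : G → ℂ) x * conj ((θ : G → ℂ) x) =
        ((p : ℂ) - 1) * ∑ χ ∈ X, (m χ : ℂ) * (a χ : ℂ) - (q : ℂ) * ∑ θ' ∈ Y, (m θ' : ℂ) := by
      have h0 : ∀ x ∈ (Finset.univ : Finset (P : Subgroup G)).erase 1,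
          (θ : G → ℂ) x * conj ((θ : G → ℂ) x) =
            ∑ ζ : IrrCharacter G, (m ζ : ℂ) * (ζ : G → ℂ) x := fun x _ => hpt x
      rw [Finset.sum_congr rfl h0, Finset.sum_comm]
      have h2 : ∀ ζ : IrrCharacter G,
          ∑ x ∈ (Finset.univ : Finset (P : Subgroup G)).erase 1, (m ζ : ℂ) * (ζ : G → ℂ) x =
          (if ζ ∈ X then ((p : ℂ) - 1) * ((m ζ : ℂ) * (a ζ : ℂ)) else 0) +
            (if ζ ∈ Y then -((q : ℂ) * (m ζ : ℂ)) else 0) := by
        intro ζ
        rw [← Finset.mul_sum, sum_erase_irr D hε ζ]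
        split_ifs <;> ring
      rw [Finset.sum_congr rfl (fun ζ _ => h2 ζ), Finset.sum_add_distrib, Finset.sum_ite_mem,
        Finset.sum_ite_mem, Finset.univ_inter, Finset.univ_inter, ← Finset.mul_sum,
        Finset.sum_neg_distrib, ← Finset.mul_sum]
      ring
    have h3 : ∑ x ∈ (Finset.univ : Finset (P : Subgroup G)).erase 1,
        (θ : G → ℂ) x * conj ((θ : G → ℂ) x) = ((nsP P (θ : G → ℂ) : ℝ) : ℂ) := by
      unfold nsP
      push_cast
      apply Finset.sum_congr rfl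
      intro x _
      rw [Complex.mul_conj]
    rw [h3, nsP_Y D hθ] at h1
    have h4 : ((q : ℤ) * ((p : ℤ) - q) : ℤ) =
        ((p : ℤ) - 1) * ∑ χ ∈ X, (m χ : ℤ) * a χ - (q : ℤ) * ∑ θ' ∈ Y, (m θ' : ℤ) := by
      have : (((q : ℤ) * ((p : ℤ) - q) : ℤ) : ℂ) =
          ((((p : ℤ) - 1) * ∑ χ ∈ X, (m χ : ℤ) * a χ - (q : ℤ) * ∑ θ' ∈ Y, (m θ' : ℤ) : ℤ) : ℂ) := by
        push_cast
        rw [← h1]
        push_cast
        ring
      exact_mod_cast this
    have h5 : ∑ χ ∈ X, (m χ : ℤ) * a χ ≤ 1 + (mp : ℤ) := by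
      rw [← Finset.add_sum_erase X _ hχ₁X, hm1, ha1, hmp]
      push_cast
      have : ∑ χ ∈ X.erase χ₁, (m χ : ℤ) * a χ ≤
          ∑ χ ∈ X.erase χ₁, ((if a χ = 1 then (m χ : ℤ) else 0)) := by
        apply Finset.sum_le_sum
        intro χ hχ
        rcases D.haX χ (Finset.mem_erase.1 hχ).2 with h | h
        · rw [if_pos h, h, mul_one]
        · rw [if_neg (by rw [h]; norm_num), h]
          have : (0 : ℤ) ≤ m χ := Int.natCast_nonneg _
          linarith
      linarith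
    have h7 : (0 : ℤ) ≤ ∑ θ' ∈ Y, (m θ' : ℤ) :=
      Finset.sum_nonneg (fun _ _ => Int.natCast_nonneg _)
    have h8 : ((q * (p - q) : ℕ) : ℤ) ≤ (((p - 1) * (1 + mp) : ℕ) : ℤ) := by
      push_cast [hp, hqp]
      rw [h4]
      have hq0 : (0 : ℤ) ≤ q := Int.natCast_nonneg _
      have hp1 : (0 : ℤ) ≤ (p : ℤ) - 1 := by
        have : (1 : ℤ) ≤ p := by exact_mod_cast hp
        linarith
      nlinarith
    exact_mod_cast h8
  exact plus_arith p q t mp D.hpqt D.hq D.ht hA hB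

end Rigid

end Cfsg.Agent.Lib.Helper64.BrauerN
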