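import Mathlib
import Cfsg.Agent.Lib.Helper64.PFElevenAnchor

/-!
# PROJECT PF, Peterfalvi section 11 (end game): module [DEGQ-ABS] (helper64)

* `ti_setup`, `ti_coeff`: the dual of `W = W₁ × W₂` and the integral coefficient system of a class
  function vanishing on `W ∖ (W₁ ∪ W₂)` (rectangle rule).
* `degq_abs`: step (3) of the end game: `Γ = τ(μ₀ - ζ₁)` equals `∑_φ η_φ - χ'` with `χ'` a unit
  vector orthogonal to the cyclic TI family (= the hypothesis of `B0`).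
-/

set_option autoImplicit false
set_option linter.unusedSectionVars false
open Cfsg
open scoped ComplexConjugate

namespace Cfsg.Agent.Lib.Helper64.PF11

open Cfsg.Agent.Lib.Helper26 Cfsg.Agent.Lib.Helper52.BL
open Cfsg.Agent.Lib

section Main

variable {G : Type*} [Group G] [Fintype G]

open Cfsg.Agent.Lib.Helper25 (dualOf mem_dualOf one_mem_dualOf hom_ext_sup)

/-- the group-theoretic set-up of a self-normalizing cyclic pair `W = W₁ × W₂`. -/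
theorem ti_setup (W₁ W₂ : Subgroup G) (hW : IsSelfNormalizingCyclic W₁ W₂) :
    (∀ a b : ↥(W₁ ⊔ W₂), a * b = b * a) ∧
    (∀ φ : ↥(W₁ ⊔ W₂) →* ℂˣ, (∀ w ∈ W₁.subgroupOf (W₁ ⊔ W₂), φ w = 1) →
      (∀ w ∈ W₂.subgroupOf (W₁ ⊔ W₂), φ w = 1) → φ = 1) ∧
    Nat.card ↥(W₁ ⊔ W₂) =
      Nat.card (W₁.subgroupOf (W₁ ⊔ W₂)) * Nat.card (W₂.subgroupOf (W₁ ⊔ W₂)) ∧
    Nat.card (W₁.subgroupOf (W₁ ⊔ W₂)) = Nat.card W₁ ∧
    Nat.card (W₂.subgroupOf (W₁ ⊔ W₂)) = Nat.card W₂ := by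
  obtain ⟨hW₁, hW₂, hinf, hcomm, hcyc, hnormz⟩ := hW
  have hWcomm : ∀ a b : ↥(W₁ ⊔ W₂), a * b = b * a := by
    intro a b
    obtain ⟨g, hg⟩ := hcyc.exists_generator
    obtain ⟨m, rfl⟩ := hg a
    obtain ⟨n, rfl⟩ := hg b
    exact zpow_mul_comm g m n
  have hc1 : Nat.card (W₁.subgroupOf (W₁ ⊔ W₂)) = Nat.card W₁ :=
    Nat.card_congr (Subgroup.subgroupOfEquivOfLe le_sup_left).toEquiv
  have hc2 : Nat.card (W₂.subgroupOf (W₁ ⊔ W₂)) = Nat.card W₂ :=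
    Nat.card_congr (Subgroup.subgroupOfEquivOfLe le_sup_right).toEquiv
  have hle : W₂ ≤ Subgroup.normalizer (W₁ : Set G) := by
    intro b hb
    rw [Subgroup.mem_normalizer_iff]
    intro a
    constructor
    · intro ha
      have : b * a * b⁻¹ = a := by rw [← hcomm a ha b hb, mul_inv_cancel_right]
      rw [this]; exact ha
    · intro ha
      have h1 := hcomm _ ha b hb
      have h2 : a = b * a * b⁻¹ := by
        have : b * a * b⁻¹ * b = b * a := by group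
        rw [h1] at this
        exact (mul_left_cancel this).symm
      rw [h2]; exact ha
  refine ⟨hWcomm, fun φ h1 h2 => hom_ext_sup W₁ W₂ φ 1 (fun w hw => h1 w hw) (fun w hw => h2 w hw),
    ?_, hc1, hc2⟩
  rw [hc1, hc2]
  exact Cfsg.Agent.Lib.Helper54.card_sup_of_le_normalizer hle hinf

/-- pure arithmetic of [DEGQ-ABS]. -/
theorem degq_abs_arith (p q a b a' : ℤ) (hp : 3 ≤ p) (hq : 3 ≤ q) (ha' : 2 ≤ a')
    (h : 1 + (q - 1) * a ^ 2 + (p - 1) * b ^ 2 + (p - 1) * (q - 1) * (a + b - 1) ^ 2 +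
      (a' * (q - 1) * (a - 1)) ^ 2 ≤ q + 1) : a = 1 ∧ b = 0 := by
  have ha : a = 1 := by
    by_contra hne
    have h1 : 1 ≤ (a - 1) ^ 2 := by
      have : a - 1 ≠ 0 := sub_ne_zero.2 hne
      have : 0 < (a - 1) ^ 2 := by positivity
      omega
    have h2 : 4 * (q - 1) ^ 2 ≤ (a' * (q - 1) * (a - 1)) ^ 2 := by
      have h3 : (a' * (q - 1) * (a - 1)) ^ 2 = a' ^ 2 * (q - 1) ^ 2 * (a - 1) ^ 2 := by ring
      rw [h3]
      have h4 : 4 ≤ a' ^ 2 := by nlinarith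
      have h5 : 0 ≤ (q - 1) ^ 2 := by positivity
      have h9 : 4 * (q - 1) ^ 2 ≤ a' ^ 2 * (q - 1) ^ 2 := by nlinarith
      have h10 : a' ^ 2 * (q - 1) ^ 2 * 1 ≤ a' ^ 2 * (q - 1) ^ 2 * (a - 1) ^ 2 := by
        apply mul_le_mul_of_nonneg_left h1
        positivity
      linarith
    have h6 : 0 ≤ (q - 1) * a ^ 2 := by
      have : 0 ≤ a ^ 2 := by positivity
      nlinarith
    have h7 : 0 ≤ (p - 1) * b ^ 2 := by
      have : 0 ≤ b ^ 2 := by positivity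
      nlinarith
    have h8 : 0 ≤ (p - 1) * (q - 1) * (a + b - 1) ^ 2 := by
      have : 0 ≤ (a + b - 1) ^ 2 := by positivity
      have : 0 ≤ (p - 1) * (q - 1) := by nlinarith
      nlinarith
    nlinarith
  subst ha
  refine ⟨rfl, ?_⟩
  by_contra hb
  have h1 : 1 ≤ b ^ 2 := by
    have : 0 < b ^ 2 := by positivity
    omega
  have h2 : (p - 1) * b ^ 2 + (p - 1) * (q - 1) * (1 + b - 1) ^ 2 = (p - 1) * q * b ^ 2 := by ring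
  have h3 : 6 ≤ (p - 1) * q := by nlinarith
  nlinarith

/-- integral coefficient system of a class function vanishing on `W ∖ (W₁ ∪ W₂)` with invariant
coefficients `(g; A; B)`. -/
theorem ti_coeff (W₁ W₂ : Subgroup G) (hW : IsSelfNormalizingCyclic W₁ W₂)
    (χ : (↥(W₁ ⊔ W₂) →* ℂˣ) → (G → ℂ)) (hχ : IsCyclicTIFamily W₁ W₂ χ)
    (θ : G → ℂ) (hθ : IsClassFunction G θ)
    (hθV : ∀ w : ↥(W₁ ⊔ W₂), (w : G) ∉ W₁ → (w : G) ∉ W₂ → θ w = 0)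
    (g Ac Bc : ℤ) (he1 : classInner θ (χ 1) = g)
    (heA : ∀ φ : ↥(W₁ ⊔ W₂) →* ℂˣ, φ ≠ 1 → (∀ w : ↥(W₁ ⊔ W₂), (w : G) ∈ W₂ → φ w = 1) →
      classInner θ (χ φ) = Ac)
    (heB : ∀ ψ : ↥(W₁ ⊔ W₂) →* ℂˣ, ψ ≠ 1 → (∀ w : ↥(W₁ ⊔ W₂), (w : G) ∈ W₁ → ψ w = 1) →
      classInner θ (χ ψ) = Bc) [Fintype ↥(W₁ ⊔ W₂)] :
    ∃ a : (↥(W₁ ⊔ W₂) →* ℂˣ) → ℤ,
      (∀ ω, classInner θ (χ ω) = (a ω : ℂ)) ∧ a 1 = g ∧
      (∀ φ ∈ dualOf (W₂.subgroupOf (W₁ ⊔ W₂)), φ ≠ 1 → a φ = Ac) ∧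
      (∀ ψ ∈ dualOf (W₁.subgroupOf (W₁ ⊔ W₂)), ψ ≠ 1 → a ψ = Bc) ∧
      (∀ φ ∈ dualOf (W₂.subgroupOf (W₁ ⊔ W₂)), ∀ ψ ∈ dualOf (W₁.subgroupOf (W₁ ⊔ W₂)),
        a (φ * ψ) = a φ + a ψ - a 1) := by
  classical
  obtain ⟨hWcomm, hext, hcard, hc1, hc2⟩ := ti_setup W₁ W₂ hW
  set A₁ := W₁.subgroupOf (W₁ ⊔ W₂) with hA₁
  set A₂ := W₂.subgroupOf (W₁ ⊔ W₂) with hA₂
  have hmem₂ : ∀ φ : ↥(W₁ ⊔ W₂) →* ℂˣ, φ ∈ dualOf A₂ ↔
      ∀ w : ↥(W₁ ⊔ W₂), (w : G) ∈ W₂ → φ w = 1 := by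
    intro φ
    rw [mem_dualOf]
    exact ⟨fun h w hw => h w hw, fun h w hw => h w hw⟩
  have hmem₁ : ∀ ψ : ↥(W₁ ⊔ W₂) →* ℂˣ, ψ ∈ dualOf A₁ ↔
      ∀ w : ↥(W₁ ⊔ W₂), (w : G) ∈ W₁ → ψ w = 1 := by
    intro ψ
    rw [mem_dualOf]
    exact ⟨fun h w hw => h w hw, fun h w hw => h w hw⟩
  have hrectC : ∀ φ ∈ dualOf A₂, ∀ ψ ∈ dualOf A₁,
      classInner θ (χ (φ * ψ)) =
        classInner θ (χ φ) + classInner θ (χ ψ) - classInner θ (χ 1) := fun φ hφ ψ hψ =>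
    Cfsg.Agent.S1506.key W₁ W₂ χ hχ θ hθ hθV φ ψ ((hmem₂ φ).1 hφ) ((hmem₁ ψ).1 hψ)
  have hcoef : ∀ ω : ↥(W₁ ⊔ W₂) →* ℂˣ, ∃ n : ℤ, classInner θ (χ ω) = (n : ℂ) := by
    intro ω
    obtain ⟨φ, hφ, ψ, hψ, rfl⟩ := Cfsg.Agent.S1507.factor_surj hWcomm A₁ A₂ hext hcard ω
    rw [hrectC φ hφ ψ hψ, he1]
    have h1 : ∃ n : ℤ, classInner θ (χ φ) = (n : ℂ) := by
      by_cases h : φ = 1
      · exact ⟨g, by rw [h, he1]⟩
      · exact ⟨Ac, heA φ h ((hmem₂ φ).1 hφ)⟩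
    have h2 : ∃ n : ℤ, classInner θ (χ ψ) = (n : ℂ) := by
      by_cases h : ψ = 1
      · exact ⟨g, by rw [h, he1]⟩
      · exact ⟨Bc, heB ψ h ((hmem₁ ψ).1 hψ)⟩
    obtain ⟨n₁, hn₁⟩ := h1
    obtain ⟨n₂, hn₂⟩ := h2
    exact ⟨n₁ + n₂ - g, by rw [hn₁, hn₂]; push_cast; ring⟩
  choose a ha using hcoef
  have hinj : Function.Injective (Int.cast : ℤ → ℂ) := Int.cast_injective
  refine ⟨a, ha, hinj (by rw [← ha 1, he1]), ?_, ?_, ?_⟩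
  · exact fun φ hφ h => hinj (by rw [← ha φ, heA φ h ((hmem₂ φ).1 hφ)])
  · exact fun ψ hψ h => hinj (by rw [← ha ψ, heB ψ h ((hmem₁ ψ).1 hψ)])
  · intro φ hφ ψ hψ
    apply hinj
    rw [← ha, hrectC φ hφ ψ hψ, ha φ, ha ψ, ha 1]
    push_cast
    ring

open Classical in
/-- **[DEGQ-ABS]** (Peterfalvi sec. 11 end game, step (3)).  `Γ` a class function vanishing on
`W ∖ (W₁ ∪ W₂)`, with invariant integral coefficients `(1; a; b)` on the cyclic TI family and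
`‖Γ‖² = q + 1`; `ψu` a unit vector orthogonal to the family with
`⟨Γ, a' ∑_φ η_φ - ψu⟩ = a' q` for some `a' ≥ 2`.  Then `a = 1`, `b = 0` and
`Γ = ∑_φ η_φ - χ'` with `‖χ'‖ = 1`, `χ'` orthogonal to the family. -/
theorem degq_abs (W₁ W₂ : Subgroup G) (hW : IsSelfNormalizingCyclic W₁ W₂)
    (χ : (↥(W₁ ⊔ W₂) →* ℂˣ) → (G → ℂ)) (hχ : IsCyclicTIFamily W₁ W₂ χ)
    (p q : ℕ) (hq : Nat.card W₁ = q) (hp : Nat.card W₂ = p) (hp3 : 3 ≤ p) (hq3 : 3 ≤ q)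
    (Γ : G → ℂ) (hΓ : IsClassFunction G Γ)
    (hΓV : ∀ w : ↥(W₁ ⊔ W₂), (w : G) ∉ W₁ → (w : G) ∉ W₂ → Γ w = 0)
    (a b : ℤ) (he1 : classInner Γ (χ 1) = ((1 : ℤ) : ℂ))
    (heA : ∀ φ : ↥(W₁ ⊔ W₂) →* ℂˣ, φ ≠ 1 → (∀ w : ↥(W₁ ⊔ W₂), (w : G) ∈ W₂ → φ w = 1) →
      classInner Γ (χ φ) = a)
    (heB : ∀ ψ : ↥(W₁ ⊔ W₂) →* ℂˣ, ψ ≠ 1 → (∀ w : ↥(W₁ ⊔ W₂), (w : G) ∈ W₁ → ψ w = 1) →
      classInner Γ (χ ψ) = b)
    (hnorm : classInner Γ Γ = (q : ℂ) + 1)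
    (ψu : G → ℂ) (hψ1 : classInner ψu ψu = 1) (hψ0 : ∀ ω, classInner ψu (χ ω) = 0)
    (a' : ℤ) (ha' : 2 ≤ a')
    (hprod : ∀ S : Finset (↥(W₁ ⊔ W₂) →* ℂˣ),
      (∀ φ, φ ∈ S ↔ ∀ w : ↥(W₁ ⊔ W₂), (w : G) ∈ W₂ → φ w = 1) →
      classInner Γ ((a' : ℂ) • ∑ φ ∈ S, χ φ - ψu) = (a' : ℂ) * q) :
    a = 1 ∧ b = 0 ∧
    (∀ S : Finset (↥(W₁ ⊔ W₂) →* ℂˣ),
      (∀ φ, φ ∈ S ↔ ∀ w : ↥(W₁ ⊔ W₂), (w : G) ∈ W₂ → φ w = 1) →
      ∃ χ' : G → ℂ, Γ = ∑ φ ∈ S, χ φ - χ' ∧ classInner χ' χ' = 1 ∧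
        ∀ ω, classInner χ' (χ ω) = 0) := by
  have hFW : Fintype ↥(W₁ ⊔ W₂) := Fintype.ofFinite _
  have hFH : Fintype (↥(W₁ ⊔ W₂) →* ℂˣ) := Fintype.ofFinite _
  obtain ⟨hWcomm, hext, hcard, hc1, hc2⟩ := ti_setup W₁ W₂ hW
  obtain ⟨e, he, e1, eA, eB, erect⟩ := ti_coeff W₁ W₂ hW χ hχ Γ hΓ hΓV 1 a b he1 heA heB
  set A₁ := W₁.subgroupOf (W₁ ⊔ W₂) with hA₁
  set A₂ := W₂.subgroupOf (W₁ ⊔ W₂) with hA₂
  rw [hq] at hc1
  rw [hp] at hc2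
  have hmem₂ : ∀ φ : ↥(W₁ ⊔ W₂) →* ℂˣ, φ ∈ dualOf A₂ ↔
      ∀ w : ↥(W₁ ⊔ W₂), (w : G) ∈ W₂ → φ w = 1 := by
    intro φ
    rw [mem_dualOf]
    exact ⟨fun h w hw => h w hw, fun h w hw => h w hw⟩
  have hon1 : ∀ ω : ↥(W₁ ⊔ W₂) →* ℂˣ, classInner (χ ω) (χ ω) = 1 := by
    intro ω
    rw [hχ.orthonormal, if_pos rfl]
  have hon0 : ∀ ω ω' : ↥(W₁ ⊔ W₂) →* ℂˣ, ω ≠ ω' → classInner (χ ω) (χ ω') = 0 := by
    intro ω ω' h
    rw [hχ.orthonormal, if_neg h]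
  obtain ⟨c1, c2⟩ := Cfsg.Agent.S1507.card_dual_eq hWcomm A₁ A₂ hcard
  -- ⟨Γ, ∑_φ η_φ⟩ = 1 + (q-1) a
  have hsumΦ : ∑ φ ∈ dualOf A₂, (e φ : ℂ) = 1 + ((q : ℂ) - 1) * a := by
    rw [← Finset.add_sum_erase _ _ (one_mem_dualOf A₂), e1]
    have h2 : ∀ φ ∈ (dualOf A₂).erase 1, (e φ : ℂ) = (a : ℂ) := by
      intro φ hφ
      rw [Finset.mem_erase] at hφ
      rw [eA φ hφ.2 hφ.1]
    rw [Finset.sum_congr rfl h2, Finset.sum_const, Finset.card_erase_of_mem (one_mem_dualOf A₂),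
      c1, hc1, nsmul_eq_mul, Nat.cast_sub (by omega : 1 ≤ q)]
    push_cast
    ring
  -- ⟨Γ, ψu⟩
  have hΓψ : classInner Γ ψu = ((a' * ((q : ℤ) - 1) * (a - 1) : ℤ) : ℂ) := by
    have h1 := hprod (dualOf A₂) hmem₂
    rw [classInner_sub_right, Helper78.classInner_smul_right, classInner_sum_right,
      Finset.sum_congr rfl (fun φ _ => he φ), hsumΦ] at h1
    have h2 : conj (a' : ℂ) = (a' : ℂ) := by
      rw [← Complex.ofReal_intCast, Complex.conj_ofReal]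
    rw [h2] at h1
    push_cast
    linear_combination -h1
  -- Bessel on the family `η ∪ {ψu}`
  let Z' : Option (↥(W₁ ⊔ W₂) →* ℂˣ) → G → ℂ := fun o => o.elim ψu χ
  let b' : Option (↥(W₁ ⊔ W₂) →* ℂˣ) → ℝ :=
    fun o => o.elim ((a' * ((q : ℤ) - 1) * (a - 1) : ℤ) : ℝ) (fun ω => ((e ω : ℤ) : ℝ))
  have hbes := bessel_on Γ Z'
    (fun o => by cases o with
      | none => exact hψ1
      | some ω => exact hon1 ω)
    (fun o o' hne => by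
      cases o with
      | none =>
        cases o' with
        | none => exact absurd rfl hne
        | some ω => exact hψ0 ω
      | some ω =>
        cases o' with
        | none =>
          show classInner (χ ω) ψu = 0
          rw [← Helper78.classInner_conj_symm, hψ0 ω, map_zero]
        | some ω' => exact hon0 ω ω' (fun h => hne (by rw [h])))
    b'
    (fun o => by cases o with
      | none =>
        show classInner Γ ψu = (((a' * ((q : ℤ) - 1) * (a - 1) : ℤ) : ℝ) : ℂ)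
        rw [hΓψ]; push_cast; rfl
      | some ω =>
        show classInner Γ (χ ω) = (((e ω : ℤ) : ℝ) : ℂ)
        rw [he ω]; push_cast; rfl)
  rw [Fintype.sum_option] at hbes
  simp only [Option.elim, b'] at hbes
  have hsq := sum_sq_coeff hWcomm A₁ A₂ hext hcard e 1 a b erect e1 eA eB
  rw [hc1, hc2] at hsq
  have hsqR : ∑ ω : ↥(W₁ ⊔ W₂) →* ℂˣ, ((e ω : ℤ) : ℝ) ^ 2 =
      ((1 ^ 2 + ((q : ℤ) - 1) * a ^ 2 + ((p : ℤ) - 1) * b ^ 2 +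
        ((p : ℤ) - 1) * ((q : ℤ) - 1) * (a + b - 1) ^ 2 : ℤ) : ℝ) := by
    rw [← hsq]
    push_cast
    rfl
  have hnormR : (classInner Γ Γ).re = (q : ℝ) + 1 := by
    rw [hnorm]
    simp
  rw [hsqR, hnormR] at hbes
  have harith : 1 + ((q : ℤ) - 1) * a ^ 2 + ((p : ℤ) - 1) * b ^ 2 +
      ((p : ℤ) - 1) * ((q : ℤ) - 1) * (a + b - 1) ^ 2 +
      (a' * ((q : ℤ) - 1) * (a - 1)) ^ 2 ≤ (q : ℤ) + 1 := by
    have h3 : ((1 + ((q : ℤ) - 1) * a ^ 2 + ((p : ℤ) - 1) * b ^ 2 +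
      ((p : ℤ) - 1) * ((q : ℤ) - 1) * (a + b - 1) ^ 2 +
      (a' * ((q : ℤ) - 1) * (a - 1)) ^ 2 : ℤ) : ℝ) ≤ (((q : ℤ) + 1 : ℤ) : ℝ) := by
      push_cast
      push_cast at hbes
      linarith
    exact_mod_cast h3
  obtain ⟨ha1, hb0⟩ := degq_abs_arith (p : ℤ) (q : ℤ) a b a' (by exact_mod_cast hp3)
    (by exact_mod_cast hq3) ha' harith
  refine ⟨ha1, hb0, ?_⟩
  intro S hS
  have hSeq : S = dualOf A₂ := by
    ext φ
    rw [hS φ, hmem₂ φ]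
  -- all coefficients
  have hall : ∀ ω : ↥(W₁ ⊔ W₂) →* ℂˣ, e ω = if ω ∈ dualOf A₂ then 1 else 0 := by
    intro ω
    obtain ⟨φ, hφ, ψ, hψ, rfl⟩ := Cfsg.Agent.S1507.factor_surj hWcomm A₁ A₂ hext hcard ω
    have haφ : e φ = 1 := by
      by_cases h : φ = 1
      · rw [h, e1]
      · rw [eA φ hφ h, ha1]
    by_cases hψ1' : ψ = 1
    · subst hψ1'
      rw [mul_one φ, if_pos hφ, haφ]
    · have hnot : φ * ψ ∉ dualOf A₂ := by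
        intro hmem
        apply hψ1'
        have h5 : ψ ∈ dualOf A₂ := by
          have h6 := Cfsg.Agent.Lib.Helper25.mul_mem_dualOf A₂
            (Cfsg.Agent.Lib.Helper25.inv_mem_dualOf A₂ hφ) hmem
          have h7 : φ⁻¹ * (φ * ψ) = ψ := inv_mul_cancel_left φ ψ
          rwa [h7] at h6
        exact hext ψ ((mem_dualOf A₁ ψ).1 hψ) ((mem_dualOf A₂ ψ).1 h5)
      rw [if_neg hnot, erect φ hφ ψ hψ, haφ, eB ψ hψ hψ1', hb0, e1]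
      ring
  have hsumeq : ∑ ω : ↥(W₁ ⊔ W₂) →* ℂˣ, (((e ω : ℤ) : ℝ) : ℂ) • χ ω = ∑ φ ∈ dualOf A₂, χ φ := by
    have h7 : ∀ ω : ↥(W₁ ⊔ W₂) →* ℂˣ, (((e ω : ℤ) : ℝ) : ℂ) • χ ω =
        if ω ∈ dualOf A₂ then χ ω else 0 := by
      intro ω
      rw [hall ω]
      split_ifs
      · simp
      · simp
    rw [Finset.sum_congr rfl (fun ω _ => h7 ω), Finset.sum_ite_mem, Finset.univ_inter]
  have hdef := classInner_sub_sum_on Γ (fun ω : ↥(W₁ ⊔ W₂) →* ℂˣ => χ ω) hon1 hon0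
    (fun ω => ((e ω : ℤ) : ℝ)) (fun ω => by rw [he ω]; push_cast; rfl)
  rw [hsumeq, hnorm, hsqR, ha1, hb0] at hdef
  refine ⟨∑ φ ∈ S, χ φ - Γ, ?_, ?_, ?_⟩
  · rw [sub_sub_cancel]
  · rw [hSeq]
    have h8 : ∑ φ ∈ dualOf A₂, χ φ - Γ = -(Γ - ∑ φ ∈ dualOf A₂, χ φ) := by ring
    rw [h8, classInner_neg_left, classInner_neg_right, neg_neg, hdef]
    push_cast
    ring
  · intro ω
    rw [hSeq, classInner_sub_left, Helper78.classInner_sum_left]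
    have h9 : classInner Γ (χ ω) = (e ω : ℂ) := he ω
    rw [h9, hall ω]
    by_cases hω : ω ∈ dualOf A₂
    · rw [if_pos hω, Finset.sum_eq_single ω]
      · rw [hon1 ω]; push_cast; ring
      · intro φ _ hne
        exact hon0 φ ω hne
      · intro h; exact absurd hω h
    · rw [if_neg hω, Finset.sum_eq_zero]
      · push_cast; ring
      · intro φ hφ
        exact hon0 φ ω (fun h => hω (h ▸ hφ))

end Main

end Cfsg.Agent.Lib.Helper64.PF11
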