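import Mathlib
import Cfsg.Agent.Lib.Helper64.PFElevenDegQ

/-!
# PROJECT PF, Peterfalvi section 11 (end game): module [ANCHOR-K] (helper64)

helper4's argument (6') (`q < p`, uniform degree family, `k` unknown) in abstract form.

* `six_arith`: the arithmetic heart.
* `anchor_tail`: coefficients `(g; g; 0)` on the cyclic TI family and `‖E‖² ≤ g² q` force
  `E = g ∑_φ η_φ`.
* `anchor_k`: a class function `E` vanishing on `W ∖ (W₁ ∪ W₂)` with invariant integral coefficients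
  `(d; A; B)`, `q ∣ d - A`, `q ∣ B`, `‖E‖² = d² q + 2k`, column sum `δ k`, and with
  `⟨E, Y_i⟩ = -(q-1)(d-A)` on an orthonormal family `Y` of `N` vectors orthogonal to the `η`'s,
  `d ≤ q N + 1`, equals `d ∑_φ η_φ`.
-/

set_option autoImplicit false
set_option linter.unusedSectionVars false
open Cfsg
open scoped ComplexConjugate

namespace Cfsg.Agent.Lib.Helper64.PF11

open Cfsg.Agent.Lib.Helper26 Cfsg.Agent.Lib.Helper52.BL
open Cfsg.Agent.Lib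

section Arith

/-- step 0 of `six_arith`: the inequality (I). -/
theorem six_I (p q d N t s δ : ℤ) (hq : 3 ≤ q) (hN : d ≤ q * N + 1)
    (h : d ^ 2 + (q - 1) * (d - q * t) ^ 2 + (p - 1) * (q * s) ^ 2 +
        (p - 1) * (q - 1) * (q * (s - t)) ^ 2 + N * ((q - 1) * (q * t)) ^ 2 ≤
      d ^ 2 * q + 2 * (δ * (q * s + (q - 1) * (q * (s - t))))) :
    (q - 1) * q * t ^ 2 - 2 * d * (q - 1) * t + (p - 1) * q * s ^ 2 +
      (p - 1) * (q - 1) * q * (s - t) ^ 2 + (d - 1) * (q - 1) ^ 2 * t ^ 2 -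
      2 * δ * (q * s - (q - 1) * t) ≤ 0 := by
  have hNt : (d - 1) * (q * ((q - 1) ^ 2 * t ^ 2)) ≤ N * ((q - 1) * (q * t)) ^ 2 := by
    have h1 : 0 ≤ q * ((q - 1) ^ 2 * t ^ 2) := by positivity
    have h2 : d - 1 ≤ q * N := by linarith
    calc (d - 1) * (q * ((q - 1) ^ 2 * t ^ 2)) ≤ (q * N) * (q * ((q - 1) ^ 2 * t ^ 2)) :=
          mul_le_mul_of_nonneg_right h2 h1
      _ = N * ((q - 1) * (q * t)) ^ 2 := by ring
  have hq0 : 0 < q := by linarith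
  have hI : q * ((q - 1) * q * t ^ 2 - 2 * d * (q - 1) * t + (p - 1) * q * s ^ 2 +
      (p - 1) * (q - 1) * q * (s - t) ^ 2 + (d - 1) * (q - 1) ^ 2 * t ^ 2 -
      2 * δ * (q * s - (q - 1) * t)) ≤ 0 := by
    have e : q * ((q - 1) * q * t ^ 2 - 2 * d * (q - 1) * t + (p - 1) * q * s ^ 2 +
      (p - 1) * (q - 1) * q * (s - t) ^ 2 + (d - 1) * (q - 1) ^ 2 * t ^ 2 -
      2 * δ * (q * s - (q - 1) * t)) =
      (d ^ 2 + (q - 1) * (d - q * t) ^ 2 + (p - 1) * (q * s) ^ 2 +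
        (p - 1) * (q - 1) * (q * (s - t)) ^ 2 + (d - 1) * (q * ((q - 1) ^ 2 * t ^ 2))) -
      (d ^ 2 * q + 2 * (δ * (q * s + (q - 1) * (q * (s - t))))) := by ring
    rw [e]
    linarith
  by_contra hc
  push Not at hc
  have := mul_pos hq0 hc
  exact absurd hI (not_le.mpr this)

/-- step 1 of `six_arith`: `t = 0`. -/
theorem six_t (p q d t s δ : ℤ) (hq : 3 ≤ q) (hp : 3 ≤ p) (hd : 2 ≤ d)
    (hδ : δ = 1 ∨ δ = -1)
    (hI' : (q - 1) * q * t ^ 2 - 2 * d * (q - 1) * t + (p - 1) * q * s ^ 2 +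
      (p - 1) * (q - 1) * q * (s - t) ^ 2 + (d - 1) * (q - 1) ^ 2 * t ^ 2 -
      2 * δ * (q * s - (q - 1) * t) ≤ 0) : t = 0 := by
  have hq0 : 0 < q := by linarith
  have hq1 : 0 < q - 1 := by linarith
  have hp1 : 0 ≤ p - 1 := by linarith
  have hd1 : 0 ≤ d - 1 := by linarith
  have hδs : 2 * δ * (q * s) ≤ 2 * q * |s| := by
    rcases hδ with rfl | rfl
    · nlinarith [le_abs_self s]
    · nlinarith [neg_abs_le s]
  have hδt : - (2 * δ * ((q - 1) * t)) ≤ 2 * (q - 1) * |t| := by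
    rcases hδ with rfl | rfl
    · nlinarith [neg_abs_le t]
    · nlinarith [le_abs_self t]
  have hs2 : |s| ≤ s ^ 2 := by
    rcases abs_cases s with ⟨h1, h2⟩ | ⟨h1, h2⟩
    · rw [h1]; nlinarith
    · rw [h1]; nlinarith
  by_contra htne
  have hs3 : 2 * q * |s| ≤ (p - 1) * q * s ^ 2 := by
    have h1 : 2 * q * |s| ≤ 2 * q * s ^ 2 := by nlinarith
    have h2 : 0 ≤ (p - 3) * (q * s ^ 2) := mul_nonneg (by linarith) (by positivity)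
    linarith
  have hII' : (q - 1) * (q * t ^ 2 - 2 * d * t + (p - 1) * q * (s - t) ^ 2 +
      (d - 1) * (q - 1) * t ^ 2 - 2 * |t|) ≤ 0 := by
    have e : (q - 1) * (q * t ^ 2 - 2 * d * t + (p - 1) * q * (s - t) ^ 2 +
        (d - 1) * (q - 1) * t ^ 2 - 2 * |t|) =
        ((q - 1) * q * t ^ 2 - 2 * d * (q - 1) * t + (p - 1) * q * s ^ 2 +
          (p - 1) * (q - 1) * q * (s - t) ^ 2 + (d - 1) * (q - 1) ^ 2 * t ^ 2 -
          2 * δ * (q * s - (q - 1) * t)) +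
        (2 * δ * (q * s) - 2 * q * |s|) + (-(2 * δ * ((q - 1) * t)) - 2 * (q - 1) * |t|) +
        (2 * q * |s| - (p - 1) * q * s ^ 2) := by ring
    rw [e]
    linarith
  have hII : q * t ^ 2 - 2 * d * t + (p - 1) * q * (s - t) ^ 2 +
      (d - 1) * (q - 1) * t ^ 2 - 2 * |t| ≤ 0 := by
    by_contra hc
    push Not at hc
    have := mul_pos hq1 hc
    exact absurd hII' (not_le.mpr this)
  have hst : 0 ≤ (p - 1) * q * (s - t) ^ 2 :=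
    mul_nonneg (mul_nonneg hp1 hq0.le) (sq_nonneg _)
  have htsq : 0 < t ^ 2 := by positivity
  rcases lt_or_gt_of_ne htne with hneg | hpos
  · -- t ≤ -1
    have habs : |t| = -t := abs_of_neg hneg
    rw [habs] at hII
    have h1 : 0 < q * t ^ 2 := mul_pos hq0 htsq
    have h2 : 0 ≤ (d - 1) * (q - 1) * t ^ 2 :=
      mul_nonneg (mul_nonneg hd1 hq1.le) htsq.le
    have h3 : 0 ≤ -(2 * (d - 1) * t) := by nlinarith
    linarith
  · -- t ≥ 1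
    have habs : |t| = t := abs_of_pos hpos
    rw [habs] at hII
    have ht1 : t = 1 := by
      by_contra hne
      have ht2' : 2 ≤ t := by omega
      have h3 : (2 * d + 1) ≤ q + (d - 1) * (q - 1) := by nlinarith
      have h4 : t * (q + (d - 1) * (q - 1)) ≤ 2 * d + 2 := by
        have h5 : t * (t * (q + (d - 1) * (q - 1))) ≤ t * (2 * d + 2) := by nlinarith
        exact le_of_mul_le_mul_left h5 hpos
      nlinarith
    subst ht1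
    have h6 : d * (q - 3) + (p - 1) * q * (s - 1) ^ 2 ≤ 1 := by nlinarith
    have hq3 : q = 3 := by
      by_contra hne
      have : 4 ≤ q := by omega
      nlinarith
    subst hq3
    have hs1 : s = 1 := by
      by_contra hne
      have : 1 ≤ (s - 1) ^ 2 := by
        have : s - 1 ≠ 0 := sub_ne_zero.mpr hne
        have := Int.one_le_abs this
        nlinarith [sq_abs (s - 1)]
      nlinarith
    subst hs1
    rcases hδ with rfl | rfl <;> nlinarith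

/-- **[SIX-ARITH]**: the arithmetic heart of helper4's (6'). -/
theorem six_arith (p q d N t s δ : ℤ) (hq : 3 ≤ q) (hp : 3 ≤ p) (hd : 2 ≤ d)
    (hN : d ≤ q * N + 1) (hδ : δ = 1 ∨ δ = -1)
    (h : d ^ 2 + (q - 1) * (d - q * t) ^ 2 + (p - 1) * (q * s) ^ 2 +
        (p - 1) * (q - 1) * (q * (s - t)) ^ 2 + N * ((q - 1) * (q * t)) ^ 2 ≤
      d ^ 2 * q + 2 * (δ * (q * s + (q - 1) * (q * (s - t))))) : t = 0 ∧ s = 0 := by
  have hI' := six_I p q d N t s δ hq hN h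
  have ht0 := six_t p q d t s δ hq hp hd hδ hI'
  subst ht0
  refine ⟨rfl, ?_⟩
  have hq0 : 0 < q := by linarith
  by_contra hsne
  have hδs : 2 * δ * (q * s) ≤ 2 * q * |s| := by
    rcases hδ with rfl | rfl
    · nlinarith [le_abs_self s]
    · nlinarith [neg_abs_le s]
  have hs2 : |s| ≤ s ^ 2 := by
    rcases abs_cases s with ⟨h1, h2⟩ | ⟨h1, h2⟩
    · rw [h1]; nlinarith
    · rw [h1]; nlinarith
  have habs : 1 ≤ |s| := Int.one_le_abs hsne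
  have h5 : (p - 1) * q * s ^ 2 + (p - 1) * (q - 1) * q * s ^ 2 ≤ 2 * q * |s| := by
    have e : (p - 1) * q * s ^ 2 + (p - 1) * (q - 1) * q * s ^ 2 =
      ((q - 1) * q * (0:ℤ) ^ 2 - 2 * d * (q - 1) * 0 + (p - 1) * q * s ^ 2 +
      (p - 1) * (q - 1) * q * (s - 0) ^ 2 + (d - 1) * (q - 1) ^ 2 * (0:ℤ) ^ 2 -
      2 * δ * (q * s - (q - 1) * 0)) + 2 * δ * (q * s) := by ring
    rw [e]
    linarith
  have h6 : (p - 1) * q * (q * s ^ 2) ≤ 2 * q * s ^ 2 := by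
    have e : (p - 1) * q * s ^ 2 + (p - 1) * (q - 1) * q * s ^ 2 = (p - 1) * q * (q * s ^ 2) := by
      ring
    rw [e] at h5
    have : 2 * q * |s| ≤ 2 * q * s ^ 2 := by nlinarith
    linarith
  have hs0 : 0 < s ^ 2 := by positivity
  have h7 : 0 < q * s ^ 2 := mul_pos hq0 hs0
  have h8 : (p - 1) * q ≤ 2 := by
    have h9 : ((p - 1) * q) * (q * s ^ 2) ≤ 2 * (q * s ^ 2) := by linarith
    exact le_of_mul_le_mul_right h9 h7
  nlinarith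

end Arith

section Main

variable {G : Type*} [Group G] [Fintype G]

open Cfsg.Agent.Lib.Helper25 (dualOf mem_dualOf one_mem_dualOf hom_ext_sup)

open Classical in
/-- coefficients `(g; g; 0)` and `‖E‖² ≤ g² q` force `E = g ∑_φ η_φ`. -/
theorem anchor_tail (W₁ W₂ : Subgroup G) (hW : IsSelfNormalizingCyclic W₁ W₂)
    (χ : (↥(W₁ ⊔ W₂) →* ℂˣ) → (G → ℂ)) (hχ : IsCyclicTIFamily W₁ W₂ χ)
    (p q : ℕ) (hq : Nat.card W₁ = q) (hp : Nat.card W₂ = p)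
    (E : G → ℂ) (hE : IsClassFunction G E)
    (hEV : ∀ w : ↥(W₁ ⊔ W₂), (w : G) ∉ W₁ → (w : G) ∉ W₂ → E w = 0)
    (g : ℤ) (he1 : classInner E (χ 1) = g)
    (heA : ∀ φ : ↥(W₁ ⊔ W₂) →* ℂˣ, φ ≠ 1 → (∀ w : ↥(W₁ ⊔ W₂), (w : G) ∈ W₂ → φ w = 1) →
      classInner E (χ φ) = g)
    (heB : ∀ ψ : ↥(W₁ ⊔ W₂) →* ℂˣ, ψ ≠ 1 → (∀ w : ↥(W₁ ⊔ W₂), (w : G) ∈ W₁ → ψ w = 1) →
      classInner E (χ ψ) = ((0 : ℤ) : ℂ))
    (hnorm : (classInner E E).re ≤ (g : ℝ) ^ 2 * q) :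
    (∀ ω : ↥(W₁ ⊔ W₂) →* ℂˣ, classInner E (χ ω) =
      if (∀ w : ↥(W₁ ⊔ W₂), (w : G) ∈ W₂ → ω w = 1) then (g : ℂ) else 0) ∧
    (∀ S : Finset (↥(W₁ ⊔ W₂) →* ℂˣ),
      (∀ φ, φ ∈ S ↔ ∀ w : ↥(W₁ ⊔ W₂), (w : G) ∈ W₂ → φ w = 1) →
      E = (g : ℂ) • ∑ φ ∈ S, χ φ) := by
  have hFW : Fintype ↥(W₁ ⊔ W₂) := Fintype.ofFinite _
  have hFH : Fintype (↥(W₁ ⊔ W₂) →* ℂˣ) := Fintype.ofFinite _
  obtain ⟨hWcomm, hext, hcard, hc1, hc2⟩ := ti_setup W₁ W₂ hW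
  obtain ⟨a, ha, ha1, haA, haB, hrect⟩ := ti_coeff W₁ W₂ hW χ hχ E hE hEV g g 0 he1 heA heB
  set A₁ := W₁.subgroupOf (W₁ ⊔ W₂) with hA₁
  set A₂ := W₂.subgroupOf (W₁ ⊔ W₂) with hA₂
  rw [hq] at hc1
  rw [hp] at hc2
  have hmem₂ : ∀ φ : ↥(W₁ ⊔ W₂) →* ℂˣ, φ ∈ dualOf A₂ ↔
      ∀ w : ↥(W₁ ⊔ W₂), (w : G) ∈ W₂ → φ w = 1 := by
    intro φ
    rw [mem_dualOf]
    exact ⟨fun h w hw => h w hw, fun h w hw => h w hw⟩
  have hon1 : ∀ ω : ↥(W₁ ⊔ W₂) →* ℂˣ, classInner (χ ω) (χ ω) = 1 := by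
    intro ω
    rw [hχ.orthonormal, if_pos rfl]
  have hon0 : ∀ ω ω' : ↥(W₁ ⊔ W₂) →* ℂˣ, ω ≠ ω' → classInner (χ ω) (χ ω') = 0 := by
    intro ω ω' h
    rw [hχ.orthonormal, if_neg h]
  have hsq := sum_sq_coeff hWcomm A₁ A₂ hext hcard a g g 0 hrect ha1 haA haB
  rw [hc1, hc2] at hsq
  have hsqR : ∑ ω : ↥(W₁ ⊔ W₂) →* ℂˣ, ((a ω : ℤ) : ℝ) ^ 2 = (g : ℝ) ^ 2 * q := by
    have : ∑ ω : ↥(W₁ ⊔ W₂) →* ℂˣ, ((a ω : ℤ) : ℝ) ^ 2 =
        ((∑ ω : ↥(W₁ ⊔ W₂) →* ℂˣ, (a ω) ^ 2 : ℤ) : ℝ) := by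
      push_cast
      rfl
    rw [this, hsq]
    push_cast
    ring
  have hall : ∀ ω : ↥(W₁ ⊔ W₂) →* ℂˣ, a ω = if ω ∈ dualOf A₂ then g else 0 := by
    intro ω
    obtain ⟨φ, hφ, ψ, hψ, rfl⟩ := Cfsg.Agent.S1507.factor_surj hWcomm A₁ A₂ hext hcard ω
    have haφ : a φ = g := by
      by_cases h : φ = 1
      · rw [h, ha1]
      · rw [haA φ hφ h]
    by_cases hψ1 : ψ = 1
    · subst hψ1
      rw [mul_one φ, if_pos hφ, haφ]
    · have hnot : φ * ψ ∉ dualOf A₂ := by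
        intro hmem
        apply hψ1
        have h5 : ψ ∈ dualOf A₂ := by
          have h6 := Cfsg.Agent.Lib.Helper25.mul_mem_dualOf A₂
            (Cfsg.Agent.Lib.Helper25.inv_mem_dualOf A₂ hφ) hmem
          have h7 : φ⁻¹ * (φ * ψ) = ψ := inv_mul_cancel_left φ ψ
          rwa [h7] at h6
        exact hext ψ ((mem_dualOf A₁ ψ).1 hψ) ((mem_dualOf A₂ ψ).1 h5)
      rw [if_neg hnot, hrect φ hφ ψ hψ, haφ, haB ψ hψ hψ1, ha1]
      ring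
  refine ⟨?_, ?_⟩
  · intro ω
    rw [ha ω, hall ω]
    by_cases h : ω ∈ dualOf A₂
    · rw [if_pos h, if_pos ((hmem₂ ω).1 h)]
    · rw [if_neg h, if_neg (fun h' => h ((hmem₂ ω).2 h'))]
      simp
  · intro S hS
    have hSeq : S = dualOf A₂ := by
      ext φ
      rw [hS φ, hmem₂ φ]
    have hE' := bessel_eq_on E (fun ω : ↥(W₁ ⊔ W₂) →* ℂˣ => χ ω)
      hon1 hon0 (fun ω => ((a ω : ℤ) : ℝ))
      (fun ω => by rw [ha ω]; push_cast; rfl) (by rw [hsqR]; exact hnorm)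
    rw [hE', hSeq, Finset.smul_sum]
    have h7 : ∀ ω : ↥(W₁ ⊔ W₂) →* ℂˣ, (((a ω : ℤ) : ℝ) : ℂ) • χ ω =
        if ω ∈ dualOf A₂ then (g : ℂ) • χ ω else 0 := by
      intro ω
      rw [hall ω]
      split_ifs
      · push_cast; rfl
      · simp
    rw [Finset.sum_congr rfl (fun ω _ => h7 ω), Finset.sum_ite_mem, Finset.univ_inter]

open Classical in
/-- **[ANCHOR-K]** (helper4's (6'), abstract form). -/
theorem anchor_k (W₁ W₂ : Subgroup G) (hW : IsSelfNormalizingCyclic W₁ W₂)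
    (χ : (↥(W₁ ⊔ W₂) →* ℂˣ) → (G → ℂ)) (hχ : IsCyclicTIFamily W₁ W₂ χ)
    (p q : ℕ) (hq : Nat.card W₁ = q) (hp : Nat.card W₂ = p) (hp3 : 3 ≤ p) (hq3 : 3 ≤ q)
    (E : G → ℂ) (hE : IsClassFunction G E)
    (hEV : ∀ w : ↥(W₁ ⊔ W₂), (w : G) ∉ W₁ → (w : G) ∉ W₂ → E w = 0)
    (d Ac Bc k δ t s : ℤ) (hd : 2 ≤ d) (hδ : δ = 1 ∨ δ = -1)
    (he1 : classInner E (χ 1) = d)
    (heA : ∀ φ : ↥(W₁ ⊔ W₂) →* ℂˣ, φ ≠ 1 → (∀ w : ↥(W₁ ⊔ W₂), (w : G) ∈ W₂ → φ w = 1) →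
      classInner E (χ φ) = Ac)
    (heB : ∀ ψ : ↥(W₁ ⊔ W₂) →* ℂˣ, ψ ≠ 1 → (∀ w : ↥(W₁ ⊔ W₂), (w : G) ∈ W₁ → ψ w = 1) →
      classInner E (χ ψ) = Bc)
    (ψ₀ : ↥(W₁ ⊔ W₂) →* ℂˣ) (hψ₀1 : ψ₀ ≠ 1)
    (hψ₀ : ∀ w : ↥(W₁ ⊔ W₂), (w : G) ∈ W₁ → ψ₀ w = 1)
    (hcol : ∀ S : Finset (↥(W₁ ⊔ W₂) →* ℂˣ),
      (∀ φ, φ ∈ S ↔ ∀ w : ↥(W₁ ⊔ W₂), (w : G) ∈ W₂ → φ w = 1) →
      ∑ φ ∈ S, classInner E (χ (φ * ψ₀)) = ((δ * k : ℤ) : ℂ))
    (hnorm : classInner E E = ((d ^ 2 * q + 2 * k : ℤ) : ℂ))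
    (ht : d - Ac = q * t) (hs : Bc = q * s)
    {κ : Type*} [Fintype κ] (Y : κ → G → ℂ) (hY1 : ∀ i, classInner (Y i) (Y i) = 1)
    (hY0 : ∀ i j, i ≠ j → classInner (Y i) (Y j) = 0)
    (hYχ : ∀ i ω, classInner (Y i) (χ ω) = 0)
    (hEY : ∀ i, classInner E (Y i) = ((-((q - 1) * (d - Ac)) : ℤ) : ℂ))
    (hcard : d ≤ q * Fintype.card κ + 1) :
    Ac = d ∧ Bc = 0 ∧ k = 0 ∧
    (∀ S : Finset (↥(W₁ ⊔ W₂) →* ℂˣ),
      (∀ φ, φ ∈ S ↔ ∀ w : ↥(W₁ ⊔ W₂), (w : G) ∈ W₂ → φ w = 1) →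
      E = (d : ℂ) • ∑ φ ∈ S, χ φ) := by
  have hFW : Fintype ↥(W₁ ⊔ W₂) := Fintype.ofFinite _
  have hFH : Fintype (↥(W₁ ⊔ W₂) →* ℂˣ) := Fintype.ofFinite _
  obtain ⟨hWcomm, hext, hcard', hc1, hc2⟩ := ti_setup W₁ W₂ hW
  obtain ⟨a, ha, ha1, haA, haB, hrect⟩ := ti_coeff W₁ W₂ hW χ hχ E hE hEV d Ac Bc he1 heA heB
  set A₁ := W₁.subgroupOf (W₁ ⊔ W₂) with hA₁
  set A₂ := W₂.subgroupOf (W₁ ⊔ W₂) with hA₂
  rw [hq] at hc1
  rw [hp] at hc2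
  have hinj : Function.Injective (Int.cast : ℤ → ℂ) := Int.cast_injective
  have hmem₂ : ∀ φ : ↥(W₁ ⊔ W₂) →* ℂˣ, φ ∈ dualOf A₂ ↔
      ∀ w : ↥(W₁ ⊔ W₂), (w : G) ∈ W₂ → φ w = 1 := by
    intro φ
    rw [mem_dualOf]
    exact ⟨fun h w hw => h w hw, fun h w hw => h w hw⟩
  have hmem₁ : ∀ ψ : ↥(W₁ ⊔ W₂) →* ℂˣ, ψ ∈ dualOf A₁ ↔
      ∀ w : ↥(W₁ ⊔ W₂), (w : G) ∈ W₁ → ψ w = 1 := by
    intro ψ
    rw [mem_dualOf]
    exact ⟨fun h w hw => h w hw, fun h w hw => h w hw⟩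
  -- the column sum
  have hk : δ * k = Bc + ((q : ℤ) - 1) * (Ac + Bc - d) := by
    have h2 := sum_col_coeff hWcomm A₁ A₂ hcard' a d Ac Bc hrect ha1 haA haB
      ((hmem₁ ψ₀).2 hψ₀) hψ₀1
    rw [hc1] at h2
    rw [← h2]
    apply hinj
    rw [← hcol (dualOf A₂) hmem₂]
    push_cast
    apply Finset.sum_congr rfl
    intro φ _
    rw [ha]
  have hk' : k = δ * (Bc + ((q : ℤ) - 1) * (Ac + Bc - d)) := by
    rw [← hk]
    rcases hδ with rfl | rfl <;> ring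
  -- Bessel on `η ∪ Y`
  have hon1 : ∀ ω : ↥(W₁ ⊔ W₂) →* ℂˣ, classInner (χ ω) (χ ω) = 1 := by
    intro ω
    rw [hχ.orthonormal, if_pos rfl]
  have hon0 : ∀ ω ω' : ↥(W₁ ⊔ W₂) →* ℂˣ, ω ≠ ω' → classInner (χ ω) (χ ω') = 0 := by
    intro ω ω' h
    rw [hχ.orthonormal, if_neg h]
  have hχY : ∀ ω i, classInner (χ ω) (Y i) = 0 := by
    intro ω i
    rw [← Helper78.classInner_conj_symm, hYχ i ω, map_zero]
  have hbes := bessel_on E (Sum.elim (fun ω : ↥(W₁ ⊔ W₂) →* ℂˣ => χ ω) Y)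
    (fun o => by
      cases o with
      | inl ω => exact hon1 ω
      | inr i => exact hY1 i)
    (fun o o' hne => by
      cases o with
      | inl ω =>
        cases o' with
        | inl ω' => exact hon0 ω ω' (fun h => hne (by rw [h]))
        | inr i => exact hχY ω i
      | inr i =>
        cases o' with
        | inl ω' => exact hYχ i ω'
        | inr j => exact hY0 i j (fun h => hne (by rw [h])))
    (Sum.elim (fun ω => ((a ω : ℤ) : ℝ)) (fun _ => ((-((q - 1) * (d - Ac)) : ℤ) : ℝ)))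
    (fun o => by
      cases o with
      | inl ω => simp only [Sum.elim_inl]; rw [ha ω]; push_cast; rfl
      | inr i => simp only [Sum.elim_inr]; rw [hEY i]; push_cast; rfl)
  rw [Fintype.sum_sum_type] at hbes
  simp only [Sum.elim_inl, Sum.elim_inr, Finset.sum_const, Finset.card_univ, nsmul_eq_mul]
    at hbes
  have hsq := sum_sq_coeff hWcomm A₁ A₂ hext hcard' a d Ac Bc hrect ha1 haA haB
  rw [hc1, hc2] at hsq
  have hsqR : ∑ ω : ↥(W₁ ⊔ W₂) →* ℂˣ, ((a ω : ℤ) : ℝ) ^ 2 =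
      ((d ^ 2 + ((q : ℤ) - 1) * Ac ^ 2 + ((p : ℤ) - 1) * Bc ^ 2 +
        ((p : ℤ) - 1) * ((q : ℤ) - 1) * (Ac + Bc - d) ^ 2 : ℤ) : ℝ) := by
    rw [← hsq]
    push_cast
    rfl
  have hnormR : (classInner E E).re = ((d ^ 2 * q + 2 * k : ℤ) : ℝ) := by
    rw [hnorm]
    exact Complex.intCast_re _
  rw [hsqR, hnormR] at hbes
  have hint : d ^ 2 + ((q : ℤ) - 1) * Ac ^ 2 + ((p : ℤ) - 1) * Bc ^ 2 +
      ((p : ℤ) - 1) * ((q : ℤ) - 1) * (Ac + Bc - d) ^ 2 +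
      (Fintype.card κ : ℤ) * (-(((q : ℤ) - 1) * (d - Ac))) ^ 2 ≤ d ^ 2 * q + 2 * k := by
    have h3 : ((d ^ 2 + ((q : ℤ) - 1) * Ac ^ 2 + ((p : ℤ) - 1) * Bc ^ 2 +
      ((p : ℤ) - 1) * ((q : ℤ) - 1) * (Ac + Bc - d) ^ 2 +
      (Fintype.card κ : ℤ) * (-(((q : ℤ) - 1) * (d - Ac))) ^ 2 : ℤ) : ℝ) ≤
        ((d ^ 2 * q + 2 * k : ℤ) : ℝ) := by
      push_cast
      push_cast at hbes
      exact hbes
    exact_mod_cast h3
  have hAc : Ac = d - q * t := by linarith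
  obtain ⟨ht0, hs0⟩ := six_arith (p : ℤ) (q : ℤ) d (Fintype.card κ : ℤ) t s δ
    (by exact_mod_cast hq3) (by exact_mod_cast hp3) hd hcard hδ (by
      rw [hk', hAc, hs] at hint
      have e1 : d - (q : ℤ) * t + q * s - d = q * (s - t) := by ring
      have e2 : d - (d - (q : ℤ) * t) = q * t := by ring
      rw [e1, e2] at hint
      have e3 : (-(((q : ℤ) - 1) * (q * t))) ^ 2 = (((q : ℤ) - 1) * (q * t)) ^ 2 := by ring
      rw [e3] at hint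
      exact hint)
  subst ht0 hs0
  have hA : Ac = d := by linarith
  have hB : Bc = 0 := by linarith
  have hk0 : k = 0 := by
    rw [hk', hA, hB]
    ring
  refine ⟨hA, hB, hk0, ?_⟩
  subst hA hB hk0
  have hnorm' : (classInner E E).re ≤ (Ac : ℝ) ^ 2 * q := by
    rw [hnormR]
    push_cast
    linarith
  exact (anchor_tail W₁ W₂ hW χ hχ p q hq hp E hE hEV Ac he1 heA heB hnorm').2

end Main

end Cfsg.Agent.Lib.Helper64.PF11
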