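import Mathlib
import Cfsg.Agent.Lib.Helper64.PFElevenDefs
import Cfsg.Agent.Lib.Helper51.PFElevenDom
import Cfsg.Agent.Lib.Helper51.PFElevenTau1Mu
import Cfsg.Agent.Lib.Helper9.PFElevenHR
import Cfsg.Agent.Lib.Helper9.PFElevenGalA
import Cfsg.Agent.Lib.Helper64.PFElevenDegQ

/-!
# PROJECT PF, Peterfalvi section 11 (end game): small tools for the two chain assemblies (helper64)
-/

set_option autoImplicit false

namespace Cfsg.Agent.Lib.Helper64.PF11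

open Cfsg Cfsg.Agent.Lib.Helper24.PFCyc Cfsg.Agent.Lib.Helper4.PF Cfsg.Agent.Lib.Helper26
open scoped ComplexConjugate

universe u

variable {G : Type u} [Group G] [Fintype G] {M W₁ U W₂ : Subgroup G} [Fintype M]
  {mu : WChar W₁ W₂ → (↥M → ℂ)} {dl : WChar W₁ W₂ → ℂ} {η : WChar W₁ W₂ → (G → ℂ)}
  {d : ℕ} {δ : ℂ} {n : ℤ}

theorem natCast_smul_eq_zsmul {X : Type*} (c : ℕ) (f : X → ℂ) :
    ((c : ℕ) : ℂ) • f = ((c : ℤ)) • f := by
  ext x
  simp

/-- `c μ₀ - ξ` lies in the domain of the Dade isometry when `ξ(1) = q c` -/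
theorem cmu_sub_mem (F : Frame M W₁ U W₂ mu dl η d δ n) (c : ℕ) (ξ : ↥M → ℂ)
    (hξ : ξ ∈ calS M) (h1 : ξ 1 = ((Nat.card W₁ * c : ℕ) : ℂ)) :
    (((c : ℕ) : ℂ) • muSum mu 1 - ξ) ∈ zspanOn (calS0 M mu) ({1}ᶜ : Set ↥M) := by
  obtain ⟨-, -, hm1, -⟩ := Cfsg.Agent.Lib.Helper51.PF11.calS0_inner F
  refine ⟨?_, ?_⟩
  · rw [natCast_smul_eq_zsmul]
    exact Submodule.sub_mem _
      (Submodule.smul_mem _ _ (Submodule.subset_span (Set.mem_insert _ _)))
      (Submodule.subset_span (Set.mem_insert_of_mem _ hξ))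
  · intro x hx
    have hx1 : x = 1 := by simpa using hx
    rw [hx1]
    show ((c : ℕ) : ℂ) * muSum mu 1 1 - ξ 1 = 0
    rw [hm1, h1]
    push_cast
    ring

/-- `ξ - ξ'` lies in the domain when the degrees agree -/
theorem sub_mem_dom (F : Frame M W₁ U W₂ mu dl η d δ n) (ξ ξ' : ↥M → ℂ)
    (hξ : ξ ∈ calS M) (hξ' : ξ' ∈ calS M) (h1 : ξ 1 = ξ' 1) :
    (ξ - ξ') ∈ zspanOn (calS0 M mu) ({1}ᶜ : Set ↥M) := by
  refine ⟨?_, ?_⟩
  · exact Submodule.sub_mem _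
      (Submodule.subset_span (Set.mem_insert_of_mem _ hξ))
      (Submodule.subset_span (Set.mem_insert_of_mem _ hξ'))
  · intro x hx
    have hx1 : x = 1 := by simpa using hx
    rw [hx1]
    show ξ 1 - ξ' 1 = 0
    rw [h1, sub_self]

/-- the Dade isometry preserves inner products on the domain -/
theorem tau_inner (F : Frame M W₁ U W₂ mu dl η d δ n) (α β : ↥M → ℂ)
    (hα : α ∈ zspanOn (calS0 M mu) ({1}ᶜ : Set ↥M))
    (hβ : β ∈ zspanOn (calS0 M mu) ({1}ᶜ : Set ↥M)) :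
    classInner (tauM M α) (tauM M β) = classInner α β :=
  (Cfsg.Agent.Lib.Helper51.PF11.tau_isometry F).1.2.2.1 α hα β hβ

/-- `⟨c μ₀ - ξ, c' μ₀ - ξ'⟩ = c c' q + ⟨ξ, ξ'⟩` -/
theorem inner_cmu_sub (F : Frame M W₁ U W₂ mu dl η d δ n) (c c' : ℕ) (ξ ξ' : ↥M → ℂ)
    (hξ : ξ ∈ calS M) (hξ' : ξ' ∈ calS M) :
    classInner (((c : ℕ) : ℂ) • muSum mu 1 - ξ) (((c' : ℕ) : ℂ) • muSum mu 1 - ξ') =
      (c : ℂ) * (c' : ℂ) * (Nat.card W₁ : ℂ) + classInner ξ ξ' := by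
  obtain ⟨h0, -, -, h3, -⟩ := Cfsg.Agent.Lib.Helper51.PF11.calS0_inner F
  rw [classInner_sub_left, classInner_sub_right, classInner_sub_right, classInner_smul_left,
    classInner_smul_left, classInner_smul_right, classInner_smul_right, h0, (h3 ξ' hξ').1,
    (h3 ξ hξ).2.1]
  simp only [Complex.conj_natCast]
  ring

/-- `Θ = etaSum η 1` pairs with `X` as the sum of the coefficients -/
theorem inner_etaSum_right (X : G → ℂ) (ω : WChar W₁ W₂) :
    classInner X (etaSum η ω) = ∑ φ ∈ trivSet W₁ W₂ W₂, classInner X (η (φ * ω)) := by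
  unfold etaSum
  rw [classInner_sum_right]

theorem inner_etaSum_left (X : G → ℂ) (ω : WChar W₁ W₂) :
    classInner (etaSum η ω) X = ∑ φ ∈ trivSet W₁ W₂ W₂, classInner (η (φ * ω)) X := by
  unfold etaSum
  rw [classInner_sum_left]

/-- a function orthogonal to all `η ω` is orthogonal to `etaSum η ω` -/
theorem inner_etaSum_of_orth (X : G → ℂ) (hX : ∀ ω : WChar W₁ W₂, classInner X (η ω) = 0)
    (ω : WChar W₁ W₂) : classInner X (etaSum η ω) = 0 ∧ classInner (etaSum η ω) X = 0 := by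
  have h1 : classInner X (etaSum η ω) = 0 := by
    rw [inner_etaSum_right]
    exact Finset.sum_eq_zero (fun φ _ => hX _)
  refine ⟨h1, ?_⟩
  rw [← classInner_conj_symm, h1, map_zero]

/-- `⟨etaSum ψ, etaSum ψ'⟩ = 0` for `ψ ≠ ψ'` both trivial on `W₁` -/
theorem inner_etaSum_ne (F : Frame M W₁ U W₂ mu dl η d δ n) (ψ ψ' : WChar W₁ W₂)
    (hψ : TrivOn W₁ ψ) (hψ' : TrivOn W₁ ψ') (hne : ψ ≠ ψ') :
    classInner (etaSum η ψ) (etaSum η ψ') = 0 := by
  rw [inner_etaSum_left]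
  apply Finset.sum_eq_zero
  intro φ hφ
  rw [inner_etaSum_right]
  apply Finset.sum_eq_zero
  intro φ' hφ'
  rw [F.hη.orthonormal, if_neg]
  intro hc
  -- `φ ψ = φ' ψ'` forces `ψ = ψ'`
  apply hne
  have hφ2 := mem_trivSet.mp hφ
  have hφ'2 := mem_trivSet.mp hφ'
  have hW := F.hP.selfNormalizing
  obtain ⟨-, hext, -, -, -⟩ := ti_setup W₁ W₂ hW
  have h2 : ψ * ψ'⁻¹ = 1 := by
    apply hext
    · intro w hw
      have hw' : (w : G) ∈ W₁ := Subgroup.mem_subgroupOf.mp hw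
      rw [MonoidHom.mul_apply, MonoidHom.inv_apply, hψ w hw', hψ' w hw']
      simp
    · intro w hw
      have hw' : (w : G) ∈ W₂ := Subgroup.mem_subgroupOf.mp hw
      have h3 := DFunLike.congr_fun hc w
      rw [MonoidHom.mul_apply, MonoidHom.mul_apply, hφ2 w hw', hφ'2 w hw', one_mul, one_mul] at h3
      rw [MonoidHom.mul_apply, MonoidHom.inv_apply, h3]
      simp
  exact mul_inv_eq_one.mp h2

end Cfsg.Agent.Lib.Helper64.PF11
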