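import Mathlib
import Cfsg.Agent.Lib.Helper64.PFElevenChainTools
import Cfsg.Agent.Lib.Helper9.PFElevenECoef
import Cfsg.Agent.Lib.Helper39.PFElevenENorm

/-!
# PROJECT PF, Peterfalvi section 11 (end game): the data shared by the two chains (helper64)

`ChainData`: a coherent subset `Z` of `calS M` containing the `μ_ψ`-sums, with its extension `τ₁`,
the degree pattern `ξ(1) = q g a_ξ`, and the generalized character `E` of module [E-CONS] with its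
coefficients `A, B` ([E-COEF]) and its norm constant `k` ([E-NORM]).
-/

set_option autoImplicit false

namespace Cfsg.Agent.Lib.Helper64.PF11

open Cfsg Cfsg.Agent.Lib.Helper24.PFCyc Cfsg.Agent.Lib.Helper4.PF Cfsg.Agent.Lib.Helper26
open scoped ComplexConjugate

universe u

variable {G : Type u} [Group G] [Fintype G] {M W₁ U W₂ : Subgroup G} [Fintype M]
  {mu : WChar W₁ W₂ → (↥M → ℂ)} {dl : WChar W₁ W₂ → ℂ} {η : WChar W₁ W₂ → (G → ℂ)}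
  {d : ℕ} {δ : ℂ} {n : ℤ}

/-- the data shared by the two chains -/
structure ChainData (M W₁ W₂ : Subgroup G) [Fintype M] (mu : WChar W₁ W₂ → (↥M → ℂ))
    (η : WChar W₁ W₂ → (G → ℂ)) (δ : ℂ) (Z : Set (↥M → ℂ)) (τ₁ : (↥M → ℂ) → (G → ℂ)) (g : ℕ)
    (a : (↥M → ℂ) → ℕ) (E : G → ℂ) (A B k : ℤ) : Prop where
  hZ : Z ⊆ calS M
  hμZ : ∀ ψ : WChar W₁ W₂, TrivOn W₁ ψ → ψ ≠ 1 → muSum mu ψ ∈ Z
  hτ₁ : IsLinearIsometryOn (zspan Z) τ₁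
  hext : ∀ α ∈ zspanOn Z ({1}ᶜ : Set ↥M), τ₁ α = tauM M α
  hτ₁μ : ∀ ψ : WChar W₁ W₂, TrivOn W₁ ψ → ψ ≠ 1 → τ₁ (muSum mu ψ) = δ • etaSum η ψ
  hg : 0 < g
  ha : ∀ ξ ∈ Z, ξ 1 = ((Nat.card W₁ * g * a ξ : ℕ) : ℂ)
  gen : IsGeneralizedCharacter G E
  star : ∀ ξ ∈ Z,
    tauM M (((g * a ξ : ℕ) : ℂ) • muSum mu 1 - ξ) = ((a ξ : ℕ) : ℂ) • E - τ₁ ξ
  one : classInner E (fun _ => 1) = (g : ℂ)
  van : ∀ w : ↥(W₁ ⊔ W₂), (w : G) ∉ W₁ → (w : G) ∉ W₂ → E (w : G) = 0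
  coefA : ∀ φ : WChar W₁ W₂, φ ≠ 1 → TrivOn W₂ φ → classInner E (η φ) = (A : ℂ)
  coefB : ∀ ψ : WChar W₁ W₂, ψ ≠ 1 → TrivOn W₁ ψ → classInner E (η ψ) = (B : ℂ)
  norm : classInner E E = ((g : ℂ) ^ 2 * (Nat.card W₁ : ℂ) + 2 * (k : ℂ))
  inner : ∀ ξ ∈ Z, classInner E (τ₁ ξ) = ((a ξ : ℕ) : ℂ) * (k : ℂ)

/-- building `ChainData` from a coherent `Z`, [TAU1-MU], the outcome of [E-CONS], [E-COEF] and
[E-NORM] -/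
theorem chainData_of (F : Frame M W₁ U W₂ mu dl η d δ n) (hp5 : 5 ≤ Nat.card W₂)
    (Z : Set (↥M → ℂ)) (hZ : Z ⊆ calS M)
    (hμZ : ∀ ψ : WChar W₁ W₂, TrivOn W₁ ψ → ψ ≠ 1 → muSum mu ψ ∈ Z)
    (hcoh : IsCoherent Z ({1}ᶜ : Set ↥M) (tauM M))
    (g : ℕ) (hg : 0 < g) (a : (↥M → ℂ) → ℕ)
    (ha : ∀ ξ ∈ Z, ξ 1 = ((Nat.card W₁ * g * a ξ : ℕ) : ℂ))
    (ξ₀ : ↥M → ℂ) (hξ₀ : ξ₀ ∈ Z) (ha₀ : a ξ₀ = 1)
    (hexE : ∀ τ₁ : (↥M → ℂ) → (G → ℂ), IsLinearIsometryOn (zspan Z) τ₁ →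
      (∀ α ∈ zspanOn Z ({1}ᶜ : Set ↥M), τ₁ α = tauM M α) →
      (∀ ψ : WChar W₁ W₂, TrivOn W₁ ψ → ψ ≠ 1 → τ₁ (muSum mu ψ) = δ • etaSum η ψ) →
      ∃ E : G → ℂ, IsGeneralizedCharacter G E ∧
        (∀ ξ ∈ Z,
          tauM M (((g * a ξ : ℕ) : ℂ) • muSum mu 1 - ξ) = ((a ξ : ℕ) : ℂ) • E - τ₁ ξ) ∧
        classInner E (fun _ => 1) = (g : ℂ) ∧
        (∀ w : ↥(W₁ ⊔ W₂), (w : G) ∉ W₁ → (w : G) ∉ W₂ → E (w : G) = 0) ∧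
        (∀ σ : ℂ ≃+* ℂ, (fun x => σ (E x)) = E)) :
    ∃ (τ₁ : (↥M → ℂ) → (G → ℂ)) (E : G → ℂ) (A B k : ℤ),
      ChainData M W₁ W₂ mu η δ Z τ₁ g a E A B k := by
  obtain ⟨-, τ₁, hτ₁, hext⟩ := hcoh
  have hτ₁μ : ∀ ψ : WChar W₁ W₂, TrivOn W₁ ψ → ψ ≠ 1 → τ₁ (muSum mu ψ) = δ • etaSum η ψ :=
    fun ψ hψ hψ1 =>
      Cfsg.Agent.Lib.Helper51.PF11.tau1_muSum F hp5 Z hZ hμZ τ₁ hτ₁ hext ψ hψ hψ1
  obtain ⟨E, hE, hstar, hone, hvan, hσ⟩ := hexE τ₁ hτ₁ hext hτ₁μ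
  obtain ⟨A, B, hA, hB⟩ := Cfsg.Agent.Lib.Helper9.PF11.E_coeff F E hE hσ
  obtain ⟨k, hk1, hk2⟩ := Cfsg.Agent.Lib.Helper39.PF11.E_norm F Z hZ τ₁ hτ₁ g hg a ha ξ₀ hξ₀
    ha₀ E hE hstar
  exact ⟨τ₁, E, A, B, k,
    { hZ := hZ, hμZ := hμZ, hτ₁ := hτ₁, hext := hext, hτ₁μ := hτ₁μ, hg := hg, ha := ha,
      gen := hE, star := hstar, one := hone, van := hvan, coefA := hA, coefB := hB,
      norm := hk1, inner := hk2 }⟩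

section consequences

variable {Z : Set (↥M → ℂ)} {τ₁ : (↥M → ℂ) → (G → ℂ)} {g : ℕ} {a : (↥M → ℂ) → ℕ}
  {E : G → ℂ} {A B k : ℤ}

/-- `δ` is real and `δ² = 1` -/
theorem delta_facts (F : Frame M W₁ U W₂ mu dl η d δ n) : conj δ = δ ∧ δ * δ = 1 := by
  rcases F.hδ with h | h <;> rw [h] <;> simp

/-- the column sums of the coefficients of `E` -/
theorem ChainData.col (C : ChainData M W₁ W₂ mu η δ Z τ₁ g a E A B k)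
    (F : Frame M W₁ U W₂ mu dl η d δ n) (ψ : WChar W₁ W₂) (hψ : TrivOn W₁ ψ) (hψ1 : ψ ≠ 1) :
    ∑ φ ∈ trivSet W₁ W₂ W₂, classInner E (η (φ * ψ)) =
      δ * (((a (muSum mu ψ) : ℕ) : ℂ) * (k : ℂ)) := by
  have h1 := C.inner (muSum mu ψ) (C.hμZ ψ hψ hψ1)
  rw [C.hτ₁μ ψ hψ hψ1, classInner_smul_right, inner_etaSum_right, (delta_facts F).1] at h1
  rw [← h1, ← mul_assoc, (delta_facts F).2, one_mul]

/-- `E` pairs with the trivial character `η 1` as `g` -/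
theorem ChainData.eta_one (C : ChainData M W₁ W₂ mu η δ Z τ₁ g a E A B k)
    (F : Frame M W₁ U W₂ mu dl η d δ n) : classInner E (η 1) = (g : ℂ) := by
  rw [F.hη.map_one]
  exact C.one

/-- the key inner product: `⟨τ(μ₀ - ζ), a_ξ E - τ₁ ξ⟩ = g a_ξ q` for `ζ ∈ calS M` of degree `q`,
`ξ ∈ Z`, `ζ ≠ ξ` -/
theorem ChainData.bridge_inner (C : ChainData M W₁ W₂ mu η δ Z τ₁ g a E A B k)
    (F : Frame M W₁ U W₂ mu dl η d δ n) (ζ : ↥M → ℂ) (hζ : ζ ∈ calS M)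
    (hζ1 : ζ 1 = (Nat.card W₁ : ℂ)) (ξ : ↥M → ℂ) (hξ : ξ ∈ Z) (hne : ζ ≠ ξ) :
    classInner (tauM M (muSum mu 1 - ζ)) (((a ξ : ℕ) : ℂ) • E - τ₁ ξ) =
      ((g * a ξ : ℕ) : ℂ) * (Nat.card W₁ : ℂ) := by
  obtain ⟨-, -, -, -, h5, -⟩ := Cfsg.Agent.Lib.Helper51.PF11.calS0_inner F
  have e1 : muSum mu 1 - ζ = (((1 : ℕ) : ℕ) : ℂ) • muSum mu 1 - ζ := by
    rw [Nat.cast_one, one_smul]
  have hm1 : (muSum mu 1 - ζ) ∈ zspanOn (calS0 M mu) ({1}ᶜ : Set ↥M) := by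
    rw [e1]
    apply cmu_sub_mem F 1 ζ hζ
    rw [hζ1, mul_one]
  have hm2 : (((g * a ξ : ℕ) : ℂ) • muSum mu 1 - ξ) ∈ zspanOn (calS0 M mu) ({1}ᶜ : Set ↥M) := by
    apply cmu_sub_mem F (g * a ξ) ξ (C.hZ hξ)
    rw [C.ha ξ hξ, mul_assoc]
  rw [← C.star ξ hξ, tau_inner F _ _ hm1 hm2, e1, inner_cmu_sub F 1 (g * a ξ) ζ ξ hζ (C.hZ hξ),
    h5 ζ hζ ξ (C.hZ hξ) hne]
  push_cast
  ring

end consequences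

end Cfsg.Agent.Lib.Helper64.PF11
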