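import Mathlib
import Cfsg.Agent.Lib.Helper64.PFElevenFrame
import Cfsg.Agent.Lib.Helper24.PFCycRed
import Cfsg.Agent.Lib.Helper1.PFElevenGalB

/-!
# PROJECT PF, Peterfalvi section 11 (end game): the carrier record `Frame` exists (helper64)

`frame_of`: helper24's coherence-free context `MCtx0` + `MFacts` give a `Frame`.
`exists_frame`: from the type-P data, the Dade hypothesis and `A(M) = M' \ 1`.
-/

set_option autoImplicit false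

namespace Cfsg.Agent.Lib.Helper64.PF11

open Cfsg Cfsg.Agent.Lib.Helper24.PFCyc Cfsg.Agent.Lib.Helper4.PF

universe u

variable {G : Type u} [Group G] [Fintype G] {M W₁ U W₂ : Subgroup G} [Fintype M]
  {mu : WChar W₁ W₂ → (↥M → ℂ)} {dl : WChar W₁ W₂ → ℂ} {η : WChar W₁ W₂ → (G → ℂ)}
  {ζ : ↥M → ℂ}

/-- there is a non-trivial character of `W` trivial on `W₁` -/
theorem exists_psi (hW : IsSelfNormalizingCyclic W₁ W₂) (hp : (Nat.card W₂).Prime) :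
    ∃ ψ : WChar W₁ W₂, TrivOn W₁ ψ ∧ ψ ≠ 1 := by
  have hc := Cfsg.Agent.Lib.Helper1.PF11GalB.card_trivSet_W₁ hW
  have h1 : 1 < (trivSet W₁ W₂ W₁).card := by rw [hc]; exact hp.one_lt
  obtain ⟨ψ, hψ, hne⟩ := Finset.exists_mem_ne h1 (1 : WChar W₁ W₂)
  exact ⟨ψ, mem_trivSet.mp hψ, hne⟩

/-- helper24's context gives a `Frame` -/
theorem frame_of (h : MCtx0 M W₁ U W₂ mu dl η ζ) (hf : MFacts M W₁ W₂ mu dl η)
    (hq : (Nat.card W₁).Prime) (hoddG : Odd (Nat.card G)) :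
    ∃ (d : ℕ) (δ : ℂ) (n : ℤ), Frame M W₁ U W₂ mu dl η d δ n := by
  obtain ⟨ψ₀, hψ₀, hψ₀1⟩ := exists_psi h.hW h.hp
  obtain ⟨d, hd, hdq, n, hn⟩ := hf.mu_deg ψ₀ hψ₀ hψ₀1
  refine ⟨d, dl ψ₀, n,
    { hP := h.hP, hodd := hoddG, hq := hq, hp := h.hp, hD := h.hD, md := h.md, hη := h.hη,
      hA := h.hA, hA0 := hf.litA0, cover := hf.cover, mu_one := hf.mu_one,
      dl_one := fun φ hφ => (hf.mu_phi φ hφ).1, mu_res := hf.mu_res, mu_ind := hf.mu_ind,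
      calS_cases := hf.calS_cases, muSum_mem := hf.muSum_mem, mu_gal := hf.mu_gal,
      dl_psi := fun ψ hψ hψ1 => (hf.mu_const ψ ψ₀ hψ hψ₀ hψ1 hψ₀1).1,
      deg_psi := fun ψ hψ hψ1 => by rw [(hf.mu_const ψ ψ₀ hψ hψ₀ hψ1 hψ₀1).2, hd],
      hδ := h.md.sign ψ₀, hdq := hdq, hdn := hn,
      rect := ?_, muSum_sub := ?_ }⟩
  · intro φ ψ hφ hψ hφ1 hψ1
    have := hf.rect φ ψ hφ hψ hφ1 hψ1
    rw [(hf.mu_const ψ ψ₀ hψ hψ₀ hψ1 hψ₀1).1] at this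
    exact this
  · intro ψ ψ' hψ hψ' hψ1 hψ'1 hne
    have := (hf.musub ψ ψ' hψ hψ' hψ1 hψ'1 hne).2
    rw [(hf.mu_const ψ ψ₀ hψ hψ₀ hψ1 hψ₀1).1] at this
    exact this

/-- the `Frame` from the type-P data, the Dade hypothesis and `A(M) = M' \ 1` -/
theorem exists_frame (hP : IsTypePWith M W₁ U W₂) (hoddG : Odd (Nat.card G))
    (hsol : Group.IsSolvable ↥M) (hq : (Nat.card W₁).Prime) (hp : (Nat.card W₂).Prime)
    (hA : litA M = ((⁅M, M⁆ : Subgroup G) : Set G) \ {1})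
    (hD : DadeHypothesis (litA0 M) M (supportR M)) :
    ∃ (mu : WChar W₁ W₂ → (↥M → ℂ)) (dl : WChar W₁ W₂ → ℂ) (η : WChar W₁ W₂ → (G → ℂ))
      (ζ : ↥M → ℂ) (d : ℕ) (δ : ℂ) (n : ℤ),
      Frame M W₁ U W₂ mu dl η d δ n ∧ MCtx0 M W₁ U W₂ mu dl η ζ ∧ MFacts M W₁ W₂ mu dl η := by
  have hoddM : Odd (Nat.card M) := Odd.of_dvd_nat hoddG (Subgroup.card_subgroup_dvd_card M)
  obtain ⟨mu, dl, η, ζ, h, hf⟩ := exists_mctx0 hP hoddM hsol hp hA hD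
  obtain ⟨d, δ, n, F⟩ := frame_of h hf hq hoddG
  exact ⟨mu, dl, η, ζ, d, δ, n, F, h, hf⟩

end Cfsg.Agent.Lib.Helper64.PF11
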