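import Mathlib
import Cfsg.Agent.Lib.Helper64.PFElevenChainData
import Cfsg.Agent.Lib.Helper64.PFElevenAnchorK
import Cfsg.Agent.Lib.Helper1.PFElevenF7
import Cfsg.Agent.Lib.Helper75.PFElevenXBridge
import Cfsg.Agent.Lib.Helper64.PFElevenFrameOf

/-!
# PROJECT PF, Peterfalvi section 11 (end game): chain B (`q < p`) (helper64)

helper4's argument (6'): for `M` of Type III or IV with `q = |W₁| < p = |W₂|` the set of members of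
`calS M` of degree `q d` is coherent, `E = τ(d μ₀ - μ_ψ) + τ₁ μ_ψ` is `d Θ` (`anchor_k`), and this
gives the hypothesis `hr` of helper24's `b0` for the bridge `χ` of any member `ζ` of degree `q`.
-/

set_option autoImplicit false

namespace Cfsg.Agent.Lib.Helper64.PF11

open Cfsg Cfsg.Agent.Lib.Helper24.PFCyc Cfsg.Agent.Lib.Helper4.PF Cfsg.Agent.Lib.Helper26
open scoped ComplexConjugate

universe u

variable {G : Type u} [Group G] [Fintype G] {M W₁ U W₂ : Subgroup G} [Fintype M]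
  {mu : WChar W₁ W₂ → (↥M → ℂ)} {dl : WChar W₁ W₂ → ℂ} {η : WChar W₁ W₂ → (G → ℂ)}
  {d : ℕ} {δ : ℂ} {n : ℤ}
  {Z : Set (↥M → ℂ)} {τ₁ : (↥M → ℂ) → (G → ℂ)} {g : ℕ} {a : (↥M → ℂ) → ℕ}
  {E : G → ℂ} {A B k : ℤ}

/-- `1 ∈ trivSet` and the sum of the coefficients of `E` over the `φ`'s -/
theorem ChainData.row (C : ChainData M W₁ W₂ mu η δ Z τ₁ g a E A B k)
    (F : Frame M W₁ U W₂ mu dl η d δ n) :
    ∑ φ ∈ trivSet W₁ W₂ W₂, classInner E (η φ) =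
      (g : ℂ) + ((Nat.card W₁ : ℂ) - 1) * (A : ℂ) := by
  classical
  have h1 : (1 : WChar W₁ W₂) ∈ trivSet W₁ W₂ W₂ := mem_trivSet.mpr (trivOn_one W₂)
  rw [← Finset.add_sum_erase _ _ h1, C.eta_one F]
  congr 1
  have h2 : ∀ φ ∈ (trivSet W₁ W₂ W₂).erase 1, classInner E (η φ) = (A : ℂ) := by
    intro φ hφ
    obtain ⟨hφ1, hφ2⟩ := Finset.mem_erase.mp hφ
    exact C.coefA φ hφ1 (mem_trivSet.mp hφ2)
  rw [Finset.sum_congr rfl h2, Finset.sum_const, Finset.card_erase_of_mem h1,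
    Cfsg.Agent.Lib.Helper51.PFCyc.card_trivSet_W₂ F.hP.selfNormalizing, nsmul_eq_mul]
  have hq : 1 ≤ Nat.card W₁ := F.hq.one_lt.le
  rw [Nat.cast_sub hq]
  simp

/-- `⟨Θ, X⟩` is the conjugate of the row sum -/
theorem inner_theta_left (X : G → ℂ) :
    classInner (etaSum η 1) X = conj (∑ φ ∈ trivSet W₁ W₂ W₂, classInner X (η φ)) := by
  rw [← classInner_conj_symm, inner_etaSum_right]
  congr 1
  apply Finset.sum_congr rfl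
  intro φ _
  rw [mul_one φ]

/-- `⟨Θ, Θ⟩ = q`, `⟨Θ, etaSum ψ⟩ = 0` -/
theorem theta_facts (F : Frame M W₁ U W₂ mu dl η d δ n) :
    classInner (etaSum η 1) (etaSum η 1) = (Nat.card W₁ : ℂ) ∧
    ∀ ψ : WChar W₁ W₂, TrivOn W₁ ψ → ψ ≠ 1 →
      classInner (etaSum η 1) (etaSum η ψ) = 0 ∧ classInner (etaSum η ψ) (etaSum η 1) = 0 := by
  refine ⟨Cfsg.Agent.Lib.Helper51.PF11.etaSum_norm F 1, ?_⟩
  intro ψ hψ hψ1
  exact ⟨inner_etaSum_ne F 1 ψ (trivOn_one W₁) hψ (Ne.symm hψ1),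
    inner_etaSum_ne F ψ 1 hψ (trivOn_one W₁) hψ1⟩

/-- `Γ = τ(μ₀ - ζ) = Θ - χ` pairs with `Θ` as `q` -/
theorem bridge_theta (F : Frame M W₁ U W₂ mu dl η d δ n) (Γ χ : G → ℂ)
    (hχη : ∀ ω, classInner χ (η ω) = 0) (hb : Γ = etaSum η 1 - χ) :
    classInner Γ (etaSum η 1) = (Nat.card W₁ : ℂ) := by
  rw [hb, classInner_sub_left, (theta_facts F).1, (inner_etaSum_of_orth χ hχη 1).1, sub_zero]

/-- two bridges are orthogonal -/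
theorem bridge_orth (F : Frame M W₁ U W₂ mu dl η d δ n) (ζ ζ' : ↥M → ℂ)
    (hζ : ζ ∈ calS M) (hζ' : ζ' ∈ calS M) (hζ1 : ζ 1 = (Nat.card W₁ : ℂ))
    (hζ'1 : ζ' 1 = (Nat.card W₁ : ℂ)) (hne : ζ ≠ ζ') (χ χ' : G → ℂ)
    (hχη : ∀ ω, classInner χ (η ω) = 0) (hχ'η : ∀ ω, classInner χ' (η ω) = 0)
    (hb : tauM M (muSum mu 1 - ζ) = etaSum η 1 - χ)
    (hb' : tauM M (muSum mu 1 - ζ') = etaSum η 1 - χ') : classInner χ χ' = 0 := by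
  obtain ⟨-, -, -, -, h5, -⟩ := Cfsg.Agent.Lib.Helper51.PF11.calS0_inner F
  have e1 : ∀ ξ : ↥M → ℂ, muSum mu 1 - ξ = (((1 : ℕ) : ℕ) : ℂ) • muSum mu 1 - ξ := by
    intro ξ
    rw [Nat.cast_one, one_smul]
  have hm : ∀ ξ : ↥M → ℂ, ξ ∈ calS M → ξ 1 = (Nat.card W₁ : ℂ) →
      (muSum mu 1 - ξ) ∈ zspanOn (calS0 M mu) ({1}ᶜ : Set ↥M) := by
    intro ξ hξ hξ1
    rw [e1]
    apply cmu_sub_mem F 1 ξ hξ
    rw [hξ1, mul_one]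
  have h1 : classInner (tauM M (muSum mu 1 - ζ)) (tauM M (muSum mu 1 - ζ')) =
      (Nat.card W₁ : ℂ) := by
    rw [tau_inner F _ _ (hm ζ hζ hζ1) (hm ζ' hζ' hζ'1), e1 ζ, e1 ζ',
      inner_cmu_sub F 1 1 ζ ζ' hζ hζ', h5 ζ hζ ζ' hζ' hne]
    simp
  have h2 := bridge_theta F _ χ hχη hb
  have hχ : χ = etaSum η 1 - tauM M (muSum mu 1 - ζ) := by rw [hb]; abel
  have hχ' : χ' = etaSum η 1 - tauM M (muSum mu 1 - ζ') := by rw [hb']; abel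
  have h3 : classInner (etaSum η 1) χ' = 0 := (inner_etaSum_of_orth χ' hχ'η 1).2
  calc classInner χ χ' = classInner (etaSum η 1 - tauM M (muSum mu 1 - ζ)) χ' := by rw [← hχ]
    _ = - classInner (tauM M (muSum mu 1 - ζ)) χ' := by
        rw [classInner_sub_left, h3, zero_sub]
    _ = - classInner (tauM M (muSum mu 1 - ζ)) (etaSum η 1 - tauM M (muSum mu 1 - ζ')) := by
        rw [← hχ']
    _ = 0 := by rw [classInner_sub_right, h2, h1, sub_self, neg_zero]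

/-- a member of degree `q` is not a `μ_ψ`-sum -/
theorem ne_muSum_of_deg (F : Frame M W₁ U W₂ mu dl η d δ n) (ζ : ↥M → ℂ)
    (hζ1 : ζ 1 = (Nat.card W₁ : ℂ)) (ψ : WChar W₁ W₂) (hψ : TrivOn W₁ ψ) (hψ1 : ψ ≠ 1) :
    ζ ≠ muSum mu ψ := by
  obtain ⟨-, -, -, -, -, -, h7⟩ := Cfsg.Agent.Lib.Helper51.PF11.calS0_inner F
  intro h
  have h1 := (h7 ψ hψ hψ1).2
  rw [← h, hζ1] at h1
  have h2 : Nat.card W₁ = Nat.card W₁ * d := by exact_mod_cast h1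
  have hq := F.hq.two_le
  have hd := F.hdq
  have h3 : Nat.card W₁ * 1 = Nat.card W₁ * d := by rw [mul_one]; exact h2
  have h4 := Nat.eq_of_mul_eq_mul_left (by omega) h3
  omega

/-- the pairing of a bridge with `E` -/
theorem ChainData.bridge_E (C : ChainData M W₁ W₂ mu η δ Z τ₁ g a E A B k)
    (F : Frame M W₁ U W₂ mu dl η d δ n) (ζ : ↥M → ℂ) (hζ : ζ ∈ calS M)
    (hζ1 : ζ 1 = (Nat.card W₁ : ℂ)) (χ : G → ℂ) (hχη : ∀ ω, classInner χ (η ω) = 0)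
    (hb : tauM M (muSum mu 1 - ζ) = etaSum η 1 - χ)
    (ψ₀ : WChar W₁ W₂) (hψ₀ : TrivOn W₁ ψ₀) (hψ₀1 : ψ₀ ≠ 1) (ha1 : a (muSum mu ψ₀) = 1) :
    classInner E χ = -(((Nat.card W₁ : ℂ) - 1) * ((g : ℂ) - (A : ℂ))) := by
  have h := C.bridge_inner F ζ hζ hζ1 (muSum mu ψ₀) (C.hμZ ψ₀ hψ₀ hψ₀1)
    (ne_muSum_of_deg F ζ hζ1 ψ₀ hψ₀ hψ₀1)
  rw [ha1, Nat.cast_one, one_smul, mul_one, C.hτ₁μ ψ₀ hψ₀ hψ₀1, hb, classInner_sub_left,
    classInner_sub_right, classInner_sub_right, classInner_smul_right, classInner_smul_right,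
    ((theta_facts F).2 ψ₀ hψ₀ hψ₀1).1, (inner_etaSum_of_orth χ hχη ψ₀).1, inner_theta_left,
    C.row F] at h
  have h2 : classInner χ E = (g : ℂ) + ((Nat.card W₁ : ℂ) - 1) * (A : ℂ)
      - (g : ℂ) * (Nat.card W₁ : ℂ) := by
    have h3 : conj ((g : ℂ) + ((Nat.card W₁ : ℂ) - 1) * (A : ℂ)) =
        (g : ℂ) + ((Nat.card W₁ : ℂ) - 1) * (A : ℂ) := by
      simp
    rw [h3] at h
    linear_combination -h
  rw [← classInner_conj_symm, h2]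
  simp only [map_sub, map_add, map_mul, Complex.conj_natCast, map_intCast, map_one]
  ring

open Classical in
/-- `⟨Θ, η ω⟩` -/
theorem inner_theta_eta (F : Frame M W₁ U W₂ mu dl η d δ n) (ω : WChar W₁ W₂) :
    classInner (etaSum η 1) (η ω) = if TrivOn W₂ ω then 1 else 0 := by
  rw [inner_etaSum_left]
  by_cases h : TrivOn W₂ ω
  · rw [if_pos h, Finset.sum_eq_single_of_mem ω (mem_trivSet.mpr h)]
    · rw [mul_one ω, F.hη.orthonormal, if_pos rfl]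
    · intro φ _ hne
      rw [mul_one φ, F.hη.orthonormal, if_neg hne]
  · rw [if_neg h]
    apply Finset.sum_eq_zero
    intro φ hφ
    rw [mul_one φ, F.hη.orthonormal, if_neg]
    rintro rfl
    exact h (mem_trivSet.mp hφ)

/-- a non-trivial `ψ` trivial on `W₁` is not trivial on `W₂` -/
theorem not_trivOn_W₂ (F : Frame M W₁ U W₂ mu dl η d δ n) (ψ : WChar W₁ W₂) (hψ : TrivOn W₁ ψ)
    (hψ1 : ψ ≠ 1) : ¬ TrivOn W₂ ψ := by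
  intro h
  obtain ⟨-, hext, -, -, -⟩ := ti_setup W₁ W₂ F.hP.selfNormalizing
  exact hψ1 (hext ψ (fun w hw => hψ w (Subgroup.mem_subgroupOf.mp hw))
    (fun w hw => h w (Subgroup.mem_subgroupOf.mp hw)))

/-- [F7] gives the divisibilities `q ∣ d - A`, `q ∣ B` -/
theorem ChainData.f7_dvd (C : ChainData M W₁ W₂ mu η δ Z τ₁ d a E A B k)
    (F : Frame M W₁ U W₂ mu dl η d δ n) (ζ : ↥M → ℂ) (hζ : ζ ∈ calS M)
    (hζ1 : ζ 1 = (Nat.card W₁ : ℂ)) (χ : G → ℂ) (hχη : ∀ ω, classInner χ (η ω) = 0)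
    (hb : tauM M (muSum mu 1 - ζ) = etaSum η 1 - χ)
    (ψ₀ : WChar W₁ W₂) (hψ₀ : TrivOn W₁ ψ₀) (hψ₀1 : ψ₀ ≠ 1) (ha1 : a (muSum mu ψ₀) = 1)
    (φ₀ : WChar W₁ W₂) (hφ₀ : TrivOn W₂ φ₀) (hφ₀1 : φ₀ ≠ 1) :
    ∃ t s : ℤ, (d : ℤ) - A = (Nat.card W₁ : ℤ) * t ∧ B = (Nat.card W₁ : ℤ) * s := by
  obtain ⟨R, hR, hqR⟩ := Cfsg.Agent.Lib.Helper1.PF11F7.f7 F ζ hζ hζ1 ψ₀ hψ₀ hψ₀1
  have hst := C.star (muSum mu ψ₀) (C.hμZ ψ₀ hψ₀ hψ₀1)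
  rw [ha1, mul_one, Nat.cast_one, one_smul, C.hτ₁μ ψ₀ hψ₀ hψ₀1] at hst
  rw [hst, hb] at hqR
  have hqR' : (Nat.card W₁ : ℂ) • R = (d : ℂ) • etaSum η 1 - E - ((d : ℂ) - δ) • χ := by
    rw [hqR]
    abel_nf
  obtain ⟨t, ht⟩ := Cfsg.Agent.Lib.Helper25.PFCyc.eta_inner_int η F.hη R hR φ₀
  obtain ⟨s, hs⟩ := Cfsg.Agent.Lib.Helper25.PFCyc.eta_inner_int η F.hη R hR ψ₀
  refine ⟨t, -s, ?_, ?_⟩
  · have h1 : classInner ((Nat.card W₁ : ℂ) • R) (η φ₀) =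
        classInner ((d : ℂ) • etaSum η 1 - E - ((d : ℂ) - δ) • χ) (η φ₀) := by rw [hqR']
    rw [classInner_smul_left, ht, classInner_sub_left, classInner_sub_left,
      classInner_smul_left, classInner_smul_left, inner_theta_eta F φ₀, if_pos hφ₀,
      C.coefA φ₀ hφ₀1 hφ₀, hχη φ₀] at h1
    have h2 : ((Nat.card W₁ : ℤ) : ℂ) * (t : ℂ) = ((d : ℤ) : ℂ) - (A : ℂ) := by
      push_cast
      rw [h1]
      ring
    have h3 : ((Nat.card W₁ : ℤ) * t : ℤ) = (d : ℤ) - A := by exact_mod_cast h2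
    exact h3.symm
  · have h1 : classInner ((Nat.card W₁ : ℂ) • R) (η ψ₀) =
        classInner ((d : ℂ) • etaSum η 1 - E - ((d : ℂ) - δ) • χ) (η ψ₀) := by rw [hqR']
    rw [classInner_smul_left, hs, classInner_sub_left, classInner_sub_left,
      classInner_smul_left, classInner_smul_left, inner_theta_eta F ψ₀,
      if_neg (not_trivOn_W₂ F ψ₀ hψ₀ hψ₀1), C.coefB ψ₀ hψ₀1 hψ₀, hχη ψ₀] at h1
    have h2 : (B : ℂ) = ((Nat.card W₁ : ℤ) : ℂ) * ((-s : ℤ) : ℂ) := by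
      push_cast
      linear_combination h1
    exact_mod_cast h2

/-- there is a non-trivial character of `W` trivial on `W₂` -/
theorem exists_phi (hW : IsSelfNormalizingCyclic W₁ W₂) (hq : (Nat.card W₁).Prime) :
    ∃ φ : WChar W₁ W₂, TrivOn W₂ φ ∧ φ ≠ 1 := by
  have hc := Cfsg.Agent.Lib.Helper51.PFCyc.card_trivSet_W₂ hW
  have h1 : 1 < (trivSet W₁ W₂ W₂).card := by rw [hc]; exact hq.one_lt
  obtain ⟨φ, hφ, hne⟩ := Finset.exists_mem_ne h1 (1 : WChar W₁ W₂)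
  exact ⟨φ, mem_trivSet.mp hφ, hne⟩

/-- an odd prime is at least `3` -/
theorem three_le_of_odd_prime {r m : ℕ} (hr : r.Prime) (hrm : r ∣ m) (hm : Odd m) : 3 ≤ r := by
  have h2 : r ≠ 2 := by
    rintro rfl
    exact (Nat.not_even_iff_odd.mpr hm) (even_iff_two_dvd.mpr hrm)
  have := hr.two_le
  omega

/-- **Chain B**: for `q < p` the anchor `E = d Θ` holds and every bridge satisfies `hr`. -/
theorem chainB (F : Frame M W₁ U W₂ mu dl η d δ n) (hlt : Nat.card W₁ < Nat.card W₂)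
    (C : ChainData M W₁ W₂ mu η δ Z τ₁ d a E A B k)
    (ha1 : ∀ ψ : WChar W₁ W₂, TrivOn W₁ ψ → ψ ≠ 1 → a (muSum mu ψ) = 1)
    (X : Finset (↥M → ℂ)) (hX : ∀ ζ ∈ X, ζ ∈ calS M ∧ ζ 1 = (Nat.card W₁ : ℂ))
    (hcard : d ≤ Nat.card W₁ * X.card + 1) :
    ∃ (ζ : ↥M → ℂ) (χ : G → ℂ), ζ ∈ calS M ∧ ζ 1 = (Nat.card W₁ : ℂ) ∧
      IsGeneralizedCharacter G χ ∧ classInner χ χ = 1 ∧ (∀ ω, classInner χ (η ω) = 0) ∧
      tauM M (muSum mu 1 - ζ) = etaSum η 1 - χ ∧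
      ∀ ψ : WChar W₁ W₂, TrivOn W₁ ψ → ψ ≠ 1 →
        classInner χ (tauM M ((d : ℂ) • ζ - muSum mu ψ)) = (d : ℂ) := by
  classical
  have hq3 : 3 ≤ Nat.card W₁ :=
    three_le_of_odd_prime F.hq (Subgroup.card_subgroup_dvd_card W₁) F.hodd
  have hp3 : 3 ≤ Nat.card W₂ := by omega
  obtain ⟨ψ₀, hψ₀, hψ₀1⟩ := exists_psi F.hP.selfNormalizing F.hp
  obtain ⟨φ₀, hφ₀, hφ₀1⟩ := exists_phi F.hP.selfNormalizing F.hq
  have hdq := F.hdq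
  -- `X` is non-empty
  have hXne : X.Nonempty := by
    by_contra h
    rw [Finset.not_nonempty_iff_eq_empty] at h
    rw [h] at hcard
    simp at hcard
    omega
  obtain ⟨ζ₁, hζ₁⟩ := hXne
  -- the bridges
  have hbr : ∀ ζ : ↥X, ∃ χ : G → ℂ, IsGeneralizedCharacter G χ ∧ classInner χ χ = 1 ∧
      (∀ ω, classInner χ (η ω) = 0) ∧ tauM M (muSum mu 1 - (ζ : ↥M → ℂ)) = etaSum η 1 - χ :=
    fun ζ => Cfsg.Agent.Lib.Helper75.PF11X.bridge0_of_lt F hlt ζ (hX ζ ζ.2).1 (hX ζ ζ.2).2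
  choose Y hYgen hY1 hYη hYb using hbr
  -- the divisibilities
  obtain ⟨t, s, ht, hs⟩ := C.f7_dvd F ζ₁ (hX ζ₁ hζ₁).1 (hX ζ₁ hζ₁).2 (Y ⟨ζ₁, hζ₁⟩) (hYη _)
    (hYb ⟨ζ₁, hζ₁⟩) ψ₀ hψ₀ hψ₀1 (ha1 ψ₀ hψ₀ hψ₀1) φ₀ hφ₀ hφ₀1
  -- the sign as an integer
  obtain ⟨δ', hδ', hδ'c⟩ : ∃ δ' : ℤ, (δ' = 1 ∨ δ' = -1) ∧ (δ' : ℂ) = δ := by
    rcases F.hδ with h | h
    · exact ⟨1, Or.inl rfl, by rw [h]; simp⟩
    · exact ⟨-1, Or.inr rfl, by rw [h]; simp⟩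
  have hStriv : ∀ S : Finset (↥(W₁ ⊔ W₂) →* ℂˣ),
      (∀ φ, φ ∈ S ↔ ∀ w : ↥(W₁ ⊔ W₂), (w : G) ∈ W₂ → φ w = 1) → S = trivSet W₁ W₂ W₂ := by
    intro S hS
    ext φ
    rw [hS φ, mem_trivSet]
    rfl
  have key := anchor_k W₁ W₂ F.hP.selfNormalizing η F.hη (Nat.card W₂) (Nat.card W₁) rfl rfl
    hp3 hq3 E (Cfsg.Agent.Lib.Helper25.dgen_isClassFunction C.gen) C.van (d : ℤ) A B k δ' t s
    (by omega) hδ'
    (by rw [C.eta_one F]; simp)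
    (fun φ h1 h2 => C.coefA φ h1 h2) (fun ψ h1 h2 => C.coefB ψ h1 h2) ψ₀ hψ₀1 hψ₀
    (by
      intro S hS
      rw [hStriv S hS, C.col F ψ₀ hψ₀ hψ₀1, ha1 ψ₀ hψ₀ hψ₀1, Nat.cast_one, one_mul]
      push_cast
      rw [hδ'c])
    (by rw [C.norm]; push_cast; ring)
    ht hs Y hY1
    (by
      intro i j hij
      have hne : (i : ↥M → ℂ) ≠ (j : ↥M → ℂ) := fun h => hij (Subtype.ext h)
      exact bridge_orth F i j (hX i i.2).1 (hX j j.2).1 (hX i i.2).2 (hX j j.2).2 hne (Y i) (Y j)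
        (hYη i) (hYη j) (hYb i) (hYb j))
    hYη
    (by
      intro i
      rw [C.bridge_E F i (hX i i.2).1 (hX i i.2).2 (Y i) (hYη i) (hYb i) ψ₀ hψ₀ hψ₀1
        (ha1 ψ₀ hψ₀ hψ₀1)]
      push_cast
      ring)
    (by
      rw [Fintype.card_coe]
      exact_mod_cast hcard)
  obtain ⟨hA, hB, hk, hEeq⟩ := key
  have hE : E = (d : ℂ) • etaSum η 1 := by
    have h := hEeq (trivSet W₁ W₂ W₂) (fun φ => by rw [mem_trivSet]; rfl)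
    rw [h]
    unfold etaSum
    have h2 : ∀ φ ∈ trivSet W₁ W₂ W₂, η φ = η (φ * 1) := fun φ _ => by rw [mul_one φ]
    rw [Finset.sum_congr rfl h2]
    simp
  -- the anchor
  have hanchor : ∀ ψ : WChar W₁ W₂, TrivOn W₁ ψ → ψ ≠ 1 →
      tauM M ((d : ℂ) • muSum mu 1 - muSum mu ψ) = (d : ℂ) • etaSum η 1 - δ • etaSum η ψ := by
    intro ψ hψ hψ1
    have hst := C.star (muSum mu ψ) (C.hμZ ψ hψ hψ1)
    rw [ha1 ψ hψ hψ1, mul_one, Nat.cast_one, one_smul, C.hτ₁μ ψ hψ hψ1, hE] at hst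
    exact hst
  exact ⟨ζ₁, Y ⟨ζ₁, hζ₁⟩, (hX ζ₁ hζ₁).1, (hX ζ₁ hζ₁).2, hYgen _, hY1 _, hYη _, hYb ⟨ζ₁, hζ₁⟩,
    fun ψ hψ hψ1 => Cfsg.Agent.Lib.Helper9.PF11.hr_of_anchor F ζ₁ (Y ⟨ζ₁, hζ₁⟩) (hY1 _) (hYη _)
      (hYb ⟨ζ₁, hζ₁⟩) ψ hψ hψ1 (hanchor ψ hψ hψ1)⟩

end Cfsg.Agent.Lib.Helper64.PF11
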