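import Mathlib
import Cfsg.Agent.Lib.Helper64.PFElevenChainB
import Cfsg.Agent.Lib.Helper58.PFNineCoh
import Cfsg.Agent.Lib.Helper51.PFTenSubcohW

/-!
# PROJECT PF, Peterfalvi section 11 (end game): chain B, the coherent set `Z_d` (helper64)

`Zd M W₁ d` = the members of `calS M` of degree `q d` (it contains the `μ_ψ`-sums); it is coherent
by S1517.  `chainB_final` = chain B with the outcome of module [E-CONS] as a hypothesis.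
-/

set_option autoImplicit false

namespace Cfsg.Agent.Lib.Helper64.PF11

open Cfsg Cfsg.Agent.Lib.Helper24.PFCyc Cfsg.Agent.Lib.Helper4.PF Cfsg.Agent.Lib.Helper26
open scoped ComplexConjugate

universe u

variable {G : Type u} [Group G] [Fintype G] {M W₁ U W₂ : Subgroup G} [Fintype M]
  {mu : WChar W₁ W₂ → (↥M → ℂ)} {dl : WChar W₁ W₂ → ℂ} {η : WChar W₁ W₂ → (G → ℂ)}
  {d : ℕ} {δ : ℂ} {n : ℤ}

/-- the members of `calS M` of degree `q d` -/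
def Zd (M W₁ : Subgroup G) [Fintype M] (d : ℕ) : Set (↥M → ℂ) :=
  {ξ | ξ ∈ calS M ∧ ξ 1 = ((Nat.card W₁ * d : ℕ) : ℂ)}

theorem Zd_sub (M W₁ : Subgroup G) [Fintype M] (d : ℕ) : Zd M W₁ d ⊆ calS M := fun _ h => h.1

theorem muSum_mem_Zd (F : Frame M W₁ U W₂ mu dl η d δ n) (ψ : WChar W₁ W₂) (hψ : TrivOn W₁ ψ)
    (hψ1 : ψ ≠ 1) : muSum mu ψ ∈ Zd M W₁ d := by
  obtain ⟨-, -, -, -, -, -, h7⟩ := Cfsg.Agent.Lib.Helper51.PF11.calS0_inner F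
  exact ⟨F.muSum_mem ψ hψ hψ1, (h7 ψ hψ hψ1).2⟩

/-- `Z_d` is coherent (S1517) -/
theorem Zd_coherent (F : Frame M W₁ U W₂ mu dl η d δ n) (R : (↥M → ℂ) → Finset (G → ℂ))
    (hS : IsCoherenceSystem (calS M) (tauM M) R) :
    IsCoherent (Zd M W₁ d) ({1}ᶜ : Set ↥M) (tauM M) := by
  obtain ⟨ψ₀, hψ₀, hψ₀1⟩ := exists_psi F.hP.selfNormalizing F.hp
  have hS' : IsCoherenceSystem (Zd M W₁ d) (tauM M) R := by
    refine Cfsg.Agent.Lib.Helper58.PF9.coherenceSystem_subset hS (Zd_sub M W₁ d)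
      ⟨_, muSum_mem_Zd F ψ₀ hψ₀ hψ₀1⟩ ?_
    intro ξ hξ
    refine ⟨hS.conj_mem ξ hξ.1, ?_⟩
    show (starRingEnd ℂ) (ξ 1) = _
    rw [hξ.2, Complex.conj_natCast]
  exact Cfsg.Agent.Lib.Helper58.PF9.coherent_of_uniform hS' _ (fun φ hφ => hφ.2)

/-- **Chain B**, with the outcome of [E-CONS] as a hypothesis. -/
theorem chainB_final (F : Frame M W₁ U W₂ mu dl η d δ n) (hlt : Nat.card W₁ < Nat.card W₂)
    (hexE : ∀ τ₁ : (↥M → ℂ) → (G → ℂ), IsLinearIsometryOn (zspan (Zd M W₁ d)) τ₁ →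
      (∀ α ∈ zspanOn (Zd M W₁ d) ({1}ᶜ : Set ↥M), τ₁ α = tauM M α) →
      (∀ ψ : WChar W₁ W₂, TrivOn W₁ ψ → ψ ≠ 1 → τ₁ (muSum mu ψ) = δ • etaSum η ψ) →
      ∃ E : G → ℂ, IsGeneralizedCharacter G E ∧
        (∀ ξ ∈ Zd M W₁ d,
          tauM M (((d * (fun _ : ↥M → ℂ => 1) ξ : ℕ) : ℂ) • muSum mu 1 - ξ) =
            (((fun _ : ↥M → ℂ => 1) ξ : ℕ) : ℂ) • E - τ₁ ξ) ∧
        classInner E (fun _ => 1) = (d : ℂ) ∧
        (∀ w : ↥(W₁ ⊔ W₂), (w : G) ∉ W₁ → (w : G) ∉ W₂ → E (w : G) = 0) ∧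
        (∀ σ : ℂ ≃+* ℂ, (fun x => σ (E x)) = E))
    (X : Finset (↥M → ℂ)) (hX : ∀ ζ ∈ X, ζ ∈ calS M ∧ ζ 1 = (Nat.card W₁ : ℂ))
    (hcard : d ≤ Nat.card W₁ * X.card + 1) :
    ∃ (ζ : ↥M → ℂ) (χ : G → ℂ), ζ ∈ calS M ∧ ζ 1 = (Nat.card W₁ : ℂ) ∧
      IsGeneralizedCharacter G χ ∧ classInner χ χ = 1 ∧ (∀ ω, classInner χ (η ω) = 0) ∧
      tauM M (muSum mu 1 - ζ) = etaSum η 1 - χ ∧
      ∀ ψ : WChar W₁ W₂, TrivOn W₁ ψ → ψ ≠ 1 →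
        classInner χ (tauM M ((d : ℂ) • ζ - muSum mu ψ)) = (d : ℂ) := by
  obtain ⟨R, hS, -, -⟩ := Cfsg.Agent.Lib.Helper51.PF10.subcoherent_of_frame F
  have hcoh := Zd_coherent F R hS
  obtain ⟨ψ₀, hψ₀, hψ₀1⟩ := exists_psi F.hP.selfNormalizing F.hp
  have hq3 : 3 ≤ Nat.card W₁ :=
    three_le_of_odd_prime F.hq (Subgroup.card_subgroup_dvd_card W₁) F.hodd
  have hdpos : 0 < d := by have := F.hdq; omega
  have hp5 : 5 ≤ Nat.card W₂ := by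
    obtain ⟨m, hm⟩ := Odd.of_dvd_nat F.hodd (Subgroup.card_subgroup_dvd_card W₂)
    omega
  obtain ⟨τ₁, E, A, B, k, C⟩ := chainData_of F hp5 (Zd M W₁ d) (Zd_sub M W₁ d)
    (muSum_mem_Zd F) hcoh d hdpos (fun _ => 1)
    (fun ξ hξ => by rw [hξ.2, mul_one]) (muSum mu ψ₀) (muSum_mem_Zd F ψ₀ hψ₀ hψ₀1) rfl hexE
  exact chainB F hlt C (fun _ _ _ => rfl) X hX hcard

end Cfsg.Agent.Lib.Helper64.PF11
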