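import Mathlib
import Cfsg.Agent.Lib.Helper64.PFElevenStruct
import Cfsg.Agent.Lib.Helper12.PFElevenE4
import Cfsg.Agent.Lib.Helper59.PFNineBR

/-!
# PROJECT PF, Peterfalvi section 11 (end game): `Struct34` from non-coherence (helper64)

`struct34_of`: for `M` of type P with `U ≠ 1`, `|W₁|`, `|W₂|` primes, `|G|` odd: if `calS M` (with a
coherence system) is NOT coherent then all the facts (11.5)-(11.7) hold.  The hypothesis
`|H : H'| > 4 q² + 1` of (11.4)-(11.6) is automatic (`|H : H'| ≥ p ^ q`).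
-/

set_option autoImplicit false

namespace Cfsg.Agent.Lib.Helper64.PF11

open Cfsg Cfsg.Agent.Lib.Helper4.PF9

universe u

/-- `3 ^ q > 4 q² + 1` for `q ≥ 4` -/
theorem three_pow_big (q : ℕ) (hq : 4 ≤ q) : 4 * q ^ 2 + 1 < 3 ^ q := by
  induction q, hq using Nat.le_induction with
  | base => norm_num
  | succ n hn ih =>
    have h1 : 3 ^ (n + 1) = 3 * 3 ^ n := by ring
    rw [h1]
    nlinarith

/-- `p ^ q > 4 q² + 1` for different `p, q ≥ 3` -/
theorem pow_big (p q : ℕ) (hp : 3 ≤ p) (hq : 3 ≤ q) (hne : p ≠ q) : 4 * q ^ 2 + 1 < p ^ q := by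
  rcases Nat.lt_or_ge q 4 with h | h
  · have hq3 : q = 3 := by omega
    subst hq3
    have hp4 : 4 ≤ p := by omega
    have : 4 ^ 3 ≤ p ^ 3 := Nat.pow_le_pow_left hp4 3
    omega
  · have h1 := three_pow_big q h
    have h2 : 3 ^ q ≤ p ^ q := Nat.pow_le_pow_left hp q
    omega

variable {G : Type u} [Group G] [Fintype G] {M W₁ U W₂ : Subgroup G} [Fintype M]

/-- `|W₁|` and `|W₂|` are different -/
theorem card_W_ne (hP : IsTypePWith M W₁ U W₂) (hU : U ≠ ⊥) (hq : (Nat.card W₁).Prime)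
    (hp : (Nat.card W₂).Prime) (hodd : Odd (Nat.card G)) :
    Nat.card W₂ ≠ Nat.card W₁ := by
  intro h
  obtain ⟨H₀, p', -, -, -, -, c⟩ :=
    Cfsg.Agent.Lib.Helper59.PF9.exists_ctx_of_typeP hP hU hq hodd
  have hW₂M : W₂ ≤ M := (hP.W₂_le.trans inf_le_left).trans (fittingHallOf_le M)
  have hHK : (fittingHallOf M).subgroupOf M ≤ (⁅M, M⁆).subgroupOf M := by
    rw [← c.HU_sup]; exact le_sup_left
  have h1 : Nat.card (W₂.subgroupOf M) ∣ Nat.card ((⁅M, M⁆).subgroupOf M) :=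
    Subgroup.card_dvd_of_le (c.W₂_le.trans hHK)
  have h2 : Nat.card (W₂.subgroupOf M) = Nat.card W₂ :=
    Nat.card_congr (Subgroup.subgroupOfEquivOfLe hW₂M).toEquiv
  rw [h2, h] at h1
  have h3 := Nat.dvd_gcd h1 (dvd_refl (Nat.card W₁))
  have hcop := c.coprime_q
  rw [Nat.Coprime] at hcop
  rw [hcop] at h3
  exact hq.one_lt.ne' (Nat.dvd_one.mp h3)

/-- `|H : H'| > 4 q² + 1` is automatic -/
theorem hbig_of (hP : IsTypePWith M W₁ U W₂) (hU : U ≠ ⊥) (hq : (Nat.card W₁).Prime)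
    (hp : (Nat.card W₂).Prime) (hodd : Odd (Nat.card G)) :
    4 * Nat.card W₁ ^ 2 + 1 <
      (⁅fittingHallOf M, fittingHallOf M⁆).relIndex (fittingHallOf M) := by
  obtain ⟨H₀, hlt, hMH₀, hCle, hchief⟩ :=
    Cfsg.Agent.Lib.Helper59.PFNine.exists_Fcore_kernel hP hU
  obtain ⟨p', hp', hidx', hW₂idx, hder, -, -⟩ :=
    Cfsg.Agent.Lib.Helper62.PF9.Fcore_factor_facts hP hU H₀ hlt hMH₀ hCle hchief
  have hpp : p' = Nat.card W₂ := by
    have h : p' ∣ Nat.card W₂ := by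
      rw [← hW₂idx]; exact Subgroup.relIndex_dvd_card _ _
    exact (Nat.prime_dvd_prime_iff_eq hp' hp).1 h
  rw [hpp] at hidx'
  have h1 := Subgroup.relIndex_mul_relIndex _ _ _ hder hlt.le
  have hne : (⁅fittingHallOf M, fittingHallOf M⁆).relIndex (fittingHallOf M) ≠ 0 := by
    have : Finite ↥(fittingHallOf M) := inferInstance
    unfold Subgroup.relIndex
    exact Subgroup.index_ne_zero_of_finite
  have h2 : Nat.card W₂ ^ Nat.card W₁ ≤
      (⁅fittingHallOf M, fittingHallOf M⁆).relIndex (fittingHallOf M) := by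
    apply Nat.le_of_dvd (Nat.pos_of_ne_zero hne)
    rw [← h1, hidx']
    exact Dvd.intro_left _ rfl
  have hodd' : ∀ r : ℕ, r.Prime → r ∣ Nat.card G → 3 ≤ r := by
    intro r hr hrd
    have h2 : r ≠ 2 := by
      rintro rfl
      exact (Nat.not_even_iff_odd.mpr hodd) (even_iff_two_dvd.mpr hrd)
    have := hr.two_le
    omega
  have hW₁G : Nat.card W₁ ∣ Nat.card G := Subgroup.card_subgroup_dvd_card W₁
  have hW₂G : Nat.card W₂ ∣ Nat.card G := Subgroup.card_subgroup_dvd_card W₂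
  have h3 := pow_big (Nat.card W₂) (Nat.card W₁) (hodd' _ hp hW₂G) (hodd' _ hq hW₁G)
    (card_W_ne hP hU hq hp hodd)
  omega

/-- **Peterfalvi (11.5)-(11.7)**: the record `Struct34` from non-coherence. -/
theorem struct34_of (hP : IsTypePWith M W₁ U W₂) (hU : U ≠ ⊥) (hq : (Nat.card W₁).Prime)
    (hp : (Nat.card W₂).Prime) (hodd : Odd (Nat.card G))
    (τ : (↥M → ℂ) → (G → ℂ)) (R : (↥M → ℂ) → Finset (G → ℂ))
    (hS : IsCoherenceSystem (inducedIrrAbove (derM M) ⊥) τ R)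
    (hnc : ¬ IsCoherent (inducedIrrAbove (derM M) ⊥) {1}ᶜ τ) : Struct34 M W₁ U W₂ := by
  have hoddM : Odd (Nat.card M) := Odd.of_dvd_nat hodd (Subgroup.card_subgroup_dvd_card M)
  obtain ⟨h1, h2, h3, h4⟩ := typeIII_IV_facts hP hU hq hoddM (hbig_of hP hU hq hp hodd) τ R hS hnc
  obtain ⟨h5, h6, h7, h8⟩ :=
    Cfsg.Agent.Lib.Helper12.PF11.fittingHall_abelian_of_facts hP hU hq hp hoddM h1 h3
  exact { hP := hP, hU := hU, hq := hq, hp := hp, hodd := hodd, hHU := h1, hCU := h2, hK2 := h4,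
          hHab := h5, hCH := h6, hHcard := h7, hHel := h8 }

end Cfsg.Agent.Lib.Helper64.PF11
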