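import Mathlib
import Cfsg.Agent.Lib.Helper64.CNMaximal
import Cfsg.Agent.Lib.Helper54.CNGroup

/-!
# Maximal subgroups of minimal simple CN-groups of odd order, II (helper64 library)

* `maxNilpotent_ne_bot`: a maximal nilpotent subgroup of a nontrivial CN-group is nontrivial.
* `maxNilpotent_eq_fittingHallOf`: in a minimal simple CN-group of odd order every maximal nilpotent subgroup is
  `fittingHallOf M` for a maximal subgroup `M`.
-/

set_option autoImplicit false

namespace Cfsg.Agent.Lib.Helper64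

universe u

open Cfsg.Agent.Lib.Helper33

/-- a maximal nilpotent subgroup of a nontrivial CN-group is nontrivial -/
theorem maxNilpotent_ne_bot {G : Type*} [Group G] [Nontrivial G] (hCN : Cfsg.IsCNGroup G) (H : Subgroup G)
    (hmax : ∀ L : Subgroup G, Group.IsNilpotent L → H ≤ L → L = H) : H ≠ ⊥ := by
  intro hbot
  obtain ⟨x, hx⟩ := exists_ne (1 : G)
  have h1 := hmax _ (hCN x hx) (by rw [hbot]; exact bot_le)
  have h2 : x ∈ Subgroup.centralizer ({x} : Set G) := Subgroup.mem_centralizer_singleton_iff.mpr rfl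
  rw [h1, hbot, Subgroup.mem_bot] at h2
  exact hx h2

/-- in a minimal simple CN-group of odd order every maximal nilpotent subgroup is `fittingHallOf M` for a maximal
subgroup `M` -/
theorem maxNilpotent_eq_fittingHallOf {G : Type u} [Group G] [Finite G] (hG : Cfsg.IsMinSimpleOddOrder G)
    (hCN : Cfsg.IsCNGroup G) (H : Subgroup G) (hH : Group.IsNilpotent H)
    (hmax : ∀ L : Subgroup G, Group.IsNilpotent L → H ≤ L → L = H) :
    ∃ M : Subgroup G, IsCoatom M ∧ H = Cfsg.fittingHallOf M := by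
  have hsimple : IsSimpleGroup G := hG.2.1
  have hH1 : H ≠ ⊥ := maxNilpotent_ne_bot hCN H hmax
  have hcard1 : Nat.card H ≠ 1 := by
    rw [Ne, Subgroup.card_eq_one]; exact hH1
  obtain ⟨p, hp, hpH⟩ := Nat.exists_prime_and_dvd hcard1
  have : Fact p.Prime := ⟨hp⟩
  obtain ⟨S, hS1, hSprop⟩ := Cfsg.Agent.Lib.Helper54.cn_maxNilpotent_sylow hCN H hH hmax p hpH
  -- `S ≤ H`
  have hSH : (S : Subgroup G) ≤ H := by
    have : Nontrivial ↥(S : Subgroup G) := (Subgroup.nontrivial_iff_ne_bot _).mpr hS1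
    have hcnt := S.isPGroup'.center_nontrivial
    obtain ⟨z, hz⟩ := exists_ne (1 : Subgroup.center ↥(S : Subgroup G))
    have hz1 : ((z : ↥(S : Subgroup G)) : G) ≠ 1 := by
      intro h
      apply hz
      apply Subtype.ext
      apply Subtype.ext
      exact h
    have hzc : ∀ s ∈ (S : Subgroup G), s * ((z : ↥(S : Subgroup G)) : G) = ((z : ↥(S : Subgroup G)) : G) * s := by
      intro s hs
      have := Subgroup.mem_center_iff.mp z.2 ⟨s, hs⟩
      exact congrArg Subtype.val this
    have hC := hSprop _ (z : ↥(S : Subgroup G)).2 hz1 hzc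
    rw [← hC]
    intro s hs
    rw [Subgroup.mem_centralizer_singleton_iff]
    exact hzc s hs
  have hSidx : ¬ p ∣ (S : Subgroup G).index := by
    intro h
    obtain ⟨n, hn⟩ := IsPGroup.iff_card.mp S.isPGroup'
    have hn0 : n ≠ 0 := by
      rintro rfl
      rw [pow_zero] at hn
      exact hS1 (Subgroup.card_eq_one.mp hn)
    have h1 : p ∣ Nat.card (S : Subgroup G) := by rw [hn]; exact dvd_pow_self p hn0
    have := Nat.dvd_gcd h1 h
    rw [S.card_coprime_index] at this
    exact hp.one_lt.ne' (Nat.dvd_one.mp this)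
  have hHN : H ≤ Subgroup.normalizer ((S : Subgroup G) : Set G) :=
    le_normalizer_of_isNilpotent_of_not_dvd_index p H S hH hSH S.isPGroup' hSidx
  obtain ⟨M, hM, hNM, hSc⟩ := exists_coatom_sylow_le_commutator hG S hS1
  have hSM : (S : Subgroup G) ≤ M := hSH.trans (hHN.trans hNM)
  obtain ⟨hF1, hFtop, ⟨E, hc, hfpf⟩, hquot⟩ := coatom_structure hG hCN M hM
  obtain ⟨hFnil, hFne, hFnorm, hFmax⟩ := coatom_fittingHallOf hG hCN M hM
  set F₀ := Cfsg.fittingHall ↥M with hF₀
  have hF₀n : F₀.Normal := Cfsg.fittingHall_normal ↥M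
  have hFdef : Cfsg.fittingHallOf M = F₀.map M.subtype := rfl
  have hpM : p ∣ Nat.card ↥M := by
    have h1 : Nat.card (S : Subgroup G) ∣ Nat.card ↥M := Subgroup.card_dvd_of_le hSM
    obtain ⟨n, hn⟩ := IsPGroup.iff_card.mp S.isPGroup'
    have hn0 : n ≠ 0 := by
      rintro rfl
      rw [pow_zero] at hn
      exact hS1 (Subgroup.card_eq_one.mp hn)
    refine dvd_trans ?_ h1
    rw [hn]; exact dvd_pow_self p hn0
  -- `p` divides `|F₀|`
  have hpF : p ∣ Nat.card F₀ := by
    by_contra hnd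
    have hpq : p ∣ Nat.card (↥M ⧸ F₀) := by
      have h1 : Nat.card ↥M = Nat.card F₀ * Nat.card (↥M ⧸ F₀) := by
        rw [← Subgroup.index_eq_card, Subgroup.card_mul_index]
      rw [h1] at hpM
      exact (hp.dvd_mul.mp hpM).resolve_left hnd
    obtain ⟨Q, _, φ, hφ, hQ, hQnt⟩ :=
      exists_surjective_pGroup_of_isNilpotent (N := ↥M ⧸ F₀) p hpq
    exact no_pQuotient_of_sylow_le_commutator S M hSM hSc (φ.comp (QuotientGroup.mk' F₀))
      (hφ.comp (QuotientGroup.mk'_surjective F₀)) hQ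
  -- `S ≤ F`
  obtain ⟨-, hSF₀⟩ := sylow_normal_of_dvd_card_fittingHall p hpF (S.subtype hSM)
  rw [Sylow.coe_subtype] at hSF₀
  have hSF : (S : Subgroup G) ≤ Cfsg.fittingHallOf M := by
    intro x hx
    exact ⟨⟨x, hSM hx⟩, hSF₀ (Subgroup.mem_subgroupOf.mpr hx), rfl⟩
  -- a central element of `F` inside `S`
  have hFN : Cfsg.fittingHallOf M ≤ Subgroup.normalizer ((S : Subgroup G) : Set G) :=
    le_normalizer_of_isNilpotent_of_not_dvd_index p (Cfsg.fittingHallOf M) (S : Subgroup G) hFnil hSF S.isPGroup' hSidx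
  have hSn : ((S : Subgroup G).subgroupOf (Cfsg.fittingHallOf M)).Normal :=
    (Subgroup.normal_subgroupOf_iff_le_normalizer hSF).mpr hFN
  have hS'1 : (S : Subgroup G).subgroupOf (Cfsg.fittingHallOf M) ≠ ⊥ := by
    intro h
    apply hS1
    rw [eq_bot_iff]
    intro x hx
    have : (⟨x, hSF hx⟩ : ↥(Cfsg.fittingHallOf M)) ∈ (S : Subgroup G).subgroupOf (Cfsg.fittingHallOf M) :=
      Subgroup.mem_subgroupOf.mpr hx
    rw [h, Subgroup.mem_bot] at this
    exact congrArg Subtype.val this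
  obtain ⟨z, hzS, hz1, hzc⟩ := exists_mem_center_of_normal_of_isNilpotent
    ((S : Subgroup G).subgroupOf (Cfsg.fittingHallOf M)) hS'1
  have hzS' : (z : G) ∈ (S : Subgroup G) := Subgroup.mem_subgroupOf.mp hzS
  have hz1' : (z : G) ≠ 1 := fun h => hz1 (Subtype.ext h)
  have hzF : ∀ f ∈ Cfsg.fittingHallOf M, f * (z : G) = (z : G) * f := by
    intro f hf
    have := Subgroup.mem_center_iff.mp hzc ⟨f, hf⟩
    exact congrArg Subtype.val this
  have hC := hSprop (z : G) hzS' hz1' (fun s hs => hzF s (hSF hs))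
  have hFH : Cfsg.fittingHallOf M ≤ H := by
    rw [← hC]
    intro f hf
    rw [Subgroup.mem_centralizer_singleton_iff]
    exact hzF f hf
  exact ⟨M, hM, hFmax H hH hFH⟩

end Cfsg.Agent.Lib.Helper64
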