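import Mathlib
import Cfsg.Agent.Lib.Helper64.CNMaximal2
import Cfsg.Agent.S1477

/-!
# Maximal subgroups of minimal simple CN-groups of odd order, III: trivial intersections (helper64 library)

* `sylow_normal_of_normal_pSubgroup`: in a solvable CN-group without three-step structure, a nontrivial normal
  `p`-subgroup forces the Sylow `p`-subgroups to be normal.
* `sylow_inf_eq_bot_of_local`: if every `p`-local subgroup has a largest `p`-subgroup, distinct Sylow `p`-subgroups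
  meet trivially.
* `maxNilpotent_ti`: in a minimal simple CN-group of odd order, maximal nilpotent subgroups are TI.
-/

set_option autoImplicit false

namespace Cfsg.Agent.Lib.Helper64

universe u

open Cfsg.Agent.Lib.Helper33

/-- in a solvable CN-group that is not a three-step group, a nontrivial normal `p`-subgroup forces the Sylow
`p`-subgroups to be normal -/
theorem sylow_normal_of_normal_pSubgroup {X : Type*} [Group X] [Finite X] [Group.IsSolvable X]
    (hCN : Cfsg.IsCNGroup X) (hno3 : ∀ s : ℕ, ¬ Cfsg.IsThreeStepGroup s X) (p : ℕ) [hp : Fact p.Prime]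
    (D : Subgroup X) [hDn : D.Normal] (hD1 : D ≠ ⊥) (hDp : IsPGroup p D) (T : Sylow p X) :
    (T : Subgroup X).Normal := by
  by_cases hnil : Group.IsNilpotent X
  · infer_instance
  have hex : ∃ (r : ℕ) (_ : Fact r.Prime) (R : Sylow r X),
      (R : Subgroup X).Normal ∧ (R : Subgroup X) ≠ ⊥ := by
    by_contra hex
    obtain ⟨s, hs, h3⟩ := exists_threeStep_of_no_normal_sylow hCN hnil
      (fun r _ R hRn => by
        by_contra hne
        exact hex ⟨r, inferInstance, R, hRn, hne⟩)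
    exact hno3 s h3
  obtain ⟨r, _, R, hRn, hR1⟩ := hex
  obtain ⟨hF1, hFtop, ⟨E, hc, -, hfpf⟩, -⟩ := Cfsg.Agent.S1474.result hCN hnil r R hR1 hRn
  set F := Cfsg.fittingHall X with hF
  have hFn : F.Normal := Cfsg.fittingHall_normal X
  have hFnil : Group.IsNilpotent F := Cfsg.Agent.S1474.fittingHall_isNilpotent
  suffices hpF : p ∣ Nat.card F from (sylow_normal_of_dvd_card_fittingHall p hpF T).1
  by_contra hnd
  -- `D ∩ F = 1`
  have hDF : D ⊓ F = ⊥ := by
    apply disjoint_iff.mp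
    apply Subgroup.disjoint_of_coprime_natCard
    obtain ⟨n, hn⟩ := IsPGroup.iff_card.mp hDp
    rw [hn]
    exact Nat.Coprime.pow_left n ((Nat.Prime.coprime_iff_not_dvd hp.out).mpr hnd)
  have hdis : Disjoint D F := disjoint_iff.mpr hDF
  obtain ⟨d, hd, hd1⟩ : ∃ d : X, d ∈ D ∧ d ≠ 1 := by
    obtain ⟨a, ha⟩ := (Subgroup.ne_bot_iff_exists_ne_one (H := D)).mp hD1
    exact ⟨(a : X), a.2, fun h => ha (Subtype.ext h)⟩
  have hdF : ∀ f ∈ F, d * f = f * d := fun f hf =>
    (Subgroup.commute_of_normal_of_disjoint D F hDn hFn hdis d f hd hf).eq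
  obtain ⟨⟨⟨f, hf⟩, ⟨e, he⟩⟩, hfe⟩ := hc.2 d
  simp only at hfe
  have he1 : e ≠ 1 := by
    intro h
    rw [h, mul_one] at hfe
    have : d ∈ D ⊓ F := Subgroup.mem_inf.mpr ⟨hd, by rw [← hfe]; exact hf⟩
    rw [hDF, Subgroup.mem_bot] at this
    exact hd1 this
  have : Nontrivial ↥F := (Subgroup.nontrivial_iff_ne_bot _).mpr hF1
  obtain ⟨z, -, hz1, hzc⟩ := exists_mem_center_of_normal_of_isNilpotent (G := ↥F) ⊤ top_ne_bot
  have hz1' : (z : X) ≠ 1 := fun h => hz1 (Subtype.ext h)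
  have hfz : f * (z : X) = (z : X) * f := by
    have := Subgroup.mem_center_iff.mp hzc ⟨f, hf⟩
    exact congrArg Subtype.val this
  have hdz : d * (z : X) = (z : X) * d := hdF z z.2
  have hez : e * (z : X) = (z : X) * e := by
    have hed : e = f⁻¹ * d := by rw [← hfe]; group
    have hfz' : f⁻¹ * (z : X) = (z : X) * f⁻¹ := by
      have := congrArg (fun t => f⁻¹ * t * f⁻¹) hfz
      simp only [mul_assoc, inv_mul_cancel_left, mul_inv_cancel, mul_one] at this
      exact this.symm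
    rw [hed, mul_assoc, hdz, ← mul_assoc, hfz', mul_assoc]
  have hzmem : (z : X) ∈ F ⊓ Subgroup.centralizer ({e} : Set X) := by
    refine Subgroup.mem_inf.mpr ⟨z.2, ?_⟩
    rw [Subgroup.mem_centralizer_singleton_iff]
    exact hez.symm
  rw [hfpf e he he1, Subgroup.mem_bot] at hzmem
  exact hz1' hzmem

/-- if the normalizer of every nontrivial proper `p`-subgroup `D` has a `p`-subgroup containing all its `p`-subgroups,
then distinct Sylow `p`-subgroups meet trivially -/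
theorem sylow_inf_eq_bot_of_local {G : Type*} [Group G] [Finite G] (p : ℕ) [hp : Fact p.Prime]
    (hloc : ∀ D : Subgroup G, D ≠ ⊥ → D ≠ ⊤ → IsPGroup p D → ∃ T : Subgroup G, IsPGroup p T ∧
      ∀ Q : Subgroup G, IsPGroup p Q → Q ≤ Subgroup.normalizer (D : Set G) → Q ≤ T)
    (P₁ P₂ : Sylow p G) (hne : P₁ ≠ P₂) : (P₁ : Subgroup G) ⊓ P₂ = ⊥ := by
  classical
  by_contra hbot
  have : Fintype (Sylow p G) := Fintype.ofFinite _
  let s : Finset (Sylow p G × Sylow p G) := Finset.univ.filter (fun x => x.1 ≠ x.2)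
  have hs : (P₁, P₂) ∈ s := by simp [s, hne]
  obtain ⟨⟨Q₁, Q₂⟩, hQs, hQmax⟩ := Finset.exists_max_image s
    (fun x => Nat.card ↥((x.1 : Subgroup G) ⊓ x.2 : Subgroup G)) ⟨_, hs⟩
  have hQne : Q₁ ≠ Q₂ := by simpa [s] using hQs
  simp only at hQmax
  set D : Subgroup G := (Q₁ : Subgroup G) ⊓ Q₂ with hD
  have hD1 : D ≠ ⊥ := by
    intro h
    have h1 := hQmax (P₁, P₂) hs
    simp only at h1
    rw [h, Subgroup.card_bot] at h1
    have h2 : Nat.card ↥((P₁ : Subgroup G) ⊓ P₂ : Subgroup G) = 1 :=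
      le_antisymm h1 Nat.card_pos
    exact hbot (Subgroup.card_eq_one.mp h2)
  have hDQ₁ : D ≤ Q₁ := inf_le_left
  have hDQ₂ : D ≤ Q₂ := inf_le_right
  have hDp : IsPGroup p D := Q₁.isPGroup'.to_le hDQ₁
  have hDtop : D ≠ ⊤ := by
    intro h
    apply hQne
    have h1 : (Q₁ : Subgroup G) = ⊤ := by rw [eq_top_iff, ← h]; exact hDQ₁
    have h2 : (Q₂ : Subgroup G) = ⊤ := by rw [eq_top_iff, ← h]; exact hDQ₂
    exact Sylow.ext (h1.trans h2.symm)
  obtain ⟨T, hTp, hT⟩ := hloc D hD1 hDtop hDp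
  obtain ⟨P₃, hTP₃⟩ := hTp.exists_le_sylow
  have hDT : D ≤ P₃ := (hT D hDp Subgroup.le_normalizer).trans hTP₃
  -- key: for a Sylow `Q` containing `D` properly, `Q = P₃`
  have key : ∀ Q : Sylow p G, D ≤ Q → (Q : Subgroup G) ≠ D →
      Nat.card ↥((Q : Subgroup G) ⊓ P₃ : Subgroup G) ≤ Nat.card D → False := by
    intro Q hDQ hQD hcard
    have : Group.IsNilpotent ↥(Q : Subgroup G) := Q.isPGroup'.isNilpotent
    have hlt : D.subgroupOf Q < ⊤ := by
      rw [lt_top_iff_ne_top, Ne, Subgroup.subgroupOf_eq_top]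
      intro h
      exact hQD (le_antisymm h hDQ)
    have hnc := Group.normalizerCondition_of_isNilpotent (G := ↥(Q : Subgroup G)) _ hlt
    obtain ⟨x, hxN, hxD⟩ := SetLike.exists_of_lt hnc
    rw [← Subgroup.subgroupOf_normalizer_eq hDQ, Subgroup.mem_subgroupOf] at hxN
    rw [Subgroup.mem_subgroupOf] at hxD
    -- `⟨D, x⟩`-free version: the subgroup `Q ⊓ N(D)` is in `T`
    have h1 : (Q : Subgroup G) ⊓ Subgroup.normalizer (D : Set G) ≤ T :=
      hT _ (Q.isPGroup'.to_le inf_le_left) inf_le_right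
    have hxP₃ : (x : G) ∈ (P₃ : Subgroup G) := hTP₃ (h1 (Subgroup.mem_inf.mpr ⟨x.2, hxN⟩))
    have hlt2 : D < (Q : Subgroup G) ⊓ P₃ := by
      refine lt_of_le_of_ne (le_inf hDQ hDT) ?_
      intro h
      apply hxD
      rw [h]
      exact Subgroup.mem_inf.mpr ⟨x.2, hxP₃⟩
    exact hlt2.ne (Subgroup.eq_of_le_of_card_ge hlt2.le hcard)
  have hQ₁D : (Q₁ : Subgroup G) ≠ D := by
    intro h
    apply hQne
    have hle : (Q₁ : Subgroup G) ≤ Q₂ := by rw [h]; exact hDQ₂
    exact Sylow.ext (Q₁.is_maximal' Q₂.isPGroup' hle).symm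
  have hQ₂D : (Q₂ : Subgroup G) ≠ D := by
    intro h
    apply hQne
    have hle : (Q₂ : Subgroup G) ≤ Q₁ := by rw [h]; exact hDQ₁
    exact Sylow.ext (Q₂.is_maximal' Q₁.isPGroup' hle)
  have hQ₁P₃ : Q₁ = P₃ := by
    by_contra hne13
    have hmem : (Q₁, P₃) ∈ s := by simp [s, hne13]
    exact key Q₁ hDQ₁ hQ₁D (hQmax (Q₁, P₃) hmem)
  have hQ₂P₃ : Q₂ = P₃ := by
    by_contra hne23
    have hmem : (Q₂, P₃) ∈ s := by simp [s, hne23]
    exact key Q₂ hDQ₂ hQ₂D (hQmax (Q₂, P₃) hmem)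
  exact hQne (hQ₁P₃.trans hQ₂P₃.symm)

/-- **maximal nilpotent subgroups are TI** in a minimal simple CN-group of odd order -/
theorem maxNilpotent_ti {G : Type u} [Group G] [Finite G] (hG : Cfsg.IsMinSimpleOddOrder G)
    (hCN : Cfsg.IsCNGroup G) (H : Subgroup G) (hH : Group.IsNilpotent H)
    (hmax : ∀ L : Subgroup G, Group.IsNilpotent L → H ≤ L → L = H) (g : G)
    (hg : H.map (MulAut.conj g).toMonoidHom ≠ H) : H ⊓ H.map (MulAut.conj g).toMonoidHom = ⊥ := by
  have hsimple : IsSimpleGroup G := hG.2.1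
  have hsolv := hG.2.2.2
  have : Nontrivial G := hsimple.toNontrivial
  obtain ⟨hcop, h2, -⟩ := Cfsg.Agent.S1477.result hCN H hH hmax
  have hH1 : H ≠ ⊥ := maxNilpotent_ne_bot hCN H hmax
  have hcard1 : Nat.card H ≠ 1 := by
    rw [Ne, Subgroup.card_eq_one]; exact hH1
  by_cases hpp : IsPrimePow (Nat.card H)
  · obtain ⟨p, k, hp, hk, hpk⟩ := (isPrimePow_nat_iff _).mp hpp
    have : Fact p.Prime := ⟨hp⟩
    have hHp : IsPGroup p H := IsPGroup.of_card hpk.symm
    have hidx : ¬ p ∣ H.index := by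
      intro h
      have h1 : p ∣ Nat.card H := by rw [← hpk]; exact dvd_pow_self p hk.ne'
      have := Nat.dvd_gcd h1 h
      rw [hcop] at this
      exact hp.one_lt.ne' (Nat.dvd_one.mp this)
    set P : Sylow p G := hHp.toSylow hidx with hPdef
    have hP : (P : Subgroup G) = H := IsPGroup.toSylow_coe hHp hidx
    have hP₂ : ((g • P : Sylow p G) : Subgroup G) = H.map (MulAut.conj g).toMonoidHom := by
      rw [Sylow.coe_subgroup_smul, hP, Subgroup.pointwise_smul_def]
      rfl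
    have hne : P ≠ g • P := by
      intro h
      apply hg
      rw [← hP₂, ← h, hP]
    rw [← hP₂, ← hP]
    apply sylow_inf_eq_bot_of_local p _ P (g • P) hne
    intro D hD1 hDtop hDp
    have hNtop : Subgroup.normalizer (D : Set G) ≠ ⊤ := by
      intro h
      have hDn : D.Normal := Subgroup.normalizer_eq_top_iff.mp h
      rcases hDn.eq_bot_or_eq_top with h0 | h1
      · exact hD1 h0
      · exact hDtop h1
    set N := Subgroup.normalizer (D : Set G) with hN
    have : Group.IsSolvable ↥N := hsolv N hNtop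
    have hCNN : Cfsg.IsCNGroup ↥N := isCNGroup_subgroup hCN N
    have hno3 : ∀ s : ℕ, ¬ Cfsg.IsThreeStepGroup s ↥N := fun s => no_threeStep hG hCN N s
    have hD'n : (D.subgroupOf N).Normal := Subgroup.normal_in_normalizer
    have hD'1 : D.subgroupOf N ≠ ⊥ := by
      intro h
      apply hD1
      rw [eq_bot_iff]
      intro x hx
      have : (⟨x, Subgroup.le_normalizer hx⟩ : ↥N) ∈ D.subgroupOf N := Subgroup.mem_subgroupOf.mpr hx
      rw [h, Subgroup.mem_bot] at this
      exact congrArg Subtype.val this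
    have hD'p : IsPGroup p (D.subgroupOf N) := hDp.comap_subtype
    obtain ⟨T₀⟩ : Nonempty (Sylow p ↥N) := inferInstance
    have hT₀n : (T₀ : Subgroup ↥N).Normal :=
      sylow_normal_of_normal_pSubgroup hCNN hno3 p (D.subgroupOf N) hD'1 hD'p T₀
    refine ⟨(T₀ : Subgroup ↥N).map N.subtype, T₀.isPGroup'.map _, ?_⟩
    intro Q hQp hQN
    have hQ' : IsPGroup p (Q.subgroupOf N) := hQp.comap_subtype
    obtain ⟨T', hT'⟩ := hQ'.exists_le_sylow
    obtain ⟨a, rfl⟩ := MulAction.exists_smul_eq ↥N T₀ T'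
    rw [Sylow.smul_eq_of_normal] at hT'
    intro x hx
    exact ⟨⟨x, hQN hx⟩, hT' (Subgroup.mem_subgroupOf.mpr hx), rfl⟩
  · exact h2 hpp hcard1 g hg

/-- a maximal subgroup `M` of a minimal simple CN-group of odd order has a complement to `fittingHallOf M` acting on it
without fixed points (stated inside `G`) -/
theorem coatom_complement {G : Type u} [Group G] [Finite G] (hG : Cfsg.IsMinSimpleOddOrder G)
    (hCN : Cfsg.IsCNGroup G) (M : Subgroup G) (hM : IsCoatom M) :
    ∃ E : Subgroup G, Cfsg.IsComplIn (Cfsg.fittingHallOf M) E M ∧ E ≠ ⊥ ∧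
      ∀ e ∈ E, e ≠ 1 → Cfsg.fittingHallOf M ⊓ Subgroup.centralizer ({e} : Set G) = ⊥ := by
  obtain ⟨hF1, hFtop, ⟨E₀, hc, hfpf⟩, -⟩ := coatom_structure hG hCN M hM
  set F₀ := Cfsg.fittingHall ↥M with hF₀
  have hFdef : Cfsg.fittingHallOf M = F₀.map M.subtype := rfl
  refine ⟨E₀.map M.subtype, ⟨?_, ?_, ?_, ?_⟩, ?_, ?_⟩
  · rw [hFdef]; exact Subgroup.map_subtype_le _
  · exact Subgroup.map_subtype_le _
  · rw [eq_bot_iff]
    rintro x ⟨⟨f, hf, rfl⟩, ⟨e, he, hfe⟩⟩
    have hef : e = f := Subtype.ext hfe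
    have : f ∈ F₀ ⊓ E₀ := Subgroup.mem_inf.mpr ⟨hf, hef ▸ he⟩
    rw [hc.disjoint.eq_bot, Subgroup.mem_bot] at this
    rw [Subgroup.mem_bot]
    exact congrArg Subtype.val this
  · intro m hm
    obtain ⟨⟨⟨f, hf⟩, ⟨e, he⟩⟩, hfe⟩ := hc.2 ⟨m, hm⟩
    simp only at hfe
    refine ⟨(f : G), ⟨f, hf, rfl⟩, (e : G), ⟨e, he, rfl⟩, ?_⟩
    exact (congrArg Subtype.val hfe).symm
  · rw [Ne, Subgroup.map_eq_bot_iff_of_injective _ M.subtype_injective]
    intro h
    apply hFtop
    have := hc.sup_eq_top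
    rwa [h, sup_bot_eq] at this
  · rintro _ ⟨e, he, rfl⟩ he1
    have he1' : e ≠ 1 := fun h => he1 (by rw [h]; rfl)
    rw [eq_bot_iff]
    rintro x ⟨⟨f, hf, rfl⟩, hxc⟩
    have hxc' : M.subtype f ∈ Subgroup.centralizer ({M.subtype e} : Set G) := hxc
    rw [Subgroup.mem_centralizer_singleton_iff] at hxc'
    have hcomm : f * e = e * f := by
      apply Subtype.ext
      exact hxc'
    have : f ∈ F₀ ⊓ Subgroup.centralizer ({e} : Set ↥M) := by
      refine Subgroup.mem_inf.mpr ⟨hf, ?_⟩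
      rw [Subgroup.mem_centralizer_singleton_iff]
      exact hcomm
    rw [hfpf e he he1', Subgroup.mem_bot] at this
    rw [Subgroup.mem_bot]
    exact congrArg Subtype.val this

end Cfsg.Agent.Lib.Helper64
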