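import Mathlib
import Cfsg.Agent.Lib.Helper64.CNMaximal3

/-!
# Maximal subgroups of minimal simple CN-groups of odd order, IV: conjugation (helper64 library)

* `exists_maxNilpotent_ge`: every nilpotent subgroup of a finite group lies in a maximal nilpotent subgroup.
* `maxNilpotent_map_conj`: conjugates of maximal nilpotent subgroups are maximal nilpotent.
* `fittingHallOf_map_conj`: `fittingHallOf (M^a) = (fittingHallOf M)^a` for maximal subgroups `M` of a minimal simple
  CN-group of odd order.
* `exists_coatom_mem_fittingHallOf`: every element lies in `fittingHallOf M` for some maximal subgroup `M`.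
-/

set_option autoImplicit false

namespace Cfsg.Agent.Lib.Helper64

universe u

/-- every nilpotent subgroup of a finite group lies in a maximal nilpotent subgroup -/
theorem exists_maxNilpotent_ge {G : Type*} [Group G] [Finite G] (L : Subgroup G) (hL : Group.IsNilpotent L) :
    ∃ H : Subgroup G, L ≤ H ∧ Group.IsNilpotent H ∧
      ∀ L' : Subgroup G, Group.IsNilpotent L' → H ≤ L' → L' = H := by
  have hfin : {H : Subgroup G | L ≤ H ∧ Group.IsNilpotent H}.Finite := Set.toFinite _
  obtain ⟨H, ⟨hLH, hH⟩, hmax⟩ := hfin.exists_maximal ⟨L, le_rfl, hL⟩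
  refine ⟨H, hLH, hH, ?_⟩
  intro L' hL' hHL'
  exact le_antisymm (hmax ⟨hLH.trans hHL', hL'⟩ hHL') hHL'

/-- `conj a⁻¹` undoes `conj a` on subgroups -/
theorem map_conj_inv_map_conj {G : Type*} [Group G] (H : Subgroup G) (a : G) :
    (H.map (MulAut.conj a).toMonoidHom).map (MulAut.conj a⁻¹).toMonoidHom = H := by
  rw [Subgroup.map_map]
  have : (MulAut.conj a⁻¹).toMonoidHom.comp (MulAut.conj a).toMonoidHom = MonoidHom.id G := by
    ext x
    simp [MulAut.conj_apply, mul_assoc]
  rw [this, Subgroup.map_id]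

/-- conjugates of maximal nilpotent subgroups are maximal nilpotent -/
theorem maxNilpotent_map_conj {G : Type*} [Group G] (H : Subgroup G) (hH : Group.IsNilpotent H)
    (hmax : ∀ L : Subgroup G, Group.IsNilpotent L → H ≤ L → L = H) (a : G) :
    Group.IsNilpotent ↥(H.map (MulAut.conj a).toMonoidHom) ∧
      ∀ L : Subgroup G, Group.IsNilpotent L → H.map (MulAut.conj a).toMonoidHom ≤ L →
        L = H.map (MulAut.conj a).toMonoidHom := by
  have hnil : ∀ (K : Subgroup G) (b : G), Group.IsNilpotent K →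
      Group.IsNilpotent ↥(K.map (MulAut.conj b).toMonoidHom) := by
    intro K b hK
    exact (Group.isNilpotent_congr (Subgroup.equivMapOfInjective K (MulAut.conj b).toMonoidHom
      (MulAut.conj b).injective)).mp hK
  refine ⟨hnil H a hH, ?_⟩
  intro L hL hHL
  have h1 : H ≤ L.map (MulAut.conj a⁻¹).toMonoidHom := by
    have := Subgroup.map_mono (f := (MulAut.conj a⁻¹).toMonoidHom) hHL
    rwa [map_conj_inv_map_conj] at this
  have h2 := hmax _ (hnil L a⁻¹ hL) h1
  have h3 := map_conj_inv_map_conj L a⁻¹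
  rw [inv_inv] at h3
  rw [← h3, h2]

/-- `fittingHallOf` commutes with conjugation on maximal subgroups of a minimal simple CN-group of odd order -/
theorem fittingHallOf_map_conj {G : Type u} [Group G] [Finite G] (hG : Cfsg.IsMinSimpleOddOrder G)
    (hCN : Cfsg.IsCNGroup G) (M : Subgroup G) (hM : IsCoatom M) (a : G) :
    Cfsg.fittingHallOf (M.map (MulAut.conj a).toMonoidHom) =
      (Cfsg.fittingHallOf M).map (MulAut.conj a).toMonoidHom := by
  obtain ⟨hnil, hne, hnorm, hmaxF⟩ := coatom_fittingHallOf hG hCN M hM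
  obtain ⟨hnil', hmax'⟩ := maxNilpotent_map_conj _ hnil hmaxF a
  obtain ⟨M', hM', hEq⟩ := maxNilpotent_eq_fittingHallOf hG hCN _ hnil' hmax'
  obtain ⟨-, -, hnorm', -⟩ := coatom_fittingHallOf hG hCN M' hM'
  have h1 : M' = M.map (MulAut.conj a).toMonoidHom := by
    rw [← hnorm', ← hEq, ← Subgroup.map_equiv_normalizer_eq, hnorm]
  rw [← h1, ← hEq]

/-- every element of a minimal simple CN-group of odd order lies in `fittingHallOf M` for some maximal subgroup `M` -/
theorem exists_coatom_mem_fittingHallOf {G : Type u} [Group G] [Finite G] (hG : Cfsg.IsMinSimpleOddOrder G)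
    (hCN : Cfsg.IsCNGroup G) (x : G) : ∃ M : Subgroup G, IsCoatom M ∧ x ∈ Cfsg.fittingHallOf M := by
  have hxnil : ∃ L : Subgroup G, Group.IsNilpotent L ∧ x ∈ L := by
    by_cases hx : x = 1
    · refine ⟨⊥, ?_, by rw [hx]; exact Subgroup.one_mem _⟩
      infer_instance
    · exact ⟨_, hCN x hx, Subgroup.mem_centralizer_singleton_iff.mpr rfl⟩
  obtain ⟨L, hL, hxL⟩ := hxnil
  obtain ⟨H, hLH, hH, hmax⟩ := exists_maxNilpotent_ge L hL
  obtain ⟨M, hM, hEq⟩ := maxNilpotent_eq_fittingHallOf hG hCN H hH hmax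
  exact ⟨M, hM, hEq ▸ hLH hxL⟩

end Cfsg.Agent.Lib.Helper64
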