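import Mathlib
import Cfsg.Agent.Lib.Helper64.CNMaximal4
import Cfsg.Agent.S1484

/-!
# Minimal simple CN-groups of odd order are partitioned by TI Frobenius kernels (helper64 library)

* `exists_coatom_representatives`: representatives of the conjugacy classes of maximal subgroups of a finite group.
* `cn_minSimple_partition`: a minimal simple CN-group of odd order has `k ≥ 2` Frobenius subgroups `L i` with TI kernels
  `H i` of pairwise coprime orders, normalizers `L i`, covering all non-identity elements up to conjugacy (the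
  configuration excluded by character theory).
-/

set_option autoImplicit false

namespace Cfsg.Agent.Lib.Helper64

universe u

/-- composition of conjugations on subgroups -/
theorem map_conj_map_conj {G : Type*} [Group G] (H : Subgroup G) (a b : G) :
    (H.map (MulAut.conj a).toMonoidHom).map (MulAut.conj b).toMonoidHom =
      H.map (MulAut.conj (b * a)).toMonoidHom := by
  rw [Subgroup.map_map]
  congr 1
  ext x
  simp [MulAut.conj_apply, mul_assoc]

/-- representatives of the conjugacy classes of maximal subgroups of a finite group -/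
theorem exists_coatom_representatives (G : Type*) [Group G] [Finite G] :
    ∃ (k : ℕ) (Mrep : Fin k → Subgroup G), (∀ i, IsCoatom (Mrep i)) ∧
      (∀ i j, i ≠ j → ∀ g : G, Mrep j ≠ (Mrep i).map (MulAut.conj g).toMonoidHom) ∧
      (∀ M : Subgroup G, IsCoatom M → ∃ i, ∃ g : G, M = (Mrep i).map (MulAut.conj g).toMonoidHom) := by
  classical
  let s : Setoid {M : Subgroup G // IsCoatom M} :=
    { r := fun M M' => ∃ g : G, M'.1 = M.1.map (MulAut.conj g).toMonoidHom
      iseqv := by
        refine ⟨fun M => ⟨1, ?_⟩, ?_, ?_⟩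
        · have : (MulAut.conj (1 : G)).toMonoidHom = MonoidHom.id G := by
            ext x; simp
          rw [this, Subgroup.map_id]
        · rintro M M' ⟨g, hg⟩
          refine ⟨g⁻¹, ?_⟩
          rw [hg, map_conj_inv_map_conj]
        · rintro M M' M'' ⟨g, hg⟩ ⟨g', hg'⟩
          refine ⟨g' * g, ?_⟩
          rw [hg', hg, map_conj_map_conj] }
  have : Finite (Quotient s) := Quotient.finite s
  have : Fintype (Quotient s) := Fintype.ofFinite _
  let e := Fintype.equivFin (Quotient s)
  refine ⟨Fintype.card (Quotient s), fun i => (Quotient.out (e.symm i)).1, ?_, ?_, ?_⟩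
  · intro i
    exact (Quotient.out (e.symm i)).2
  · intro i j hij g hg
    apply hij
    have h1 : (Quotient.out (e.symm i)) ≈ (Quotient.out (e.symm j)) := ⟨g, hg⟩
    have h2 := Quotient.sound h1
    rw [Quotient.out_eq, Quotient.out_eq] at h2
    exact e.symm.injective h2
  · intro M hM
    refine ⟨e (Quotient.mk s ⟨M, hM⟩), ?_⟩
    have h1 : Quotient.out (Quotient.mk s ⟨M, hM⟩) ≈ ⟨M, hM⟩ := Quotient.mk_out _
    obtain ⟨g, hg⟩ := h1
    refine ⟨g, ?_⟩
    show M = Subgroup.map (MulEquiv.toMonoidHom (MulAut.conj g))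
      (Quotient.out (e.symm (e (Quotient.mk s ⟨M, hM⟩)))).1
    rw [Equiv.symm_apply_apply]
    exact hg

/-- **the Feit–Hall–Thompson configuration**: a minimal simple CN-group of odd order is partitioned, up to conjugacy, by
the non-identity elements of `k ≥ 2` TI Frobenius kernels of pairwise coprime orders -/
theorem cn_minSimple_partition {G : Type u} [Group G] [Finite G] (hG : Cfsg.IsMinSimpleOddOrder G)
    (hCN : Cfsg.IsCNGroup G) :
    ∃ (k : ℕ) (L H : Fin k → Subgroup G), 2 ≤ k ∧ (∀ i, H i < L i) ∧ (∀ i, H i ≠ ⊥) ∧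
      (∀ i, ∀ x ∈ L i, ∀ h ∈ H i, x * h * x⁻¹ ∈ H i) ∧
      (∀ i, ∀ h ∈ H i, h ≠ 1 → L i ⊓ Subgroup.centralizer ({h} : Set G) ≤ H i) ∧
      (∀ i j, i ≠ j → Nat.Coprime (Nat.card (H i)) (Nat.card (H j))) ∧
      (∀ i, Cfsg.IsTISubset (H i : Set G) ∧ Subgroup.normalizer (H i : Set G) = L i) ∧
      (∀ g : G, g ≠ 1 → ∃ i, ∃ x : G, x * g * x⁻¹ ∈ H i) := by
  have hsimple : IsSimpleGroup G := hG.2.1
  have hnt : Nontrivial G := hsimple.toNontrivial
  obtain ⟨k, Mrep, hmax, hnc, hall⟩ := exists_coatom_representatives G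
  obtain ⟨hcop, hprod, hcover⟩ := Cfsg.Agent.S1484.result hG hCN k Mrep hmax hnc hall
  have hF := fun i => coatom_fittingHallOf hG hCN (Mrep i) (hmax i)
  have hlt : ∀ i, Cfsg.fittingHallOf (Mrep i) < Mrep i := by
    intro i
    obtain ⟨-, hFtop, -, -⟩ := coatom_structure hG hCN (Mrep i) (hmax i)
    refine lt_of_le_of_ne (Subgroup.map_subtype_le _) ?_
    intro h
    apply hFtop
    rw [eq_top_iff]
    intro x _
    have hx : (x : G) ∈ Cfsg.fittingHallOf (Mrep i) := by rw [h]; exact x.2
    obtain ⟨y, hy, hyx⟩ := hx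
    have : y = x := Subtype.ext hyx
    rwa [← this]
  refine ⟨k, Mrep, fun i => Cfsg.fittingHallOf (Mrep i), ?_, hlt, fun i => (hF i).2.1, ?_, ?_, hcop, ?_, ?_⟩
  · -- `2 ≤ k`
    have hcardlt : ∀ i, Nat.card (Cfsg.fittingHallOf (Mrep i)) < Nat.card G := by
      intro i
      have h1 : Cfsg.fittingHallOf (Mrep i) ≠ ⊤ := fun h => by
        have := hlt i
        rw [h] at this
        exact not_top_lt this
      by_contra hge
      push Not at hge
      exact h1 (Subgroup.eq_top_of_le_card _ hge)
    have hG1 : 1 < Nat.card G := Finite.one_lt_card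
    by_contra hk
    push Not at hk
    interval_cases k
    · rw [Fin.prod_univ_zero] at hprod
      omega
    · rw [Fin.prod_univ_one] at hprod
      have := hcardlt 0
      omega
  · intro i x hx h hh
    obtain ⟨-, -, hnorm, -⟩ := hF i
    rw [← hnorm] at hx
    exact (Subgroup.mem_normalizer_iff.mp hx h).mp hh
  · intro i h hh hh1
    obtain ⟨hnil, -, -, hmaxF⟩ := hF i
    have hti := maxNilpotent_ti hG hCN _ hnil hmaxF
    exact inf_le_right.trans ((Cfsg.Agent.S1477.result hCN _ hnil hmaxF).2.2 hti h hh hh1)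
  · intro i
    obtain ⟨hnil, -, hnorm, hmaxF⟩ := hF i
    refine ⟨?_, hnorm⟩
    intro g hg x hx hgx
    by_contra hx1
    have hti := maxNilpotent_ti hG hCN _ hnil hmaxF g⁻¹
    have hne : (Cfsg.fittingHallOf (Mrep i)).map (MulAut.conj g⁻¹).toMonoidHom ≠
        Cfsg.fittingHallOf (Mrep i) := by
      intro h
      apply hg
      have h2 : g⁻¹ ∈ Subgroup.normalizer ((Cfsg.fittingHallOf (Mrep i) : Subgroup G) : Set G) := by
        rw [Subgroup.mem_normalizer_iff]
        intro y
        constructor
        · intro hy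
          rw [← h]
          exact ⟨y, hy, by simp⟩
        · intro hy
          rw [← h] at hy
          obtain ⟨w, hw, hwy⟩ := hy
          have : w = y := by
            have h3 : g⁻¹ * w * g⁻¹⁻¹ = g⁻¹ * y * g⁻¹⁻¹ := by simpa [MulAut.conj_apply] using hwy
            exact mul_left_cancel (mul_right_cancel h3)
          rwa [← this]
      have := Subgroup.inv_mem _ h2
      rwa [inv_inv] at this
    have hmem : x ∈ Cfsg.fittingHallOf (Mrep i) ⊓
        (Cfsg.fittingHallOf (Mrep i)).map (MulAut.conj g⁻¹).toMonoidHom := by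
      refine Subgroup.mem_inf.mpr ⟨hx, ⟨g * x * g⁻¹, hgx, ?_⟩⟩
      simp [mul_assoc]
    rw [hti hne, Subgroup.mem_bot] at hmem
    exact hx1 hmem
  · intro g _
    exact hcover g

end Cfsg.Agent.Lib.Helper64
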