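import Mathlib
import Cfsg.Agent.Lib.Helper4.PFTypes
import Cfsg.Agent.Lib.Helper26.PFBookB
import Cfsg.Agent.Lib.Helper64.CNMaximal5
import Cfsg.Agent.S1526
import Cfsg.Agent.S1527

/-!
# PF section 12, module X1 (board #2768): not all maximal subgroups are of (book) Type I

If every maximal subgroup of a minimal simple group of odd order were of Type I, with `κ(M) = ∅`,
`M_σ = M_F` and `M` a Frobenius group with kernel `M_F`, then the non-identity elements of `G` would be
partitioned, up to conjugacy, by TI Frobenius kernels of pairwise coprime orders; this is excluded by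
S1526 (at least two classes) and S1527 (one class).
-/

set_option autoImplicit false

namespace Cfsg.Agent.Lib.Helper64.PF12

open Cfsg Cfsg.Agent.Lib.Helper4.PF

universe u

variable {G : Type u} [Group G]

/-- the normalizer of `H \ {1}` is the normalizer of `H` -/
theorem normalizer_diff_one (H : Subgroup G) :
    Subgroup.normalizer ((H : Set G) \ {1}) = Subgroup.normalizer (H : Set G) := by
  ext g
  rw [Subgroup.mem_set_normalizer_iff, Subgroup.mem_normalizer_iff]
  constructor
  · intro h n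
    by_cases hn : n = 1
    · subst hn
      simp
    · have := h n
      simp only [Set.mem_sdiff, SetLike.mem_coe, Set.mem_singleton_iff] at this
      have hc : g * n * g⁻¹ ≠ 1 := fun hc => hn (by
        have h2 : n = g⁻¹ * (g * n * g⁻¹) * g := by group
        rw [h2, hc]; group)
      constructor
      · intro hnH
        exact (this.mp ⟨hnH, hn⟩).1
      · intro hgH
        exact (this.mpr ⟨hgH, hc⟩).1
  · intro h n
    simp only [Set.mem_sdiff, SetLike.mem_coe, Set.mem_singleton_iff]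
    have hiff : n = 1 ↔ g * n * g⁻¹ = 1 := by
      constructor
      · intro hn; subst hn; group
      · intro hc
        have h2 : n = g⁻¹ * (g * n * g⁻¹) * g := by group
        rw [h2, hc]; group
    rw [h n, hiff]

/-- transport of `M_F` to a conjugate: one inclusion (the other follows by symmetry) -/
theorem conj_mem_fittingHallOf_conjSub (M : Subgroup G) (c : G) {x : G}
    (hx : x ∈ fittingHallOf M) : c * x * c⁻¹ ∈ fittingHallOf (conjSub c M) := by
  unfold fittingHallOf at hx ⊢
  obtain ⟨x', hx', rfl⟩ := hx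
  let f : ↥M ≃* ↥(conjSub c M) :=
    M.equivMapOfInjective (MulAut.conj c).toMonoidHom (MulAut.conj c).injective
  have h1 : f x' ∈ fittingHall ↥(conjSub c M) :=
    Cfsg.Agent.Lib.Helper26.PFBook.fittingHall_map_le f ⟨x', hx', rfl⟩
  refine ⟨f x', h1, ?_⟩
  show ((f x' : ↥(conjSub c M)) : G) = c * (x' : G) * c⁻¹
  have h2 : ((f x' : ↥(conjSub c M)) : G) = (MulAut.conj c).toMonoidHom (x' : G) :=
    Subgroup.coe_equivMapOfInjective_apply _ _ _ _
  rw [h2]
  simp [MulAut.conj_apply]

theorem mem_fittingHallOf_of_conjSub (M : Subgroup G) (c : G) {x : G}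
    (hx : x ∈ fittingHallOf (conjSub c M)) : c⁻¹ * x * c ∈ fittingHallOf M := by
  have h := conj_mem_fittingHallOf_conjSub (conjSub c M) c⁻¹ hx
  have h2 : conjSub c⁻¹ (conjSub c M) = M := by
    ext y
    constructor
    · rintro ⟨z, ⟨w, hw, rfl⟩, rfl⟩
      simpa [mul_assoc] using hw
    · intro hy
      refine ⟨c * y * c⁻¹, ⟨y, hy, by simp [MulAut.conj_apply]⟩, ?_⟩
      simp [mul_assoc]
  rw [h2, inv_inv] at h
  exact h

variable [Finite G]

/-- `A(M)` for a subgroup of Frobenius type -/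
theorem litA_eq_of_typeF {M : Subgroup G} (hF : IsOfTypeF ↥M) :
    litA M = {a | a ∈ M ∧ a ≠ 1 ∧ ∃ x ∈ fittingHallOf M, x ≠ 1 ∧ a * x = x * a} := by
  unfold litA
  rw [if_neg (Cfsg.Agent.Lib.Helper26.PFBook.not_isOfTypeP_of_typeF hF)]

/-- for a Frobenius group `M` with kernel `M_F`: `A(M) ⊆ A₁(M)` -/
theorem litA_subset_typeA1_of_frob {M : Subgroup G} (hF : IsOfTypeF ↥M)
    (hfrob : IsFrobWithFittingHall M) : litA M ⊆ typeA1 M := by
  intro a ha
  rw [litA_eq_of_typeF hF] at ha
  obtain ⟨haM, ha1, x, hx, hx1, hax⟩ := ha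
  have hc : a ∈ Subgroup.centralizer ({x} : Set G) := by
    rw [Subgroup.mem_centralizer_iff]
    intro z hz
    rw [Set.mem_singleton_iff] at hz
    subst hz
    exact hax.symm
  have haH : a ∈ fittingHallOf M := hfrob x hx hx1 (Subgroup.mem_inf.mpr ⟨haM, hc⟩)
  unfold typeA1
  rw [Cfsg.Agent.Lib.Helper26.PFBook.typeCore_eq_of_typeF hF]
  exact ⟨haH, by simpa using ha1⟩

/-- `A₁(M) = M_F \ {1}` for `M` of Frobenius type -/
theorem typeA1_eq_of_typeF {M : Subgroup G} (hF : IsOfTypeF ↥M) :
    typeA1 M = (fittingHallOf M : Set G) \ {1} := by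
  unfold typeA1
  rw [Cfsg.Agent.Lib.Helper26.PFBook.typeCore_eq_of_typeF hF]

/-- (i): if all maximal subgroups are Frobenius groups of Type I, then `R(a) = 1` for `a ∈ M_F^#` -/
theorem supportR_eq_bot_of_all_frob (bg : BookBGData G)
    (hall : ∀ M : Subgroup G, IsCoatom M → LitTypeI M)
    (h127 : ∀ L : Subgroup G, IsCoatom L → LitTypeI L → IsFrobWithFittingHall L)
    {M : Subgroup G} (hM : IsCoatom M) {a : G} (ha : a ∈ fittingHallOf M) (ha1 : a ≠ 1) :
    supportR M a = ⊥ := by
  unfold supportR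
  split_ifs with h
  · exfalso
    obtain ⟨hnM, L, ⟨hL, hCL⟩, -⟩ := h
    have hFM : IsOfTypeF ↥M := (hall M hM).1
    have haA : a ∈ litA M := by
      rw [litA_eq_of_typeF hFM]
      exact ⟨Cfsg.Agent.Lib.Helper26.PFEight.fittingHallOf_le M ha, ha1, a, ha, ha1, rfl⟩
    have h3 := (bg.tame M hM (litA M) (Or.inl rfl)).2.2 a haA hnM L hL hCL
    obtain ⟨-, -, -, -, ⟨haL, hnL⟩, -, -⟩ := h3
    exact hnL (litA_subset_typeA1_of_frob (hall L hL).1 (h127 L hL (hall L hL)) haL)
  · rfl

/-- (iii): `M_F` is a TI-subset with normalizer `M` -/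
theorem fittingHallOf_ti_of_all_frob (bg : BookBGData G) (pf8 : BookPF8Data G)
    (hall : ∀ M : Subgroup G, IsCoatom M → LitTypeI M)
    (h127 : ∀ L : Subgroup G, IsCoatom L → LitTypeI L → IsFrobWithFittingHall L)
    {M : Subgroup G} (hM : IsCoatom M) :
    IsTISubset (fittingHallOf M : Set G) ∧ Subgroup.normalizer (fittingHallOf M : Set G) = M := by
  have hFM : IsOfTypeF ↥M := (hall M hM).1
  obtain ⟨hN, hD⟩ := pf8.dade M hM (typeA1 M) (Or.inl rfl)
  rw [typeA1_eq_of_typeF hFM] at hN hD
  rw [normalizer_diff_one] at hN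
  refine ⟨?_, hN⟩
  intro g hg x hx hgx
  by_contra hx1
  apply hg
  rw [hN]
  have hxA : x ∈ (fittingHallOf M : Set G) \ {1} := ⟨hx, by simpa using hx1⟩
  have hgxA : g * x * g⁻¹ ∈ (fittingHallOf M : Set G) \ {1} := by
    refine ⟨hgx, ?_⟩
    simp only [Set.mem_singleton_iff]
    intro hc
    apply hx1
    have h2 : x = g⁻¹ * (g * x * g⁻¹) * g := by group
    rw [h2, hc]; group
  obtain ⟨m, hm, hmx⟩ := hD.fusion x hxA g hgxA
  have hsup := hD.sup_eq x hxA
  rw [supportR_eq_bot_of_all_frob bg hall h127 hM hx hx1, bot_sup_eq] at hsup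
  have hCM : Subgroup.centralizer ({x} : Set G) ≤ M := by
    rw [← hsup]; exact inf_le_left
  have hmg : m⁻¹ * g ∈ Subgroup.centralizer ({x} : Set G) := by
    rw [Subgroup.mem_centralizer_iff]
    intro z hz
    rw [Set.mem_singleton_iff] at hz
    subst hz
    have h2 : m⁻¹ * g * z = m⁻¹ * (g * z * g⁻¹) * g := by group
    rw [h2, ← hmx]; group
  have h3 : g = m * (m⁻¹ * g) := by group
  rw [h3]
  exact M.mul_mem hm (hCM hmg)

/-- **Module X1**: not all maximal subgroups are of (book) Type I. -/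
theorem not_all_litTypeI {G : Type*} [Group G] [Finite G] (hG : IsMinSimpleOddOrder G)
    (bg : BookBGData G) (pf8 : BookPF8Data G)
    (hκ : ∀ M : Subgroup G, IsCoatom M → LitTypeI M → kappa M = ∅)
    (hσ : ∀ M : Subgroup G, IsCoatom M → LitTypeI M → sigmaCore M = fittingHallOf M)
    (h127 : ∀ L : Subgroup G, IsCoatom L → LitTypeI L → IsFrobWithFittingHall L) :
    ∃ M : Subgroup G, IsCoatom M ∧ ¬ LitTypeI M := by
  by_contra hno
  have hall : ∀ M : Subgroup G, IsCoatom M → LitTypeI M := by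
    intro M hM
    by_contra h
    exact hno ⟨M, hM, h⟩
  have hsimple : IsSimpleGroup G := hG.2.1
  have hnt : Nontrivial G := hsimple.toNontrivial
  obtain ⟨k, Mrep, hmax, hnc, hreps⟩ := Cfsg.Agent.Lib.Helper64.exists_coatom_representatives G
  have hF : ∀ i, IsOfTypeF ↥(Mrep i) := fun i => (hall _ (hmax i)).1
  -- `H i < L i`
  have hlt : ∀ i, fittingHallOf (Mrep i) < Mrep i := by
    intro i
    obtain ⟨-, -, -, hFtop, -⟩ := hF i
    refine lt_of_le_of_ne (Subgroup.map_subtype_le _) ?_
    intro h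
    apply hFtop
    rw [eq_top_iff]
    intro x _
    have hx : (x : G) ∈ fittingHallOf (Mrep i) := by rw [h]; exact x.2
    obtain ⟨y, hy, hyx⟩ := hx
    have : y = x := Subtype.ext hyx
    rwa [← this]
  have hne : ∀ i, fittingHallOf (Mrep i) ≠ ⊥ := by
    intro i
    obtain ⟨-, -, hFbot, -, -⟩ := hF i
    intro h
    apply hFbot
    unfold fittingHallOf at h
    exact (Subgroup.map_eq_bot_iff_of_injective _ (Mrep i).subtype_injective).mp h
  have hcop : ∀ i j, i ≠ j → Nat.Coprime (Nat.card (fittingHallOf (Mrep i)))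
      (Nat.card (fittingHallOf (Mrep j))) := by
    intro i j hij
    have h := Cfsg.Agent.Lib.Helper26.PFBook.coprime_card_typeCore bg.sylowNormalizers bg.sigmaPrimes
      (hmax j) (hmax i) (fun g hg => hnc i j hij g hg.symm)
    rw [Cfsg.Agent.Lib.Helper26.PFBook.typeCore_eq_of_typeF (hF i),
      Cfsg.Agent.Lib.Helper26.PFBook.typeCore_eq_of_typeF (hF j)] at h
    exact h.symm
  have hTI : ∀ i, IsTISubset (fittingHallOf (Mrep i) : Set G) ∧
      Subgroup.normalizer (fittingHallOf (Mrep i) : Set G) = Mrep i :=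
    fun i => fittingHallOf_ti_of_all_frob bg pf8 hall h127 (hmax i)
  have hcover : ∀ g : G, g ≠ 1 → ∃ i, ∃ x : G, x * g * x⁻¹ ∈ fittingHallOf (Mrep i) := by
    intro g hg
    obtain ⟨M, hM, a, ha, r, hr, y, hgy⟩ :=
      bg.partition.2.1 (fun M hM => hκ M hM (hall M hM)) g hg
    rw [hσ M hM (hall M hM)] at ha
    have ha1 : a ≠ 1 := by simpa using ha.2
    rw [supportR_eq_bot_of_all_frob bg hall h127 hM ha.1 ha1, Subgroup.mem_bot] at hr
    subst hr
    obtain ⟨i, c, hc⟩ := hreps M hM
    refine ⟨i, c⁻¹ * y⁻¹, ?_⟩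
    have h1 : c⁻¹ * a * c ∈ fittingHallOf (Mrep i) := by
      apply mem_fittingHallOf_of_conjSub
      have : conjSub c (Mrep i) = M := hc.symm
      rw [this]
      exact ha.1
    have h2 : c⁻¹ * y⁻¹ * g * (c⁻¹ * y⁻¹)⁻¹ = c⁻¹ * a * c := by
      rw [hgy]; group
    rw [h2]
    exact h1
  by_cases hk : 2 ≤ k
  · exact Cfsg.Agent.S1526.result hG.1 (ι := Fin k) (by simpa using hk) Mrep
      (fun i => fittingHallOf (Mrep i)) hlt hne
      (fun i x hx h hh => Cfsg.Agent.Lib.Helper26.PFEight.conj_mem_fittingHallOf (Mrep i) hx hh)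
      (fun i => h127 _ (hmax i) (hall _ (hmax i))) hcop hTI hcover
  · have h27 := Cfsg.Agent.S1527.result (ι := Fin k) (fun i => fittingHallOf (Mrep i)) hcop
      (fun i => (hTI i).1) hcover
    have hG1 : 1 < Nat.card G := Finite.one_lt_card
    push Not at hk
    interval_cases k
    · rw [Fin.sum_univ_zero] at h27
      omega
    · rw [Fin.sum_univ_one, (hTI 0).2] at h27
      have h4 : Nat.card (fittingHallOf (Mrep 0)) < Nat.card (Mrep 0) := by
        by_contra hge
        push Not at hge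
        have hle : fittingHallOf (Mrep 0) ≤ Mrep 0 := (hlt 0).le
        have : Nat.card ↥(fittingHallOf (Mrep 0)) = Nat.card ↥(Mrep 0) :=
          le_antisymm (Subgroup.card_le_of_le hle) hge
        have heq : fittingHallOf (Mrep 0) = Mrep 0 :=
          Subgroup.eq_of_le_of_card_ge hle (by rw [this])
        exact (hlt 0).ne heq
      have h5 : Nat.card (Mrep 0) * (Mrep 0).index = Nat.card G := Subgroup.card_mul_index _
      have h6 : 0 < (Mrep 0).index := Nat.pos_of_ne_zero Subgroup.index_ne_zero_of_finite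
      have h7 : 0 < Nat.card (fittingHallOf (Mrep 0)) := Nat.card_pos
      have h8 : (Mrep 0).index * (Nat.card (fittingHallOf (Mrep 0)) - 1) + (Mrep 0).index =
          (Mrep 0).index * Nat.card (fittingHallOf (Mrep 0)) := by
        obtain ⟨n, hn⟩ : ∃ n, Nat.card (fittingHallOf (Mrep 0)) = n + 1 := ⟨_, (Nat.succ_pred_eq_of_pos h7).symm⟩
        rw [hn]; simp; ring
      have h9 : (Mrep 0).index * Nat.card (fittingHallOf (Mrep 0)) + (Mrep 0).index ≤
          (Mrep 0).index * Nat.card (Mrep 0) := by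
        have : Nat.card (fittingHallOf (Mrep 0)) + 1 ≤ Nat.card (Mrep 0) := h4
        calc (Mrep 0).index * Nat.card (fittingHallOf (Mrep 0)) + (Mrep 0).index
            = (Mrep 0).index * (Nat.card (fittingHallOf (Mrep 0)) + 1) := by ring
          _ ≤ (Mrep 0).index * Nat.card (Mrep 0) := Nat.mul_le_mul_left _ this
      have h10 : (Mrep 0).index * Nat.card (Mrep 0) = Nat.card G := by rw [mul_comm]; exact h5
      omega

end Cfsg.Agent.Lib.Helper64.PF12
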