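import Mathlib
import Cfsg.Agent.Lib.Helper64.PFTwelveX1

/-!
# PF section 11/13, module E6 (board #2754): centralizers of the elements of `A₀(M)` for `M` of type P

For a maximal subgroup `M` with type-P data, granted (12.7) (every maximal subgroup of book Type I is a
Frobenius group with kernel `M_F`): `C_G(x) ≤ M` for all `x ∈ A₀(M)`, `A₀(M)` is a TI-subset and
`N_G(A₀(M)) = M`.  This is item (e) of Peterfalvi's Hypothesis 13.1 / `FTtypeP_facts`.
-/

set_option autoImplicit false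

namespace Cfsg.Agent.Lib.Helper64.PF11

open Cfsg Cfsg.Agent.Lib.Helper4.PF Cfsg.Agent.Lib.Helper64.PF12

universe u

variable {G : Type u} [Group G]

/-- a subgroup with type-P data is not a Frobenius group with kernel `M_F` -/
theorem not_isFrobWithFittingHall_of_typeP {M W₁ U W₂ : Subgroup G} (hP : IsTypePWith M W₁ U W₂) :
    ¬ IsFrobWithFittingHall M := by
  intro hfrob
  obtain ⟨-, hW2ne, -, hcomm, -, -⟩ := hP.selfNormalizing
  obtain ⟨x, hx1⟩ := (Subgroup.ne_bot_iff_exists_ne_one).mp hW2ne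
  obtain ⟨w, hw1⟩ := (Subgroup.ne_bot_iff_exists_ne_one).mp hP.W₁_ne
  have hxH : (x : G) ∈ fittingHallOf M := (hP.W₂_le x.2).1
  have hx1' : (x : G) ≠ 1 := fun h => hx1 (Subtype.ext h)
  have hw1' : (w : G) ≠ 1 := fun h => hw1 (Subtype.ext h)
  have hwM : (w : G) ∈ M := hP.W₁_compl.2.1 w.2
  have hwC : (w : G) ∈ Subgroup.centralizer ({(x : G)} : Set G) := by
    rw [Subgroup.mem_centralizer_iff]
    intro z hz
    rw [Set.mem_singleton_iff] at hz
    subst hz
    exact (hcomm w w.2 x x.2).symm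
  have hwH : (w : G) ∈ fittingHallOf M := hfrob x hxH hx1' (Subgroup.mem_inf.mpr ⟨hwM, hwC⟩)
  have hwK : (w : G) ∈ ⁅M, M⁆ := hP.U_compl.1 hwH
  have hbot : (w : G) ∈ (⁅M, M⁆ ⊓ W₁ : Subgroup G) := Subgroup.mem_inf.mpr ⟨hwK, w.2⟩
  rw [hP.W₁_compl.2.2.1, Subgroup.mem_bot] at hbot
  exact hw1' hbot

variable [Finite G]

/-- **Module E6**: for `M` maximal with type-P data, granted (12.7): all centralizers of elements of
`A₀(M)` lie in `M`; `A₀(M)` is TI with normalizer `M`. -/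
theorem typeP_centralizer_le_and_ti (bg : BookBGData G) (pf8 : BookPF8Data G)
    (h127 : ∀ L : Subgroup G, IsCoatom L → LitTypeI L → IsFrobWithFittingHall L)
    {M W₁ U W₂ : Subgroup G} (hM : IsCoatom M) (hP : IsTypePWith M W₁ U W₂) :
    (∀ x ∈ litA0 M, Subgroup.centralizer ({x} : Set G) ≤ M) ∧
      IsTISubset (litA0 M) ∧ Subgroup.normalizer (litA0 M) = M := by
  have hcent : ∀ x ∈ litA0 M, Subgroup.centralizer ({x} : Set G) ≤ M := by
    intro x hx
    by_contra hnM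
    obtain ⟨-, hex, h3⟩ := bg.tame M hM (litA0 M) (Or.inr rfl)
    obtain ⟨-, L, ⟨hL, hCL⟩, -⟩ := hex x hx hnM
    obtain ⟨-, -, -, -, ⟨hxL, hxnL⟩, htype, hII⟩ := h3 x hx hnM L hL hCL
    rcases htype with hI | hII'
    · exact hxnL (litA_subset_typeA1_of_frob hI.1 (h127 L hL hI) hxL)
    · exact not_isFrobWithFittingHall_of_typeP hP (hII hII')
  obtain ⟨hN, hD⟩ := pf8.dade M hM (litA0 M) (Or.inr (Or.inr rfl))
  refine ⟨hcent, ?_, hN⟩
  intro g hg x hx hgx
  exfalso
  apply hg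
  rw [hN]
  obtain ⟨m, hm, hmx⟩ := hD.fusion x hx g hgx
  have hmg : m⁻¹ * g ∈ Subgroup.centralizer ({x} : Set G) := by
    rw [Subgroup.mem_centralizer_iff]
    intro z hz
    rw [Set.mem_singleton_iff] at hz
    subst hz
    have h2 : m⁻¹ * g * z = m⁻¹ * (g * z * g⁻¹) * g := by group
    rw [h2, ← hmx]; group
  have h3 : g = m * (m⁻¹ * g) := by group
  rw [h3]
  exact M.mul_mem hm (hcent x hx hmg)

end Cfsg.Agent.Lib.Helper64.PF11
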