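import Mathlib
import Cfsg.Agent.Lib.Helper64.PFElevenDegQ

/-!
# PROJECT PF, Peterfalvi section 11 (end game): the degree-`q` bridge without Galois pattern (helper64)

`degq_sum`: a class function `Γ` vanishing on `W ∖ (W₁ ∪ W₂)`, with integral coefficients
`c ω = ⟨Γ, η ω⟩`, `c 1 = 1`, `‖Γ‖² = q + 1` and `∑_φ c φ = q` (`φ` trivial on `W₂`) has
`c ω = 1` for `ω` trivial on `W₂` and `c ω = 0` otherwise.  (Used for Type IV, `p < q`, where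
the pattern theorem S1507 cannot exclude the transposed solution.)
-/

set_option autoImplicit false
set_option linter.unusedSectionVars false
open Cfsg
open scoped ComplexConjugate

namespace Cfsg.Agent.Lib.Helper64.PF11

open Cfsg.Agent.Lib.Helper26 Cfsg.Agent.Lib.Helper52.BL
open Cfsg.Agent.Lib
open Cfsg.Agent.Lib.Helper25 (dualOf mem_dualOf one_mem_dualOf)

theorem sum_add_sq {α β : Type*} (s : Finset α) (t : Finset β) (x : α → ℤ) (y : β → ℤ) :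
    ∑ a ∈ s, ∑ b ∈ t, (x a + y b) ^ 2 =
      (t.card : ℤ) * ∑ a ∈ s, x a ^ 2 + 2 * (∑ a ∈ s, x a) * (∑ b ∈ t, y b) +
        (s.card : ℤ) * ∑ b ∈ t, y b ^ 2 := by
  have h1 : ∀ a ∈ s, ∑ b ∈ t, (x a + y b) ^ 2 =
      (t.card : ℤ) * x a ^ 2 + 2 * x a * (∑ b ∈ t, y b) + ∑ b ∈ t, y b ^ 2 := by
    intro a _
    simp only [add_sq, Finset.sum_add_distrib, Finset.sum_const, nsmul_eq_mul, ← Finset.mul_sum]
  rw [Finset.sum_congr rfl h1]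
  simp only [Finset.sum_add_distrib, Finset.sum_const, nsmul_eq_mul, ← Finset.mul_sum,
    ← Finset.sum_mul]

section Abstract

variable {A : Type*} [Group A] [Fintype A]

/-- the integer core of `degq_sum` -/
theorem degq_int (hc : ∀ a b : A, a * b = b * a) (A₁ A₂ : Subgroup A)
    (hext : ∀ φ : A →* ℂˣ, (∀ w ∈ A₁, φ w = 1) → (∀ w ∈ A₂, φ w = 1) → φ = 1)
    (hcard : Nat.card A = Nat.card A₁ * Nat.card A₂) [Fintype (A →* ℂˣ)]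
    (c : (A →* ℂˣ) → ℤ) (hq2 : 2 ≤ Nat.card A₁) (hp2 : 2 ≤ Nat.card A₂)
    (hrect : ∀ φ ∈ dualOf A₂, ∀ ψ ∈ dualOf A₁, c (φ * ψ) = c φ + c ψ - c 1)
    (h1 : c 1 = 1) (hsq : ∑ ω, (c ω) ^ 2 ≤ (Nat.card A₁ : ℤ) + 1)
    (hsum : ∑ φ ∈ dualOf A₂, c φ = (Nat.card A₁ : ℤ)) :
    (∀ φ ∈ dualOf A₂, c φ = 1) ∧ (∀ ψ ∈ dualOf A₁, ψ ≠ 1 → c ψ = 0) := by
  classical
  obtain ⟨c1, c2⟩ := Cfsg.Agent.S1507.card_dual_eq hc A₁ A₂ hcard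
  rw [sum_hom_eq_sum_product hc A₁ A₂ hext hcard] at hsq
  have h2 : ∀ φ ∈ dualOf A₂, ∑ ψ ∈ dualOf A₁, (c (φ * ψ)) ^ 2 =
      ∑ ψ ∈ dualOf A₁, ((c φ - 1) + c ψ) ^ 2 := by
    intro φ hφ
    apply Finset.sum_congr rfl
    intro ψ hψ
    rw [hrect φ hφ ψ hψ, h1]
    ring
  rw [Finset.sum_congr rfl h2, sum_add_sq, c1, c2] at hsq
  have hx0 : ∑ φ ∈ dualOf A₂, (c φ - 1) = 0 := by
    rw [Finset.sum_sub_distrib, hsum, Finset.sum_const, c1]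
    simp
  rw [hx0, mul_zero, zero_mul, add_zero] at hsq
  -- split off `ψ = 1`
  rw [← Finset.add_sum_erase _ _ (one_mem_dualOf A₁), h1] at hsq
  have hX : 0 ≤ ∑ φ ∈ dualOf A₂, (c φ - 1) ^ 2 := Finset.sum_nonneg (fun _ _ => sq_nonneg _)
  have hY : 0 ≤ ∑ ψ ∈ (dualOf A₁).erase 1, c ψ ^ 2 := Finset.sum_nonneg (fun _ _ => sq_nonneg _)
  have hq2' : (2 : ℤ) ≤ (Nat.card A₁ : ℤ) := by exact_mod_cast hq2
  have hp2' : (2 : ℤ) ≤ (Nat.card A₂ : ℤ) := by exact_mod_cast hp2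
  have hX0 : ∑ φ ∈ dualOf A₂, (c φ - 1) ^ 2 = 0 := by nlinarith
  have hY0 : ∑ ψ ∈ (dualOf A₁).erase 1, c ψ ^ 2 = 0 := by nlinarith
  constructor
  · intro φ hφ
    have := (Finset.sum_eq_zero_iff_of_nonneg (fun _ _ => sq_nonneg _)).mp hX0 φ hφ
    have h3 : c φ - 1 = 0 := by simpa using this
    omega
  · intro ψ hψ hψ1
    have := (Finset.sum_eq_zero_iff_of_nonneg (fun _ _ => sq_nonneg _)).mp hY0 ψ
      (Finset.mem_erase.mpr ⟨hψ1, hψ⟩)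
    simpa using this

end Abstract

variable {G : Type*} [Group G] [Fintype G]

open Classical in
/-- **[DEGQ']**: the coefficients of a degree-`q` bridge without the Galois pattern. -/
theorem degq_sum (W₁ W₂ : Subgroup G) (hW : IsSelfNormalizingCyclic W₁ W₂)
    (χ : (↥(W₁ ⊔ W₂) →* ℂˣ) → (G → ℂ)) (hχ : IsCyclicTIFamily W₁ W₂ χ)
    (hq2 : 2 ≤ Nat.card W₁) (hp2 : 2 ≤ Nat.card W₂)
    (Γ : G → ℂ) (hΓ : IsClassFunction G Γ)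
    (hΓV : ∀ w : ↥(W₁ ⊔ W₂), (w : G) ∉ W₁ → (w : G) ∉ W₂ → Γ w = 0)
    (hint : ∀ ω, ∃ n : ℤ, classInner Γ (χ ω) = (n : ℂ))
    (he1 : classInner Γ (χ 1) = 1)
    (hnorm : classInner Γ Γ = (Nat.card W₁ : ℂ) + 1)
    (hsum : ∀ S : Finset (↥(W₁ ⊔ W₂) →* ℂˣ),
      (∀ φ, φ ∈ S ↔ ∀ w : ↥(W₁ ⊔ W₂), (w : G) ∈ W₂ → φ w = 1) →
      ∑ φ ∈ S, classInner Γ (χ φ) = (Nat.card W₁ : ℂ)) :
    ∀ ω : ↥(W₁ ⊔ W₂) →* ℂˣ, classInner Γ (χ ω) =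
      if (∀ w : ↥(W₁ ⊔ W₂), (w : G) ∈ W₂ → ω w = 1) then 1 else 0 := by
  have hFW : Fintype ↥(W₁ ⊔ W₂) := Fintype.ofFinite _
  have hFH : Fintype (↥(W₁ ⊔ W₂) →* ℂˣ) := Fintype.ofFinite _
  obtain ⟨hWcomm, hext, hcard, hc1, hc2⟩ := ti_setup W₁ W₂ hW
  set A₁ := W₁.subgroupOf (W₁ ⊔ W₂) with hA₁
  set A₂ := W₂.subgroupOf (W₁ ⊔ W₂) with hA₂
  have hmem₂ : ∀ φ : ↥(W₁ ⊔ W₂) →* ℂˣ, φ ∈ dualOf A₂ ↔
      ∀ w : ↥(W₁ ⊔ W₂), (w : G) ∈ W₂ → φ w = 1 := by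
    intro φ
    rw [mem_dualOf]
    exact ⟨fun h w hw => h w hw, fun h w hw => h w hw⟩
  have hmem₁ : ∀ ψ : ↥(W₁ ⊔ W₂) →* ℂˣ, ψ ∈ dualOf A₁ ↔
      ∀ w : ↥(W₁ ⊔ W₂), (w : G) ∈ W₁ → ψ w = 1 := by
    intro ψ
    rw [mem_dualOf]
    exact ⟨fun h w hw => h w hw, fun h w hw => h w hw⟩
  choose c hc using hint
  have hinj : Function.Injective (Int.cast : ℤ → ℂ) := Int.cast_injective
  have hrect : ∀ φ ∈ dualOf A₂, ∀ ψ ∈ dualOf A₁, c (φ * ψ) = c φ + c ψ - c 1 := by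
    intro φ hφ ψ hψ
    apply hinj
    have := Cfsg.Agent.S1506.key W₁ W₂ χ hχ Γ hΓ hΓV φ ψ ((hmem₂ φ).1 hφ) ((hmem₁ ψ).1 hψ)
    rw [hc, hc, hc, hc] at this
    rw [this]
    push_cast
    ring
  have h1 : c 1 = 1 := by
    apply hinj
    rw [← hc 1, he1]
    simp
  -- Bessel
  have hb := bessel_on Γ χ (fun ω => by rw [hχ.orthonormal, if_pos rfl])
    (fun ω ω' h => by rw [hχ.orthonormal, if_neg h]) (fun ω => (c ω : ℝ))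
    (fun ω => by rw [hc ω]; simp)
  rw [hnorm] at hb
  have hb2 : ∑ ω, (c ω) ^ 2 ≤ (Nat.card A₁ : ℤ) + 1 := by
    rw [hc1]
    have h3 : ((∑ ω, (c ω) ^ 2 : ℤ) : ℝ) ≤ (((Nat.card W₁ : ℤ) + 1 : ℤ) : ℝ) := by
      push_cast
      simpa using hb
    exact_mod_cast h3
  have hs2 : ∑ φ ∈ dualOf A₂, c φ = (Nat.card A₁ : ℤ) := by
    apply hinj
    rw [hc1]
    have := hsum (dualOf A₂) hmem₂
    push_cast
    rw [← this]
    exact Finset.sum_congr rfl (fun φ _ => (hc φ).symm)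
  obtain ⟨hD₂, hD₁⟩ := degq_int hWcomm A₁ A₂ hext hcard c (by rw [hc1]; exact hq2)
    (by rw [hc2]; exact hp2) hrect h1 hb2 hs2
  intro ω
  obtain ⟨φ, hφ, ψ, hψ, rfl⟩ := Cfsg.Agent.S1507.factor_surj hWcomm A₁ A₂ hext hcard ω
  rw [hc, hrect φ hφ ψ hψ, hD₂ φ hφ, h1]
  by_cases hψ1 : ψ = 1
  · subst hψ1
    rw [h1, if_pos]
    · simp
    · rw [mul_one φ]
      exact (hmem₂ φ).1 hφ
  · rw [hD₁ ψ hψ hψ1, if_neg]
    · simp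
    · intro h
      apply hψ1
      apply hext ψ ((hmem₁ ψ).1 hψ)
      intro w hw
      have hw' : (w : G) ∈ W₂ := Subgroup.mem_subgroupOf.mp hw
      have h2 := h w hw'
      rw [MonoidHom.mul_apply, (hmem₂ φ).1 hφ w hw', one_mul] at h2
      exact h2

end Cfsg.Agent.Lib.Helper64.PF11
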