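import Mathlib
import Cfsg.Agent.Lib.Helper64.PFElevenChainB
import Cfsg.Agent.Lib.Helper64.PFElevenKZero
import Cfsg.Agent.Lib.Helper64.PFElevenDegQ2

/-!
# PROJECT PF, Peterfalvi section 11 (end game): chain A (Type IV, `p < q`) (helper64)

With a coherent `Z` containing many irreducible members of small degree (`ChainData` with `g = r`),
`k = 0` (`kzero`), `E = r Θ` (`anchor_abs`), and the degree-`q` member `ζ` has a bridge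
(`degq_sum`), which satisfies `hr` (`hr_of_anchor`).
-/

set_option autoImplicit false

namespace Cfsg.Agent.Lib.Helper64.PF11

open Cfsg Cfsg.Agent.Lib.Helper24.PFCyc Cfsg.Agent.Lib.Helper4.PF Cfsg.Agent.Lib.Helper26
open scoped ComplexConjugate

universe u

variable {G : Type u} [Group G] [Fintype G] {M W₁ U W₂ : Subgroup G} [Fintype M]
  {mu : WChar W₁ W₂ → (↥M → ℂ)} {dl : WChar W₁ W₂ → ℂ} {η : WChar W₁ W₂ → (G → ℂ)}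
  {d : ℕ} {δ : ℂ} {n : ℤ}
  {Z : Set (↥M → ℂ)} {τ₁ : (↥M → ℂ) → (G → ℂ)} {g : ℕ} {a : (↥M → ℂ) → ℕ}
  {E : G → ℂ} {A B k : ℤ}

/-- `⟨τ₁ ξ, 1⟩ = 0` for `ξ ∈ Z` -/
theorem ChainData.tau1_one (C : ChainData M W₁ W₂ mu η δ Z τ₁ g a E A B k)
    (F : Frame M W₁ U W₂ mu dl η d δ n) (ξ : ↥M → ℂ) (hξ : ξ ∈ Z) :
    classInner (τ₁ ξ) (fun _ => 1) = 0 := by
  obtain ⟨-, h1, -, h3, -⟩ := Cfsg.Agent.Lib.Helper51.PF11.calS0_inner F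
  have hm : (((g * a ξ : ℕ) : ℂ) • muSum mu 1 - ξ) ∈ zspanOn (calS0 M mu) ({1}ᶜ : Set ↥M) := by
    apply cmu_sub_mem F (g * a ξ) ξ (C.hZ hξ)
    rw [C.ha ξ hξ, mul_assoc]
  have h := (Cfsg.Agent.Lib.Helper51.PF11.tau_isometry F).2.2.1 _ hm
  rw [C.star ξ hξ, classInner_sub_left, classInner_sub_left, classInner_smul_left,
    classInner_smul_left, C.one, h1, (h3 ξ (C.hZ hξ)).2.2.1] at h
  have h2 : classInner (τ₁ ξ) (fun _ => 1) =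
      ((a ξ : ℕ) : ℂ) * (g : ℂ) - (((g * a ξ : ℕ) : ℂ) * 1 - 0) := by
    linear_combination -h
  rw [h2]
  push_cast
  ring

/-- the `τ₁ ξ`, `ξ ∈ Z` irreducible, are orthonormal -/
theorem ChainData.tau1_orth (C : ChainData M W₁ W₂ mu η δ Z τ₁ g a E A B k)
    (F : Frame M W₁ U W₂ mu dl η d δ n) (ξ ξ' : ↥M → ℂ) (hξ : ξ ∈ Z) (hξ' : ξ' ∈ Z)
    (hi : IsIrrCharacter ↥M ξ) :
    classInner (τ₁ ξ) (τ₁ ξ) = 1 ∧ (ξ ≠ ξ' → classInner (τ₁ ξ) (τ₁ ξ') = 0) := by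
  obtain ⟨-, -, -, -, h5, h6, -⟩ := Cfsg.Agent.Lib.Helper51.PF11.calS0_inner F
  have hz : ∀ ν ∈ Z, ν ∈ zspan Z := fun ν hν => Submodule.subset_span hν
  constructor
  · rw [C.hτ₁.2.2.1 ξ (hz ξ hξ) ξ (hz ξ hξ), h6 ξ (C.hZ hξ) hi]
  · intro hne
    rw [C.hτ₁.2.2.1 ξ (hz ξ hξ) ξ' (hz ξ' hξ'), h5 ξ (C.hZ hξ) ξ' (C.hZ hξ') hne]

/-- `k = 0` when the irreducible members of `Z` have enough weight -/
theorem ChainData.k_zero (C : ChainData M W₁ W₂ mu η δ Z τ₁ g a E A B k)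
    (F : Frame M W₁ U W₂ mu dl η d δ n) (I : Finset (↥M → ℂ))
    (hI : ∀ ξ ∈ I, ξ ∈ Z ∧ IsIrrCharacter ↥M ξ)
    (hw : g ^ 2 * (Nat.card W₁ - 1) + 2 < ∑ ξ ∈ I, (a ξ) ^ 2) : k = 0 := by
  classical
  have hq1 : 1 ≤ Nat.card W₁ := F.hq.one_lt.le
  have hwR : ((g : ℝ)) ^ 2 * ((Nat.card W₁ : ℝ) - 1) + 2 < ∑ ξ ∈ I, ((a ξ : ℕ) : ℝ) ^ 2 := by
    have h1 : ((g ^ 2 * (Nat.card W₁ - 1) + 2 : ℕ) : ℝ) < ((∑ ξ ∈ I, (a ξ) ^ 2 : ℕ) : ℝ) := by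
      exact_mod_cast hw
    rw [Nat.cast_add, Nat.cast_mul, Nat.cast_pow, Nat.cast_sub hq1, Nat.cast_sum] at h1
    simpa using h1
  have hgR : (0 : ℝ) < (g : ℝ) ^ 2 := by
    have : (0 : ℝ) < (g : ℝ) := by exact_mod_cast C.hg
    positivity
  refine kzero E (fun i : ↥I => τ₁ (i : ↥M → ℂ)) (fun _ => 1) (fun _ => one_pos) ?_ ?_ ?_
    (fun i : ↥I => ((g * a (i : ↥M → ℂ) : ℕ) : ℤ)) (g : ℤ) (Nat.card W₁ : ℤ) k
    (by exact_mod_cast C.hg) (by exact_mod_cast hq1) ?_ ?_ ?_ ?_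
  · intro i
    rw [(C.tau1_orth F i i (hI i i.2).1 (hI i i.2).1 (hI i i.2).2).1]
    simp
  · intro i j hij
    have hne : (i : ↥M → ℂ) ≠ (j : ↥M → ℂ) := fun h => hij (Subtype.ext h)
    exact (C.tau1_orth F i j (hI i i.2).1 (hI j j.2).1 (hI i i.2).2).2 hne
  · intro i
    exact C.tau1_one F i (hI i i.2).1
  · rw [C.one]
    simp
  · intro i
    rw [C.inner i (hI i i.2).1]
    push_cast
    ring
  · have h1 : classInner E E =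
        ((((g : ℤ) : ℝ) ^ 2 * ((Nat.card W₁ : ℤ) : ℝ) + 2 * (k : ℝ) : ℝ) : ℂ) := by
      rw [C.norm]
      push_cast
      ring
    rw [h1, Complex.ofReal_re]
  · have h2 : ∑ i : ↥I, (((g * a (i : ↥M → ℂ) : ℕ) : ℤ) : ℝ) ^ 2 / 1 =
        (g : ℝ) ^ 2 * ∑ ξ ∈ I, ((a ξ : ℕ) : ℝ) ^ 2 := by
      rw [Finset.mul_sum, ← Finset.sum_coe_sort I]
      apply Finset.sum_congr rfl
      intro i _
      push_cast
      ring
    rw [h2]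
    push_cast
    exact mul_lt_mul_of_pos_left hwR hgR

theorem finset_eq_trivSet (S : Finset (↥(W₁ ⊔ W₂) →* ℂˣ))
    (hS : ∀ φ, φ ∈ S ↔ ∀ w : ↥(W₁ ⊔ W₂), (w : G) ∈ W₂ → φ w = 1) : S = trivSet W₁ W₂ W₂ := by
  ext φ
  rw [hS φ, mem_trivSet]
  rfl

theorem etaSum_one_eq (η : WChar W₁ W₂ → (G → ℂ)) :
    etaSum η 1 = ∑ φ ∈ trivSet W₁ W₂ W₂, η φ := by
  unfold etaSum
  exact Finset.sum_congr rfl (fun φ _ => by rw [mul_one φ])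

/-- the anchor of chain A: `E = g Θ` when `k = 0` and `2 g < q + p - 1` -/
theorem ChainData.anchorA (C : ChainData M W₁ W₂ mu η δ Z τ₁ g a E A B k)
    (F : Frame M W₁ U W₂ mu dl η d δ n) (hk : k = 0)
    (h2g : 2 * g < Nat.card W₁ + Nat.card W₂ - 1) :
    E = (g : ℂ) • etaSum η 1 := by
  have hq3 : 3 ≤ Nat.card W₁ :=
    three_le_of_odd_prime F.hq (Subgroup.card_subgroup_dvd_card W₁) F.hodd
  have hp3 : 3 ≤ Nat.card W₂ :=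
    three_le_of_odd_prime F.hp (Subgroup.card_subgroup_dvd_card W₂) F.hodd
  obtain ⟨ψ₀, hψ₀, hψ₀1⟩ := exists_psi F.hP.selfNormalizing F.hp
  have key := anchor_abs W₁ W₂ F.hP.selfNormalizing η F.hη (Nat.card W₂) (Nat.card W₁) rfl rfl
    hp3 hq3 E (Cfsg.Agent.Lib.Helper25.dgen_isClassFunction C.gen) C.van (g : ℤ) A B
    (by exact_mod_cast C.hg) (by omega)
    (by rw [C.eta_one F]; simp)
    (fun φ h1 h2 => C.coefA φ h1 h2) (fun ψ h1 h2 => C.coefB ψ h1 h2) ψ₀ hψ₀1 hψ₀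
    (by
      intro S hS
      rw [finset_eq_trivSet S hS, C.col F ψ₀ hψ₀ hψ₀1, hk]
      simp)
    (by
      have h1 : classInner E E = ((((g : ℤ) : ℝ) ^ 2 * ((Nat.card W₁ : ℕ) : ℝ) : ℝ) : ℂ) := by
        rw [C.norm, hk]
        push_cast
        ring
      rw [h1, Complex.ofReal_re])
  have h := key.2.2.2 (trivSet W₁ W₂ W₂) (fun φ => by rw [mem_trivSet]; rfl)
  rw [h, etaSum_one_eq]
  simp

/-- basic facts on `Γ = τ(μ₀ - ζ)` for `ζ ∈ calS M` of degree `q` -/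
theorem gamma_facts (F : Frame M W₁ U W₂ mu dl η d δ n) (ζ : ↥M → ℂ) (hζ : ζ ∈ calS M)
    (hζ1 : ζ 1 = (Nat.card W₁ : ℂ)) :
    IsGeneralizedCharacter G (tauM M (muSum mu 1 - ζ)) ∧
    (∀ w : ↥(W₁ ⊔ W₂), (w : G) ∉ W₁ → (w : G) ∉ W₂ → tauM M (muSum mu 1 - ζ) (w : G) = 0) ∧
    classInner (tauM M (muSum mu 1 - ζ)) (η 1) = 1 ∧
    classInner (tauM M (muSum mu 1 - ζ)) (tauM M (muSum mu 1 - ζ)) = (Nat.card W₁ : ℂ) + 1 := by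
  obtain ⟨-, h1, -, h3, -, h6, -⟩ := Cfsg.Agent.Lib.Helper51.PF11.calS0_inner F
  have e1 : muSum mu 1 - ζ = (((1 : ℕ) : ℕ) : ℂ) • muSum mu 1 - ζ := by
    rw [Nat.cast_one, one_smul]
  have hm : (muSum mu 1 - ζ) ∈ zspanOn (calS0 M mu) ({1}ᶜ : Set ↥M) := by
    rw [e1]
    apply cmu_sub_mem F 1 ζ hζ
    rw [hζ1, mul_one]
  have hiso := Cfsg.Agent.Lib.Helper51.PF11.tau_isometry F
  have hζirr : IsIrrCharacter ↥M ζ := by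
    rcases F.calS_cases ζ hζ with h | ⟨ψ, hψ, hψ1, h⟩
    · exact h.1
    · exact absurd h (ne_muSum_of_deg F ζ hζ1 ψ hψ hψ1)
  refine ⟨hiso.1.2.2.2 _ hm, hiso.2.2.2 _ hm, ?_, ?_⟩
  · rw [F.hη.map_one, hiso.2.2.1 _ hm, classInner_sub_left, h1, (h3 ζ hζ).2.2.1, sub_zero]
  · rw [tau_inner F _ _ hm hm, e1, inner_cmu_sub F 1 1 ζ ζ hζ hζ, h6 ζ hζ hζirr]
    simp

/-- a degree-`q` member `ζ` whose `Γ = τ(μ₀ - ζ)` has row sum `q` has a bridge -/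
theorem bridge_of_sum (F : Frame M W₁ U W₂ mu dl η d δ n) (ζ : ↥M → ℂ) (hζ : ζ ∈ calS M)
    (hζ1 : ζ 1 = (Nat.card W₁ : ℂ))
    (hsum : ∑ φ ∈ trivSet W₁ W₂ W₂, classInner (tauM M (muSum mu 1 - ζ)) (η φ) =
      (Nat.card W₁ : ℂ)) :
    ∃ χ : G → ℂ, IsGeneralizedCharacter G χ ∧ classInner χ χ = 1 ∧
      (∀ ω, classInner χ (η ω) = 0) ∧ tauM M (muSum mu 1 - ζ) = etaSum η 1 - χ := by
  classical
  have hq3 : 3 ≤ Nat.card W₁ :=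
    three_le_of_odd_prime F.hq (Subgroup.card_subgroup_dvd_card W₁) F.hodd
  have hp3 : 3 ≤ Nat.card W₂ :=
    three_le_of_odd_prime F.hp (Subgroup.card_subgroup_dvd_card W₂) F.hodd
  obtain ⟨hΓgen, hΓV, he1, hnorm⟩ := gamma_facts F ζ hζ hζ1
  set Γ := tauM M (muSum mu 1 - ζ) with hΓ
  have hcoef := degq_sum W₁ W₂ F.hP.selfNormalizing η F.hη (by omega) (by omega) Γ
    (Cfsg.Agent.Lib.Helper25.dgen_isClassFunction hΓgen) hΓV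
    (fun ω => Cfsg.Agent.Lib.Helper25.PFCyc.eta_inner_int η F.hη Γ hΓgen ω) he1 hnorm
    (fun S hS => by rw [finset_eq_trivSet S hS]; exact hsum)
  have hcoef' : ∀ ω : WChar W₁ W₂, classInner Γ (η ω) = if TrivOn W₂ ω then 1 else 0 := by
    intro ω
    have h := hcoef ω
    by_cases hω : TrivOn W₂ ω
    · rw [if_pos hω, h]
      exact if_pos hω
    · rw [if_neg hω, h]
      exact if_neg hω
  have hΘgen : IsGeneralizedCharacter G (etaSum η 1) := by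
    unfold etaSum
    exact Cfsg.Agent.Lib.Helper75.PF11X.gen_sum _ _
      (fun φ _ => Cfsg.Agent.Lib.Helper75.PF11X.eta_gen F.hη _)
  have hΓΘ : classInner Γ (etaSum η 1) = (Nat.card W₁ : ℂ) := by
    rw [etaSum_one_eq, classInner_sum_right]
    exact hsum
  have hΘΓ : classInner (etaSum η 1) Γ = (Nat.card W₁ : ℂ) := by
    rw [← classInner_conj_symm, hΓΘ, Complex.conj_natCast]
  refine ⟨etaSum η 1 - Γ, ?_, ?_, ?_, ?_⟩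
  · rw [sub_eq_add_neg]
    exact Cfsg.Agent.Lib.Helper25.dgen_add hΘgen (Cfsg.Agent.Lib.Helper25.dgen_neg hΓgen)
  · rw [classInner_sub_left, classInner_sub_right, classInner_sub_right, (theta_facts F).1,
      hΘΓ, hΓΘ, hnorm]
    ring
  · intro ω
    rw [classInner_sub_left, inner_theta_eta F ω, hcoef' ω, sub_self]
  · abel

/-- the row sum of `Γ = τ(μ₀ - ζ)` is `q` when `E = g Θ` and the irreducible members of `Z` have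
enough weight -/
theorem ChainData.gamma_sum (C : ChainData M W₁ W₂ mu η δ Z τ₁ g a E A B k)
    (F : Frame M W₁ U W₂ mu dl η d δ n) (hE : E = (g : ℂ) • etaSum η 1)
    (I : Finset (↥M → ℂ)) (hI : ∀ ξ ∈ I, ξ ∈ Z ∧ IsIrrCharacter ↥M ξ)
    (hw : Nat.card W₁ + 1 < g ^ 2 * ∑ ξ ∈ I, (a ξ) ^ 2)
    (ζ : ↥M → ℂ) (hζ : ζ ∈ calS M) (hζ1 : ζ 1 = (Nat.card W₁ : ℂ))
    (hζI : ∀ ξ ∈ I, ζ ≠ ξ) :
    ∑ φ ∈ trivSet W₁ W₂ W₂, classInner (tauM M (muSum mu 1 - ζ)) (η φ) =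
      (Nat.card W₁ : ℂ) := by
  classical
  obtain ⟨hΓgen, hΓV, he1, hnorm⟩ := gamma_facts F ζ hζ hζ1
  set Γ := tauM M (muSum mu 1 - ζ) with hΓ
  have hint := fun ω => Cfsg.Agent.Lib.Helper25.PFCyc.eta_inner_int η F.hη Γ hΓgen ω
  choose c hc using hint
  set s : ℤ := ∑ φ ∈ trivSet W₁ W₂ W₂, c φ with hs
  have hsC : ∑ φ ∈ trivSet W₁ W₂ W₂, classInner Γ (η φ) = (s : ℂ) := by
    rw [hs]
    push_cast
    exact Finset.sum_congr rfl (fun φ _ => hc φ)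
  have hΓΘ : classInner Γ (etaSum η 1) = (s : ℂ) := by
    rw [etaSum_one_eq, classInner_sum_right]
    exact hsC
  -- the coefficients on the `τ₁ ξ`
  have hcoef : ∀ ξ ∈ I, classInner Γ (τ₁ ξ) =
      ((((g * a ξ : ℕ) : ℤ) * (s - (Nat.card W₁ : ℤ)) : ℤ) : ℂ) := by
    intro ξ hξ
    have h := C.bridge_inner F ζ hζ hζ1 ξ (hI ξ hξ).1 (hζI ξ hξ)
    rw [← hΓ, classInner_sub_right, classInner_smul_right, hE, classInner_smul_right, hΓΘ,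
      Complex.conj_natCast, Complex.conj_natCast] at h
    push_cast
    push_cast at h
    linear_combination -h
  rw [hsC]
  by_contra hne
  have hsq : s ≠ (Nat.card W₁ : ℤ) := fun h => hne (by rw [h]; simp)
  have hb := bessel_on Γ (fun i : ↥I => τ₁ (i : ↥M → ℂ))
    (fun i => (C.tau1_orth F i i (hI i i.2).1 (hI i i.2).1 (hI i i.2).2).1)
    (fun i j hij => (C.tau1_orth F i j (hI i i.2).1 (hI j j.2).1 (hI i i.2).2).2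
      (fun h => hij (Subtype.ext h)))
    (fun i : ↥I => ((((g * a (i : ↥M → ℂ) : ℕ) : ℤ) * (s - (Nat.card W₁ : ℤ)) : ℤ) : ℝ))
    (fun i => by rw [hcoef i i.2]; simp)
  rw [hnorm] at hb
  have h1 : (1 : ℝ) ≤ ((s - (Nat.card W₁ : ℤ) : ℤ) : ℝ) ^ 2 := by
    have : (1 : ℤ) ≤ (s - (Nat.card W₁ : ℤ)) ^ 2 := by
      have h0 : s - (Nat.card W₁ : ℤ) ≠ 0 := sub_ne_zero.mpr hsq
      have : 0 < (s - (Nat.card W₁ : ℤ)) ^ 2 := by positivity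
      omega
    exact_mod_cast this
  have h2 : ∑ i : ↥I, ((((g * a (i : ↥M → ℂ) : ℕ) : ℤ) * (s - (Nat.card W₁ : ℤ)) : ℤ) : ℝ) ^ 2 =
      ((s - (Nat.card W₁ : ℤ) : ℤ) : ℝ) ^ 2 * ((g : ℝ) ^ 2 * ∑ ξ ∈ I, ((a ξ : ℕ) : ℝ) ^ 2) := by
    rw [Finset.mul_sum, Finset.mul_sum, ← Finset.sum_coe_sort I]
    apply Finset.sum_congr rfl
    intro i _
    push_cast
    ring
  rw [h2] at hb
  have hwR : ((Nat.card W₁ : ℝ)) + 1 < (g : ℝ) ^ 2 * ∑ ξ ∈ I, ((a ξ : ℕ) : ℝ) ^ 2 := by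
    have h3 : ((Nat.card W₁ + 1 : ℕ) : ℝ) < ((g ^ 2 * ∑ ξ ∈ I, (a ξ) ^ 2 : ℕ) : ℝ) := by
      exact_mod_cast hw
    push_cast at h3
    exact h3
  have h4 : ((Nat.card W₁ : ℂ) + 1).re = (Nat.card W₁ : ℝ) + 1 := by simp
  rw [h4] at hb
  have h5 : 0 ≤ (g : ℝ) ^ 2 * ∑ ξ ∈ I, ((a ξ : ℕ) : ℝ) ^ 2 := by
    apply mul_nonneg (sq_nonneg _)
    exact Finset.sum_nonneg (fun _ _ => sq_nonneg _)
  nlinarith

/-- **Chain A**: with enough irreducible weight in a coherent `Z` (degree pattern `q g a_ξ`,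
`g a_{μ_ψ} = d`, `2 g < q + p - 1`) every degree-`q` member `ζ` of `calS M` outside `Z` has a bridge
satisfying `hr`. -/
theorem chainA (F : Frame M W₁ U W₂ mu dl η d δ n)
    (C : ChainData M W₁ W₂ mu η δ Z τ₁ g a E A B k)
    (h2g : 2 * g < Nat.card W₁ + Nat.card W₂ - 1)
    (hda : ∀ ψ : WChar W₁ W₂, TrivOn W₁ ψ → ψ ≠ 1 → g * a (muSum mu ψ) = d)
    (I : Finset (↥M → ℂ)) (hI : ∀ ξ ∈ I, ξ ∈ Z ∧ IsIrrCharacter ↥M ξ)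
    (hw : g ^ 2 * (Nat.card W₁ - 1) + 2 < ∑ ξ ∈ I, (a ξ) ^ 2)
    (ζ : ↥M → ℂ) (hζ : ζ ∈ calS M) (hζ1 : ζ 1 = (Nat.card W₁ : ℂ))
    (hζI : ∀ ξ ∈ I, ζ ≠ ξ) :
    ∃ χ : G → ℂ, IsGeneralizedCharacter G χ ∧ classInner χ χ = 1 ∧
      (∀ ω, classInner χ (η ω) = 0) ∧ tauM M (muSum mu 1 - ζ) = etaSum η 1 - χ ∧
      ∀ ψ : WChar W₁ W₂, TrivOn W₁ ψ → ψ ≠ 1 →
        classInner χ (tauM M ((d : ℂ) • ζ - muSum mu ψ)) = (d : ℂ) := by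
  have hk : k = 0 := C.k_zero F I hI hw
  have hE : E = (g : ℂ) • etaSum η 1 := C.anchorA F hk h2g
  have hq1 : 1 ≤ Nat.card W₁ := F.hq.one_lt.le
  have hg := C.hg
  have hw2 : Nat.card W₁ + 1 < g ^ 2 * ∑ ξ ∈ I, (a ξ) ^ 2 := by
    have h1 : 1 ≤ g ^ 2 := Nat.one_le_pow _ _ hg
    have h2 : (Nat.card W₁ - 1) ≤ g ^ 2 * (Nat.card W₁ - 1) := Nat.le_mul_of_pos_left _ h1
    have h3 : ∑ ξ ∈ I, (a ξ) ^ 2 ≤ g ^ 2 * ∑ ξ ∈ I, (a ξ) ^ 2 := Nat.le_mul_of_pos_left _ h1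
    omega
  have hsum := C.gamma_sum F hE I hI hw2 ζ hζ hζ1 hζI
  obtain ⟨χ, hχgen, hχ1, hχη, hχb⟩ := bridge_of_sum F ζ hζ hζ1 hsum
  have hanchor : ∀ ψ : WChar W₁ W₂, TrivOn W₁ ψ → ψ ≠ 1 →
      tauM M ((d : ℂ) • muSum mu 1 - muSum mu ψ) = (d : ℂ) • etaSum η 1 - δ • etaSum η ψ := by
    intro ψ hψ hψ1
    have hst := C.star (muSum mu ψ) (C.hμZ ψ hψ hψ1)
    rw [hda ψ hψ hψ1, C.hτ₁μ ψ hψ hψ1, hE, smul_smul] at hst
    rw [hst]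
    congr 2
    rw [← hda ψ hψ hψ1]
    push_cast
    ring
  exact ⟨χ, hχgen, hχ1, hχη, hχb, fun ψ hψ hψ1 =>
    Cfsg.Agent.Lib.Helper9.PF11.hr_of_anchor F ζ χ hχ1 hχη hχb ψ hψ hψ1 (hanchor ψ hψ hψ1)⟩

end Cfsg.Agent.Lib.Helper64.PF11
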