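import Mathlib
import Cfsg.Prelude.Def_Local
import Cfsg.Prelude.Def_Transfer
import Cfsg.Agent.Lib.Helper41.PGV.Defs
import Cfsg.Agent.Lib.Helper41.PGV.Defs2

/-!
# Project PGV (S3086), sheet RED part 2 (helper41): leaf [SEC-INEQ] (helper64), exact statement.
`|W : C_W(X)| ≤ |V : C_V(X)|` for a section `W = V'/V''`.
-/

set_option autoImplicit false

universe v

namespace Cfsg.Agent.Lib.Helper64.PGV

open Cfsg Cfsg.Agent.Lib.Helper41.PGV

variable {p : ℕ} [Fact p.Prime] {G V : Type v} [Group G] [Finite G] [AddCommGroup V] [Finite V] [Module (ZMod p) V]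
  {ρ : Representation (ZMod p) G V}

/-- **[SEC-INEQ]** (T1) `|W : C_W(X)| ≤ |V : C_V(X)|` for a section `W = V'/V''` of `V` invariant under `H ≥ X`. -/
theorem sec_ineq (H X : Subgroup G) (hXH : X ≤ H) (V' V'' : Submodule (ZMod p) V) (h' : Inv ρ H V') (h'' : Inv ρ H V'')
    (hle : V'' ≤ V') :
    Nat.card (Sec V' V'') * Nat.card (fix ρ (X : Set G)) ≤
      Nat.card V * Nat.card (fix (secRep ρ H V' V'' h' h'') ((X.subgroupOf H : Subgroup H) : Set H)) := by
  set σ := secRep ρ H V' V'' h' h'' with hσ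
  set FV : Submodule (ZMod p) V := fix ρ (X : Set G) with hFV
  set FW : Submodule (ZMod p) (Sec V' V'') := fix σ ((X.subgroupOf H : Subgroup H) : Set H) with hFW
  -- fixed points of `X` in `V'`
  set F' : Submodule (ZMod p) V' := FV.comap V'.subtype with hF'
  -- the two maps
  have hle1 : F' ≤ FV.comap V'.subtype := le_rfl
  have hle2 : F' ≤ FW.comap (V''.comap V'.subtype).mkQ := by
    intro v hv
    rw [Submodule.mem_comap]
    intro x hx
    have hxX : x.1 ∈ X := hx
    have hv' : ρ x.1 v.1 = v.1 := hv x.1 hxX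
    show σ x ((V''.comap V'.subtype).mkQ v) = (V''.comap V'.subtype).mkQ v
    rw [Submodule.mkQ_apply, hσ, secRep_mk]
    congr 1
    exact Subtype.ext hv'
  let f₁ : (↥V' ⧸ F') →ₗ[ZMod p] (V ⧸ FV) := F'.mapQ FV V'.subtype hle1
  let f₂ : (↥V' ⧸ F') →ₗ[ZMod p] (Sec V' V'' ⧸ FW) := F'.mapQ FW (V''.comap V'.subtype).mkQ hle2
  have hinj : Function.Injective f₁ := by
    rw [← LinearMap.ker_eq_bot, LinearMap.ker_eq_bot']
    intro y hy
    induction y using Submodule.Quotient.induction_on with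
    | H v =>
      have : (Submodule.Quotient.mk (V'.subtype v) : V ⧸ FV) = 0 := hy
      rw [Submodule.Quotient.mk_eq_zero] at this
      rw [Submodule.Quotient.mk_eq_zero]
      exact this
  have hsurj : Function.Surjective f₂ := by
    intro y
    induction y using Submodule.Quotient.induction_on with
    | H w =>
      induction w using Submodule.Quotient.induction_on with
      | H v => exact ⟨Submodule.Quotient.mk v, rfl⟩
  haveI : Finite (↥V' ⧸ F') := Finite.of_surjective F'.mkQ (Submodule.mkQ_surjective F')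
  haveI : Finite (V ⧸ FV) := Finite.of_surjective FV.mkQ (Submodule.mkQ_surjective FV)
  have h1 : Nat.card (Sec V' V'' ⧸ FW) ≤ Nat.card (↥V' ⧸ F') := Nat.card_le_card_of_surjective f₂ hsurj
  have h2 : Nat.card (↥V' ⧸ F') ≤ Nat.card (V ⧸ FV) := Nat.card_le_card_of_injective f₁ hinj
  have h3 : Nat.card (Sec V' V'') = Nat.card FW * Nat.card (Sec V' V'' ⧸ FW) :=
    Submodule.card_eq_card_quotient_mul_card FW
  have h4 : Nat.card V = Nat.card FV * Nat.card (V ⧸ FV) := Submodule.card_eq_card_quotient_mul_card FV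
  calc Nat.card (Sec V' V'') * Nat.card FV
      = Nat.card FW * Nat.card (Sec V' V'' ⧸ FW) * Nat.card FV := by rw [h3]
    _ ≤ Nat.card FW * Nat.card (V ⧸ FV) * Nat.card FV :=
        Nat.mul_le_mul_right _ (Nat.mul_le_mul_left _ (h1.trans h2))
    _ = Nat.card V * Nat.card FW := by rw [h4]; ring

end Cfsg.Agent.Lib.Helper64.PGV
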