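import Mathlib
import Cfsg.Prelude
import Cfsg.Agent.S3866

set_option autoImplicit false

namespace Cfsg.Agent.Lib.Helper64

/-! ## Number theory: lifting the exponent for geometric sums -/

section NT

variable {p : ℕ} [hp : Fact p.Prime]

/-- For `p` odd and `c ≡ 1 (mod p)`: `v_p(1 + c + ⋯ + c^(d-1)) = v_p(d)`. -/
lemma padicValNat_geom_sum (hp2 : p ≠ 2) {c : ℕ} (hc0 : 0 < c) (hc : p ∣ c - 1) {d : ℕ}
    (hd : d ≠ 0) : padicValNat p (∑ t ∈ Finset.range d, c ^ t) = padicValNat p d := by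
  have hodd : Odd p := hp.out.odd_of_ne_two hp2
  rcases Nat.lt_or_ge 1 c with h1 | h1
  · have hne : ¬ p ∣ c := by
      intro h
      have : p ∣ c - (c - 1) := Nat.dvd_sub h hc
      have e : c - (c - 1) = 1 := by omega
      rw [e] at this
      exact hp.out.one_lt.ne' (Nat.dvd_one.mp this)
    have hlte := padicValNat.pow_sub_pow hodd h1 (by simpa using hc) hne hd
    rw [one_pow] at hlte
    have hgs := geom_sum_mul_of_one_le (x := c) h1.le d
    have hS0 : (∑ t ∈ Finset.range d, c ^ t) ≠ 0 := by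
      have : 0 < ∑ t ∈ Finset.range d, c ^ t := by
        apply Finset.sum_pos
        · intro i _; positivity
        · exact Finset.nonempty_range_iff.mpr hd
      exact this.ne'
    have hc10 : c - 1 ≠ 0 := by omega
    rw [← hgs, padicValNat.mul hS0 hc10] at hlte
    omega
  · have : c = 1 := by omega
    subst this
    simp

/-- `p^k ∣ 1 + c + ⋯ + c^(d-1) ↔ p^k ∣ d` for `p` odd, `c ≡ 1 (mod p)`. -/
lemma pow_dvd_geom_sum_iff (hp2 : p ≠ 2) {c : ℕ} (hc0 : 0 < c) (hc : p ∣ c - 1) (k d : ℕ) :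
    p ^ k ∣ (∑ t ∈ Finset.range d, c ^ t) ↔ p ^ k ∣ d := by
  rcases Nat.eq_zero_or_pos d with rfl | hd
  · simp
  · have hS0 : (∑ t ∈ Finset.range d, c ^ t) ≠ 0 := by
      have : 0 < ∑ t ∈ Finset.range d, c ^ t := by
        apply Finset.sum_pos
        · intro i _; positivity
        · exact Finset.nonempty_range_iff.mpr hd.ne'
      exact this.ne'
    rw [padicValNat_dvd_iff_le hS0, padicValNat_dvd_iff_le hd.ne',
      padicValNat_geom_sum hp2 hc0 hc hd.ne']

/-- `p^m ∣ c^d - 1 ↔ p^m ∣ (c - 1) * d` for `p` odd, `c ≡ 1 (mod p)`. -/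
lemma pow_dvd_pow_sub_one_iff (hp2 : p ≠ 2) {c : ℕ} (hc0 : 0 < c) (hc : p ∣ c - 1) (m d : ℕ) :
    p ^ m ∣ c ^ d - 1 ↔ p ^ m ∣ (c - 1) * d := by
  have hgs := geom_sum_mul_of_one_le (x := c) hc0 d
  rw [← hgs]
  rcases Nat.eq_zero_or_pos d with rfl | hd
  · simp
  rcases Nat.eq_zero_or_pos (c - 1) with h0 | h0
  · rw [h0]; simp
  have hS0 : (∑ t ∈ Finset.range d, c ^ t) ≠ 0 := by
    have : 0 < ∑ t ∈ Finset.range d, c ^ t := by
      apply Finset.sum_pos
      · intro i _; positivity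
      · exact Finset.nonempty_range_iff.mpr hd.ne'
    exact this.ne'
  rw [padicValNat_dvd_iff_le (mul_ne_zero hS0 h0.ne'), padicValNat_dvd_iff_le (mul_ne_zero h0.ne' hd.ne'),
    padicValNat.mul hS0 h0.ne', padicValNat.mul h0.ne' hd.ne', padicValNat_geom_sum hp2 hc0 hc hd.ne',
    add_comm]

end NT

/-! ## Conjugation acting as a power map -/

section Conj

variable {G : Type*} [Group G]

lemma conj_pow_of_conj_eq_pow {x a : G} {c : ℕ} (h : x * a * x⁻¹ = a ^ c) (i : ℕ) :
    x * a ^ i * x⁻¹ = (a ^ i) ^ c := by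
  rw [← conj_pow, h, ← pow_mul, ← pow_mul, mul_comm]

lemma pow_conj_eq_pow_pow {x a : G} {c : ℕ} (h : x * a * x⁻¹ = a ^ c) (d : ℕ) :
    x ^ d * a * (x ^ d)⁻¹ = a ^ (c ^ d) := by
  induction d with
  | zero => simp
  | succ d ih =>
    have e : x ^ (d + 1) * a * (x ^ (d + 1))⁻¹ = x * (x ^ d * a * (x ^ d)⁻¹) * x⁻¹ := by
      rw [pow_succ']; group
    rw [e, ih, conj_pow_of_conj_eq_pow h, ← pow_mul, pow_succ]

/-- In a finite `p`-group, an element normalizing `⟨a⟩` acts on it as a power map `a ↦ a^c` with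
`c ≡ 1 (mod p)`. -/
lemma exists_conj_eq_pow [Finite G] {p : ℕ} [hp : Fact p.Prime] (hG : IsPGroup p G) (x a : G)
    (hx : x * a * x⁻¹ ∈ Subgroup.zpowers a) :
    ∃ c : ℕ, 0 < c ∧ p ∣ c - 1 ∧ x * a * x⁻¹ = a ^ c := by
  by_cases ha : a = 1
  · refine ⟨1, one_pos, by simp, ?_⟩
    rw [ha]; simp
  · rw [← mem_powers_iff_mem_zpowers, Submonoid.mem_powers_iff] at hx
    obtain ⟨c, hc⟩ := hx
    have hc' : x * a * x⁻¹ = a ^ c := hc.symm
    obtain ⟨e, he⟩ := hG x
    have h1 := pow_conj_eq_pow_pow hc' (p ^ e)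
    rw [he] at h1
    simp only [one_mul, inv_one, mul_one] at h1
    -- a = a ^ (c ^ p ^ e)
    have h2 : a ^ 1 = a ^ (c ^ p ^ e) := by rw [pow_one]; exact h1
    rw [pow_eq_pow_iff_modEq] at h2
    obtain ⟨k, hk⟩ := (IsPGroup.iff_orderOf.mp hG) a
    have hk0 : k ≠ 0 := by
      rintro rfl
      rw [pow_zero, orderOf_eq_one_iff] at hk
      exact ha hk
    have hpdvd : p ∣ orderOf a := by rw [hk]; exact dvd_pow_self p hk0
    have h3 : 1 ≡ c ^ p ^ e [MOD p] := h2.of_dvd hpdvd
    have h4 : ((c : ZMod p)) = 1 := by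
      have := (ZMod.natCast_eq_natCast_iff _ _ _).mpr h3
      push_cast at this
      rw [ZMod.pow_card_pow] at this
      exact this.symm
    have hc0 : 0 < c := by
      rcases Nat.eq_zero_or_pos c with rfl | h
      · exfalso
        simp at h4
      · exact h
    refine ⟨c, hc0, ?_, hc'⟩
    have h5 : (1 : ℕ) ≡ c [MOD p] := by
      rw [← ZMod.natCast_eq_natCast_iff]; push_cast; exact h4.symm
    exact (Nat.modEq_iff_dvd' hc0).mp h5

/-- **Symmetry lemma.** In a finite `p`-group with `p` odd, if `y` normalizes `⟨a⟩` then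
`y^d` commutes with `a` iff `y` commutes with `a^d`. -/
lemma commute_pow_iff [Finite G] {p : ℕ} [hp : Fact p.Prime] (hp2 : p ≠ 2) (hG : IsPGroup p G)
    (y a : G) (hy : y * a * y⁻¹ ∈ Subgroup.zpowers a) (d : ℕ) :
    Commute (y ^ d) a ↔ Commute y (a ^ d) := by
  obtain ⟨c, hc0, hcp, hc⟩ := exists_conj_eq_pow hG y a hy
  obtain ⟨m, hm⟩ := (IsPGroup.iff_orderOf.mp hG) a
  have h1 : Commute (y ^ d) a ↔ p ^ m ∣ c ^ d - 1 := by
    have e1 : Commute (y ^ d) a ↔ y ^ d * a * (y ^ d)⁻¹ = a := by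
      constructor
      · intro h; rw [h.eq]; group
      · intro h
        show y ^ d * a = a * y ^ d
        calc y ^ d * a = (y ^ d * a * (y ^ d)⁻¹) * y ^ d := by group
          _ = a * y ^ d := by rw [h]
    rw [e1, pow_conj_eq_pow_pow hc]
    have e2 : a ^ (c ^ d) = a ↔ a ^ (c ^ d) = a ^ 1 := by rw [pow_one]
    rw [e2, pow_eq_pow_iff_modEq, hm]
    have hpos : 1 ≤ c ^ d := Nat.one_le_pow _ _ hc0
    rw [Nat.ModEq.comm, Nat.modEq_iff_dvd' hpos]
  have h2 : Commute y (a ^ d) ↔ p ^ m ∣ (c - 1) * d := by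
    have e1 : Commute y (a ^ d) ↔ y * a ^ d * y⁻¹ = a ^ d := by
      constructor
      · intro h; rw [h.eq]; group
      · intro h
        show y * a ^ d = a ^ d * y
        calc y * a ^ d = (y * a ^ d * y⁻¹) * y := by group
          _ = a ^ d * y := by rw [h]
    rw [e1, conj_pow_of_conj_eq_pow hc, ← pow_mul, pow_eq_pow_iff_modEq, hm]
    have hle : d ≤ d * c := Nat.le_mul_of_pos_right d hc0
    rw [Nat.ModEq.comm, Nat.modEq_iff_dvd' hle]
    have e3 : d * c - d = (c - 1) * d := by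
      rw [Nat.sub_mul, one_mul, mul_comm]
    rw [e3]
  rw [h1, h2]
  exact pow_dvd_pow_sub_one_iff hp2 hc0 hcp m d

end Conj

/-! ## Indices in cyclic groups -/

section Index

variable {G : Type*} [Group G]

/-- If `G = H ⟨y⟩` with `H` normal, then `y^d ∈ H ↔ |G : H| ∣ d`. -/
lemma pow_mem_iff_index_dvd [Finite G] (H : Subgroup G) [H.Normal] (y : G)
    (hgen : H ⊔ Subgroup.zpowers y = ⊤) (d : ℕ) : y ^ d ∈ H ↔ H.index ∣ d := by
  have hall : ∀ q : G ⧸ H, q ∈ Subgroup.zpowers (QuotientGroup.mk y : G ⧸ H) := by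
    intro q
    obtain ⟨g, rfl⟩ := QuotientGroup.mk_surjective q
    have hg : g ∈ H ⊔ Subgroup.zpowers y := by rw [hgen]; trivial
    obtain ⟨h, hh, z, hz, rfl⟩ := Subgroup.mem_sup_of_normal_left.mp hg
    obtain ⟨k, rfl⟩ := Subgroup.mem_zpowers_iff.mp hz
    rw [QuotientGroup.mk_mul, (QuotientGroup.eq_one_iff h).mpr hh, one_mul, QuotientGroup.mk_zpow]
    exact Subgroup.zpow_mem _ (Subgroup.mem_zpowers _) k
  have hord : orderOf (QuotientGroup.mk y : G ⧸ H) = H.index := by
    rw [orderOf_eq_card_of_forall_mem_zpowers hall, Subgroup.index_eq_card]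
  rw [← hord, orderOf_dvd_iff_pow_eq_one, ← QuotientGroup.mk_pow, QuotientGroup.eq_one_iff]

/-- For any subgroup `H` and element `a`: `a^d ∈ H ↔ |⟨a⟩ : ⟨a⟩ ∩ H| ∣ d`. -/
lemma pow_mem_iff_relIndex_dvd [Finite G] (H : Subgroup G) (a : G) (d : ℕ) :
    a ^ d ∈ H ↔ H.relIndex (Subgroup.zpowers a) ∣ d := by
  set X := Subgroup.zpowers a with hX
  set g : X := ⟨a, Subgroup.mem_zpowers a⟩ with hg
  have hcomm : ∀ u v : X, u * v = v * u := by
    intro u v
    obtain ⟨i, hi⟩ := Subgroup.mem_zpowers_iff.mp u.2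
    obtain ⟨j, hj⟩ := Subgroup.mem_zpowers_iff.mp v.2
    apply Subtype.ext
    show (u : G) * v = v * u
    rw [← hi, ← hj, ← zpow_add, ← zpow_add, add_comm]
  haveI : (H.subgroupOf X).Normal := by
    constructor
    intro n hn u
    have : u * n * u⁻¹ = n := by rw [hcomm u n, mul_inv_cancel_right]
    rw [this]; exact hn
  have hgen : H.subgroupOf X ⊔ Subgroup.zpowers g = ⊤ := by
    rw [eq_top_iff]
    intro u _
    apply Subgroup.mem_sup_right
    obtain ⟨i, hi⟩ := Subgroup.mem_zpowers_iff.mp u.2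
    rw [Subgroup.mem_zpowers_iff]
    exact ⟨i, Subtype.ext (by simpa using hi)⟩
  have := pow_mem_iff_index_dvd (H.subgroupOf X) g hgen d
  rw [Subgroup.mem_subgroupOf] at this
  exact this

/-- In a finite `p`-group, `p` odd, if `y` normalizes `⟨a⟩` then
`|⟨y⟩ : C_⟨y⟩(a)| = |⟨a⟩ : C_⟨a⟩(y)|`. -/
lemma relIndex_centralizer_symm [Finite G] {p : ℕ} [hp : Fact p.Prime] (hp2 : p ≠ 2)
    (hG : IsPGroup p G) (y a : G) (hy : y * a * y⁻¹ ∈ Subgroup.zpowers a) :
    (Subgroup.centralizer ({a} : Set G)).relIndex (Subgroup.zpowers y) =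
      (Subgroup.centralizer ({y} : Set G)).relIndex (Subgroup.zpowers a) := by
  have key : ∀ d : ℕ, (Subgroup.centralizer ({a} : Set G)).relIndex (Subgroup.zpowers y) ∣ d ↔
      (Subgroup.centralizer ({y} : Set G)).relIndex (Subgroup.zpowers a) ∣ d := by
    intro d
    rw [← pow_mem_iff_relIndex_dvd, ← pow_mem_iff_relIndex_dvd, Subgroup.mem_centralizer_singleton_iff,
      Subgroup.mem_centralizer_singleton_iff]
    have := commute_pow_iff hp2 hG y a hy d
    constructor
    · intro h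
      have h1 : Commute (y ^ d) a := h
      exact ((this.mp h1).symm).eq
    · intro h
      have h1 : Commute (a ^ d) y := h
      exact (this.mpr h1.symm).eq
  exact Nat.dvd_antisymm ((key _).mpr dvd_rfl) ((key _).mp dvd_rfl)

/-- Subgroups of a finite cyclic `p`-group are totally ordered by their orders. -/
lemma le_of_card_le_of_isCyclic {X : Type*} [Group X] [Finite X] [IsCyclic X] {p : ℕ}
    [hp : Fact p.Prime] (hX : IsPGroup p X) (H K : Subgroup X) (h : Nat.card H ≤ Nat.card K) :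
    H ≤ K := by
  classical
  haveI := Fintype.ofFinite X
  obtain ⟨k, hk⟩ := IsPGroup.iff_card.mp (hX.to_subgroup K)
  obtain ⟨i, hi⟩ := IsPGroup.iff_card.mp (hX.to_subgroup H)
  have hik : i ≤ k := by
    rw [hi, hk] at h
    exact (Nat.pow_le_pow_iff_right hp.out.one_lt).mp h
  -- the set of solutions of x ^ p ^ k = 1
  have hcard := IsCyclic.card_pow_eq_one_le (α := X) (n := p ^ k) (pow_pos hp.out.pos k)
  have hsub : (Finset.univ.filter fun x : X => x ∈ K) ⊆ Finset.univ.filter fun x : X => x ^ p ^ k = 1 := by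
    intro x hx
    simp only [Finset.mem_filter, Finset.mem_univ, true_and] at hx ⊢
    have := pow_card_eq_one' (G := K) (x := ⟨x, hx⟩)
    rw [hk] at this
    have := congrArg Subtype.val this
    simpa using this
  have hKcard : (Finset.univ.filter fun x : X => x ∈ K).card = p ^ k := by
    rw [← hk, Nat.card_eq_fintype_card, Fintype.card_subtype]
  have heq := Finset.eq_of_subset_of_card_le hsub (by rw [hKcard]; exact hcard)
  intro x hx
  have hx1 : x ^ p ^ k = 1 := by
    have := pow_card_eq_one' (G := H) (x := ⟨x, hx⟩)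
    rw [hi] at this
    have h2 : x ^ p ^ i = 1 := by
      have := congrArg Subtype.val this
      simpa using this
    obtain ⟨t, rfl⟩ := Nat.exists_eq_add_of_le hik
    rw [pow_add, pow_mul, h2, one_pow]
  have : x ∈ Finset.univ.filter fun x : X => x ^ p ^ k = 1 := by
    simp only [Finset.mem_filter, Finset.mem_univ, true_and]; exact hx1
  rw [← heq] at this
  simpa using this

/-- Version for subgroups of a cyclic subgroup. -/
lemma le_of_card_le_of_le_zpowers [Finite G] {p : ℕ} [hp : Fact p.Prime] (hG : IsPGroup p G) (a : G)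
    (H K : Subgroup G) (hH : H ≤ Subgroup.zpowers a) (hK : K ≤ Subgroup.zpowers a)
    (h : Nat.card H ≤ Nat.card K) : H ≤ K := by
  have h1 : Nat.card (H.subgroupOf (Subgroup.zpowers a)) = Nat.card H :=
    Nat.card_congr (Subgroup.subgroupOfEquivOfLe hH).toEquiv
  have h2 : Nat.card (K.subgroupOf (Subgroup.zpowers a)) = Nat.card K :=
    Nat.card_congr (Subgroup.subgroupOfEquivOfLe hK).toEquiv
  have := le_of_card_le_of_isCyclic (hG.to_subgroup (Subgroup.zpowers a))
    (H.subgroupOf (Subgroup.zpowers a)) (K.subgroupOf (Subgroup.zpowers a)) (by rw [h1, h2]; exact h)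
  intro x hx
  have hx' : (⟨x, hH hx⟩ : Subgroup.zpowers a) ∈ H.subgroupOf (Subgroup.zpowers a) := by
    rw [Subgroup.mem_subgroupOf]; exact hx
  have := this hx'
  rwa [Subgroup.mem_subgroupOf] at this

end Index

/-! ## Metacyclic `p`-groups, `p` odd -/

section Metacyclic

variable {G : Type*} [Group G]

lemma mem_centralizer_zpowers_iff {g a : G} :
    g ∈ Subgroup.centralizer ((Subgroup.zpowers a : Subgroup G) : Set G) ↔ Commute g a := by
  constructor
  · intro h
    exact (Subgroup.mem_centralizer_iff.mp h a (Subgroup.mem_zpowers a)).symm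
  · intro h
    rw [Subgroup.mem_centralizer_iff]
    intro z hz
    obtain ⟨k, rfl⟩ := Subgroup.mem_zpowers_iff.mp hz
    exact ((h.zpow_right k).eq).symm

lemma card_inf_mul_relIndex [Finite G] (H K : Subgroup G) :
    Nat.card (H ⊓ K : Subgroup G) * H.relIndex K = Nat.card K := by
  have h1 := (H.subgroupOf K).card_mul_index
  have h2 : Nat.card (H.subgroupOf K) = Nat.card (H ⊓ K : Subgroup G) := by
    rw [← Subgroup.inf_subgroupOf_right H K]
    exact Nat.card_congr (Subgroup.subgroupOfEquivOfLe inf_le_right).toEquiv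
  rw [h2] at h1
  exact h1

/-- Generators of a metacyclic group. -/
lemma exists_gens_of_isMetacyclic (hmc : Cfsg.IsMetacyclic G) :
    ∃ (N : Subgroup G) (_ : N.Normal) (a b : G), N = Subgroup.zpowers a ∧
      N ⊔ Subgroup.zpowers b = ⊤ := by
  obtain ⟨N, hN, hc1, hc2⟩ := hmc
  obtain ⟨g, hg⟩ := hc1.exists_generator
  obtain ⟨q, hq⟩ := hc2.exists_generator
  obtain ⟨b, rfl⟩ := QuotientGroup.mk_surjective q
  refine ⟨N, hN, (g : G), b, ?_, ?_⟩
  · ext x
    constructor
    · intro hx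
      obtain ⟨k, hk⟩ := Subgroup.mem_zpowers_iff.mp (hg ⟨x, hx⟩)
      rw [Subgroup.mem_zpowers_iff]
      refine ⟨k, ?_⟩
      have := congrArg Subtype.val hk
      simpa using this
    · intro hx
      obtain ⟨k, rfl⟩ := Subgroup.mem_zpowers_iff.mp hx
      exact N.zpow_mem g.2 k
  · rw [eq_top_iff]
    intro x _
    obtain ⟨k, hk⟩ := Subgroup.mem_zpowers_iff.mp (hq (QuotientGroup.mk x))
    have h1 : x * (b ^ k)⁻¹ ∈ N := by
      rw [← QuotientGroup.eq_one_iff, QuotientGroup.mk_mul, QuotientGroup.mk_inv,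
        QuotientGroup.mk_zpow, hk, mul_inv_cancel]
    have h2 : x = (x * (b ^ k)⁻¹) * b ^ k := by group
    rw [h2]
    exact Subgroup.mul_mem _ (Subgroup.mem_sup_left h1)
      (Subgroup.mem_sup_right (Subgroup.zpow_mem _ (Subgroup.mem_zpowers b) k))

/-- The core structure theorem: for `G = N ⟨b⟩` a `p`-group (`p` odd) with `N = ⟨a⟩` normal,
`C = C_G(N)` is abelian, `|G : C| = |G'|` and `|C| = |G'| |Z(G)|`. -/
theorem metacyclic_core [Finite G] {p : ℕ} [hp : Fact p.Prime] (hp2 : p ≠ 2) (hG : IsPGroup p G)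
    (N : Subgroup G) [hNn : N.Normal] (a b : G) (hN : N = Subgroup.zpowers a)
    (hgen : N ⊔ Subgroup.zpowers b = ⊤) :
    (Subgroup.centralizer (N : Set G)).index = Nat.card (commutator G) ∧
    Nat.card (Subgroup.centralizer (N : Set G)) = Nat.card (commutator G) * Nat.card (Subgroup.center G) ∧
    (∀ u ∈ Subgroup.centralizer (N : Set G), ∀ v ∈ Subgroup.centralizer (N : Set G), u * v = v * u) ∧
    N ≤ Subgroup.centralizer (N : Set G) := by
  set C := Subgroup.centralizer (N : Set G) with hC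
  have hNcomm : ∀ u ∈ N, ∀ v ∈ N, u * v = v * u := by
    intro u hu v hv
    rw [hN] at hu hv
    obtain ⟨i, rfl⟩ := Subgroup.mem_zpowers_iff.mp hu
    obtain ⟨j, rfl⟩ := Subgroup.mem_zpowers_iff.mp hv
    rw [← zpow_add, ← zpow_add, add_comm]
  have hA : IsMulCommutative N := ⟨⟨fun u v => Subtype.ext (hNcomm u u.2 v v.2)⟩⟩
  have hNC : N ≤ C := by
    intro u hu
    rw [hC, Subgroup.mem_centralizer_iff]
    intro v hv
    exact hNcomm v hv u hu
  have hCn : C.Normal := inferInstance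
  have hCgen : C ⊔ Subgroup.zpowers b = ⊤ := by
    rw [eq_top_iff, ← hgen]
    exact sup_le_sup_right hNC _
  -- (i)
  have h3866 := (Cfsg.Agent.S3866.result N hA b hgen).2.2.2
  -- b normalizes ⟨a⟩
  have hba : b * a * b⁻¹ ∈ Subgroup.zpowers a := by
    rw [← hN]
    exact hNn.conj_mem a (by rw [hN]; exact Subgroup.mem_zpowers a) b
  -- (v)
  have hidx : C.index = (Subgroup.centralizer ({b} : Set G)).relIndex N := by
    have key : ∀ d : ℕ, C.index ∣ d ↔ (Subgroup.centralizer ({b} : Set G)).relIndex N ∣ d := by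
      intro d
      rw [← pow_mem_iff_index_dvd C b hCgen d, hN, ← pow_mem_iff_relIndex_dvd, hC, hN,
        mem_centralizer_zpowers_iff, Subgroup.mem_centralizer_singleton_iff]
      rw [commute_pow_iff hp2 hG b a hba d]
      constructor
      · intro h; exact (h.symm).eq
      · intro h; exact (show Commute (a ^ d) b from h).symm
    exact Nat.dvd_antisymm ((key _).mpr dvd_rfl) ((key _).mp dvd_rfl)
  have hrel : (Subgroup.centralizer ({b} : Set G)).relIndex N = Nat.card (commutator G) := by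
    have h1 := card_inf_mul_relIndex (Subgroup.centralizer ({b} : Set G)) N
    rw [inf_comm] at h1
    have hpos : 0 < Nat.card (N ⊓ Subgroup.centralizer ({b} : Set G) : Subgroup G) := Nat.card_pos
    have h2 : Nat.card (N ⊓ Subgroup.centralizer ({b} : Set G) : Subgroup G) *
        (Subgroup.centralizer ({b} : Set G)).relIndex N =
        Nat.card (N ⊓ Subgroup.centralizer ({b} : Set G) : Subgroup G) * Nat.card (commutator G) := by
      rw [h1, ← h3866, mul_comm]
    exact Nat.eq_of_mul_eq_mul_left hpos h2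
  -- (vii) C is commutative
  have hCcomm : ∀ u ∈ C, ∀ v ∈ C, u * v = v * u := by
    intro u hu v hv
    have hu' : u ∈ N ⊔ Subgroup.zpowers b := by rw [hgen]; trivial
    have hv' : v ∈ N ⊔ Subgroup.zpowers b := by rw [hgen]; trivial
    obtain ⟨n₁, hn₁, z₁, hz₁, rfl⟩ := Subgroup.mem_sup_of_normal_left.mp hu'
    obtain ⟨n₂, hn₂, z₂, hz₂, rfl⟩ := Subgroup.mem_sup_of_normal_left.mp hv'
    have hz₁C : z₁ ∈ C := by
      have : z₁ = n₁⁻¹ * (n₁ * z₁) := by group
      rw [this]; exact C.mul_mem (C.inv_mem (hNC hn₁)) hu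
    have hz₂C : z₂ ∈ C := by
      have : z₂ = n₂⁻¹ * (n₂ * z₂) := by group
      rw [this]; exact C.mul_mem (C.inv_mem (hNC hn₂)) hv
    have e1 : n₂ * z₁ = z₁ * n₂ := Subgroup.mem_centralizer_iff.mp hz₁C n₂ hn₂
    have e2 : n₁ * z₂ = z₂ * n₁ := Subgroup.mem_centralizer_iff.mp hz₂C n₁ hn₁
    have e3 : z₁ * z₂ = z₂ * z₁ := by
      obtain ⟨i, rfl⟩ := Subgroup.mem_zpowers_iff.mp hz₁
      obtain ⟨j, rfl⟩ := Subgroup.mem_zpowers_iff.mp hz₂
      rw [← zpow_add, ← zpow_add, add_comm]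
    have e4 : n₁ * n₂ = n₂ * n₁ := hNcomm n₁ hn₁ n₂ hn₂
    calc n₁ * z₁ * (n₂ * z₂) = n₁ * (z₁ * n₂) * z₂ := by group
      _ = n₁ * (n₂ * z₁) * z₂ := by rw [e1]
      _ = (n₁ * n₂) * (z₁ * z₂) := by group
      _ = (n₂ * n₁) * (z₂ * z₁) := by rw [e4, e3]
      _ = n₂ * (n₁ * z₂) * z₁ := by group
      _ = n₂ * (z₂ * n₁) * z₁ := by rw [e2]
      _ = n₂ * z₂ * (n₁ * z₁) := by group
  have hCA : IsMulCommutative C := ⟨⟨fun u v => Subtype.ext (hCcomm u u.2 v v.2)⟩⟩
  have hcenter : C ⊓ Subgroup.centralizer ({b} : Set G) = Subgroup.center G := by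
    apply le_antisymm
    · rintro z ⟨hz1, hz2⟩
      rw [Subgroup.mem_center_iff]
      intro g
      have hg : g ∈ Subgroup.centralizer ({z} : Set G) := by
        have htop : Subgroup.centralizer ({z} : Set G) = ⊤ := by
          rw [eq_top_iff, ← hgen, sup_le_iff]
          constructor
          · intro n hn
            rw [Subgroup.mem_centralizer_singleton_iff]
            exact (Subgroup.mem_centralizer_iff.mp hz1 n hn)
          · rw [Subgroup.zpowers_le, Subgroup.mem_centralizer_singleton_iff]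
            exact ((Subgroup.mem_centralizer_singleton_iff.mp hz2)).symm
        rw [htop]; trivial
      exact (Subgroup.mem_centralizer_singleton_iff.mp hg)
    · intro z hz
      refine ⟨?_, ?_⟩
      · show z ∈ Subgroup.centralizer (N : Set G)
        rw [Subgroup.mem_centralizer_iff]
        intro n _
        exact (Subgroup.mem_center_iff.mp hz n)
      · show z ∈ Subgroup.centralizer ({b} : Set G)
        rw [Subgroup.mem_centralizer_singleton_iff]
        exact ((Subgroup.mem_center_iff.mp hz b)).symm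
  have h3866' := (Cfsg.Agent.S3866.result C hCA b hCgen).2.2.2
  rw [hcenter] at h3866'
  exact ⟨hidx.trans hrel, h3866'.symm, hCcomm, hNC⟩

end Metacyclic

end Cfsg.Agent.Lib.Helper64
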