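import Mathlib
import Cfsg.Prelude.Def_LieExceptional
import Cfsg.Agent.Lib.Helper59.Zassenhaus
import Cfsg.Agent.S0740

/-!
# Zassenhaus groups with two-point stabiliser `H` of even order `d`, degree `n + 1`

* `zass_stab2_orbit_ncard`: `H` acts freely off `{a, b}`: every orbit has `d` points.
* `zass_stab2_trans_of_card`: if `d = n - 1` then `H` is transitive on the remaining points.
* `zass_swap_mul_self`: if `d` is even and `2 d = n - 1`, every element interchanging `a` and `b`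
  is an involution.
* `zass_swap_inverts`: hence such an element inverts `H`, and `H` is commutative.
-/

set_option autoImplicit false

namespace Cfsg.Agent.Lib.Helper64

open MulAction Cfsg.Agent.Lib.Helper59

section

variable {G Ω : Type*} [Group G] [MulAction G Ω]

/-- the orbit of `x` under the two-point stabiliser -/
def stab2Orb (G : Type*) {Ω : Type*} [Group G] [MulAction G Ω] (a b x : Ω) : Set Ω :=
  Set.range (fun h : ↥(stabilizer G a ⊓ stabilizer G b) => (h : G) • x)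

theorem mem_stab2Orb {a b x y : Ω} :
    y ∈ stab2Orb G a b x ↔ ∃ h : G, h • a = a ∧ h • b = b ∧ h • x = y := by
  constructor
  · rintro ⟨⟨h, hh⟩, rfl⟩
    exact ⟨h, (mem_stab2.mp hh).1, (mem_stab2.mp hh).2, rfl⟩
  · rintro ⟨h, ha, hb, rfl⟩
    exact ⟨⟨h, mem_stab2.mpr ⟨ha, hb⟩⟩, rfl⟩

theorem stab2Orb_subset {a b x : Ω} (hxa : x ≠ a) (hxb : x ≠ b) :
    stab2Orb G a b x ⊆ ({a, b} : Set Ω)ᶜ := by
  intro y hy
  obtain ⟨h, ha, hb, rfl⟩ := mem_stab2Orb.mp hy
  simp only [Set.mem_compl_iff, Set.mem_insert_iff, Set.mem_singleton_iff, not_or]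
  constructor
  · intro h1
    apply hxa
    apply MulAction.injective h
    change h • x = h • a
    rw [h1, ha]
  · intro h1
    apply hxb
    apply MulAction.injective h
    change h • x = h • b
    rw [h1, hb]

theorem zass_stab2_orbit_ncard (hZ : Cfsg.IsZassenhausGroup G Ω) {a b x : Ω} (hab : a ≠ b)
    (hxa : x ≠ a) (hxb : x ≠ b) :
    (stab2Orb G a b x).ncard = Nat.card ↥(stabilizer G a ⊓ stabilizer G b) := by
  have hinj : Function.Injective
      (fun h : ↥(stabilizer G a ⊓ stabilizer G b) => (h : G) • x) := by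
    rintro ⟨h₁, hh₁⟩ ⟨h₂, hh₂⟩ h
    apply Subtype.ext
    simp only at h ⊢
    have h1 := mem_stab2.mp hh₁
    have h2 := mem_stab2.mp hh₂
    have h21a : h₂⁻¹ • a = a := by rw [inv_smul_eq_iff, h2.1]
    have h21b : h₂⁻¹ • b = b := by rw [inv_smul_eq_iff, h2.2]
    have : h₂⁻¹ * h₁ = 1 := by
      apply zass_three hZ _ a b x hab (Ne.symm hxb) (Ne.symm hxa)
      · rw [mul_smul, h1.1, h21a]
      · rw [mul_smul, h1.2, h21b]
      · rw [mul_smul, h, inv_smul_smul]
    have := congrArg (fun t => h₂ * t) this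
    simpa [mul_assoc] using this
  rw [stab2Orb, ← Nat.card_coe_set_eq, Nat.card_range_of_injective hinj]

variable [Finite G] [Fintype Ω]

omit [Group G] [MulAction G Ω] [Finite G] in
theorem ncard_compl_pair {a b : Ω} (hab : a ≠ b) :
    (({a, b} : Set Ω)ᶜ).ncard = Fintype.card Ω - 2 := by
  rw [Set.ncard_compl, Set.ncard_pair hab, Nat.card_eq_fintype_card]

omit [Finite G] in
/-- If `d = n - 1`, the two-point stabiliser is transitive on the remaining points. -/
theorem zass_stab2_trans_of_card (hZ : Cfsg.IsZassenhausGroup G Ω) {a b : Ω} (hab : a ≠ b)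
    (hd : Nat.card ↥(stabilizer G a ⊓ stabilizer G b) = Fintype.card Ω - 2)
    (x y : Ω) (hxa : x ≠ a) (hxb : x ≠ b) (hya : y ≠ a) (hyb : y ≠ b) :
    ∃ h : G, h • a = a ∧ h • b = b ∧ h • x = y := by
  have h1 : stab2Orb G a b x = ({a, b} : Set Ω)ᶜ := by
    apply Set.eq_of_subset_of_ncard_le (stab2Orb_subset hxa hxb)
    rw [zass_stab2_orbit_ncard hZ hab hxa hxb, ncard_compl_pair hab, hd]
  have h2 : y ∈ ({a, b} : Set Ω)ᶜ := by
    simp only [Set.mem_compl_iff, Set.mem_insert_iff, Set.mem_singleton_iff, not_or]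
    exact ⟨hya, hyb⟩
  rw [← h1] at h2
  exact mem_stab2Orb.mp h2

omit [Finite G] in
/-- If `2 d = n - 1`, an element `τ` swapping `a, b` and fixing `c` preserves every orbit of the
two-point stabiliser off `{a, b}`. -/
theorem zass_swap_preserves_orbits (hZ : Cfsg.IsZassenhausGroup G Ω) {a b c : Ω} (hab : a ≠ b)
    (hd : Fintype.card Ω - 2 = 2 * Nat.card ↥(stabilizer G a ⊓ stabilizer G b))
    (τ : G) (hτa : τ • a = b) (hτb : τ • b = a) (hτc : τ • c = c) (hca : c ≠ a) (hcb : c ≠ b)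
    (x : Ω) (hxa : x ≠ a) (hxb : x ≠ b) :
    ∃ h : G, h • a = a ∧ h • b = b ∧ h • (τ • x) = x := by
  have hτa' : τ⁻¹ • a = b := by rw [inv_smul_eq_iff, hτb]
  have hτb' : τ⁻¹ • b = a := by rw [inv_smul_eq_iff, hτa]
  have hτc' : τ⁻¹ • c = c := by rw [inv_smul_eq_iff, hτc]
  -- `τ` maps the orbit of `c` into itself, and so does `τ⁻¹`
  have hpres : ∀ y : Ω, y ∈ stab2Orb G a b c → τ • y ∈ stab2Orb G a b c := by
    intro y hy
    obtain ⟨h, ha, hb, rfl⟩ := mem_stab2Orb.mp hy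
    have ha' : h⁻¹ • a = a := by rw [inv_smul_eq_iff, ha]
    have hb' : h⁻¹ • b = b := by rw [inv_smul_eq_iff, hb]
    refine mem_stab2Orb.mpr ⟨τ * h * τ⁻¹, ?_, ?_, ?_⟩
    · rw [mul_smul, mul_smul, hτa', hb, hτb]
    · rw [mul_smul, mul_smul, hτb', ha, hτa]
    · rw [mul_smul, mul_smul, hτc']
  have hpres' : ∀ y : Ω, y ∈ stab2Orb G a b c → τ⁻¹ • y ∈ stab2Orb G a b c := by
    intro y hy
    obtain ⟨h, ha, hb, rfl⟩ := mem_stab2Orb.mp hy
    refine mem_stab2Orb.mpr ⟨τ⁻¹ * h * τ, ?_, ?_, ?_⟩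
    · rw [mul_smul, mul_smul, hτa, hb, hτb']
    · rw [mul_smul, mul_smul, hτb, ha, hτa']
    · rw [mul_smul, mul_smul, hτc]
  by_cases hx : x ∈ stab2Orb G a b c
  · -- both `x` and `τ x` lie in the orbit of `c`
    obtain ⟨h₁, h₁a, h₁b, h₁c⟩ := mem_stab2Orb.mp hx
    obtain ⟨h₂, h₂a, h₂b, h₂c⟩ := mem_stab2Orb.mp (hpres x hx)
    have h₂a' : h₂⁻¹ • a = a := by rw [inv_smul_eq_iff, h₂a]
    have h₂b' : h₂⁻¹ • b = b := by rw [inv_smul_eq_iff, h₂b]
    refine ⟨h₁ * h₂⁻¹, ?_, ?_, ?_⟩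
    · rw [mul_smul, h₂a', h₁a]
    · rw [mul_smul, h₂b', h₁b]
    · rw [mul_smul, ← h₂c, inv_smul_smul, h₁c]
  · -- the orbit of `x` is the complement of the orbit of `c`
    set D : Set Ω := ({a, b} : Set Ω)ᶜ \ stab2Orb G a b c with hD
    have hDcard : D.ncard = Nat.card ↥(stabilizer G a ⊓ stabilizer G b) := by
      rw [hD, Set.ncard_sdiff (stab2Orb_subset hca hcb), ncard_compl_pair hab,
        zass_stab2_orbit_ncard hZ hab hca hcb, hd]
      omega
    have hsub : stab2Orb G a b x ⊆ D := by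
      intro y hy
      refine ⟨stab2Orb_subset hxa hxb hy, ?_⟩
      intro hyc
      apply hx
      obtain ⟨h₁, h₁a, h₁b, h₁x⟩ := mem_stab2Orb.mp hy
      obtain ⟨h₂, h₂a, h₂b, h₂c⟩ := mem_stab2Orb.mp hyc
      have h₁a' : h₁⁻¹ • a = a := by rw [inv_smul_eq_iff, h₁a]
      have h₁b' : h₁⁻¹ • b = b := by rw [inv_smul_eq_iff, h₁b]
      refine mem_stab2Orb.mpr ⟨h₁⁻¹ * h₂, ?_, ?_, ?_⟩
      · rw [mul_smul, h₂a, h₁a']
      · rw [mul_smul, h₂b, h₁b']
      · rw [mul_smul, h₂c, ← h₁x, inv_smul_smul]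
    have heq : stab2Orb G a b x = D := by
      apply Set.eq_of_subset_of_ncard_le hsub
      rw [hDcard, zass_stab2_orbit_ncard hZ hab hxa hxb]
    have hτx : τ • x ∈ D := by
      refine ⟨?_, ?_⟩
      · simp only [Set.mem_compl_iff, Set.mem_insert_iff, Set.mem_singleton_iff, not_or]
        constructor
        · intro h1
          apply hxb
          apply MulAction.injective τ
          change τ • x = τ • b
          rw [h1, hτb]
        · intro h1
          apply hxa
          apply MulAction.injective τ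
          change τ • x = τ • a
          rw [h1, hτa]
      · intro h1
        apply hx
        have := hpres' _ h1
        rwa [inv_smul_smul] at this
    rw [← heq] at hτx
    obtain ⟨h, ha, hb, hhx⟩ := mem_stab2Orb.mp hτx
    have ha' : h⁻¹ • a = a := by rw [inv_smul_eq_iff, ha]
    have hb' : h⁻¹ • b = b := by rw [inv_smul_eq_iff, hb]
    exact ⟨h⁻¹, ha', hb', by rw [← hhx, inv_smul_smul]⟩

/-- If `d` is even and `2 d = n - 1`, every element interchanging `a` and `b` is an involution. -/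
theorem zass_swap_mul_self (hZ : Cfsg.IsZassenhausGroup G Ω) {a b : Ω} (hab : a ≠ b)
    (heven : Even (Nat.card ↥(stabilizer G a ⊓ stabilizer G b)))
    (hd : Fintype.card Ω - 2 = 2 * Nat.card ↥(stabilizer G a ⊓ stabilizer G b))
    (g : G) (hga : g • a = b) (hgb : g • b = a) : g * g = 1 := by
  classical
  let _ := Fintype.ofFinite G
  set d := Nat.card ↥(stabilizer G a ⊓ stabilizer G b) with hddef
  have hdpos : 0 < d := Nat.card_pos
  have hcardΩ : Fintype.card Ω = 2 * d + 2 := by omega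
  have hevenΩ : Even (Fintype.card Ω) := ⟨d + 1, by omega⟩
  obtain ⟨-, hcl2, hcl3⟩ := Cfsg.Agent.S0740.result hZ hab
  obtain ⟨τ, hτo, hτa, hτb, hτfix⟩ := hcl3 hevenΩ heven
  -- a fixed point of `τ`
  have hne : Nonempty (MulAction.fixedBy Ω τ) := by
    by_contra h
    rw [not_nonempty_iff] at h
    rw [Nat.card_of_isEmpty] at hτfix
    omega
  obtain ⟨⟨c, hc⟩⟩ := hne
  rw [MulAction.mem_fixedBy] at hc
  have hca : c ≠ a := by
    intro h
    rw [h, hτa] at hc
    exact hab hc.symm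
  have hcb : c ≠ b := by
    intro h
    rw [h, hτb] at hc
    exact hab hc
  -- the involution fixing a given point
  have hex : ∀ x : Ω, ∃ h : G, x ≠ a → x ≠ b → (h • a = a ∧ h • b = b ∧ h • (τ • x) = x) := by
    intro x
    by_cases hxa : x = a
    · exact ⟨1, fun h => absurd hxa h⟩
    by_cases hxb : x = b
    · exact ⟨1, fun _ h => absurd hxb h⟩
    obtain ⟨h, h1, h2, h3⟩ :=
      zass_swap_preserves_orbits hZ hab hd τ hτa hτb hc hca hcb x hxa hxb
    exact ⟨h, fun _ _ => ⟨h1, h2, h3⟩⟩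
  choose hfun hhfun using hex
  set F : Ω → G := fun x => hfun x * τ with hF
  have hFa : ∀ x, x ≠ a → x ≠ b → F x • a = b := by
    intro x hxa hxb
    rw [hF]
    simp only [mul_smul]
    rw [hτa, (hhfun x hxa hxb).2.1]
  have hFb : ∀ x, x ≠ a → x ≠ b → F x • b = a := by
    intro x hxa hxb
    rw [hF]
    simp only [mul_smul]
    rw [hτb, (hhfun x hxa hxb).1]
  have hFx : ∀ x, x ≠ a → x ≠ b → F x • x = x := by
    intro x hxa hxb
    rw [hF]
    simp only [mul_smul]
    exact (hhfun x hxa hxb).2.2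
  have hFF : ∀ x, x ≠ a → x ≠ b → F x * F x = 1 := by
    intro x hxa hxb
    apply zass_three hZ _ a b x hab (Ne.symm hxb) (Ne.symm hxa)
    · rw [mul_smul, hFa x hxa hxb, hFb x hxa hxb]
    · rw [mul_smul, hFb x hxa hxb, hFa x hxa hxb]
    · rw [mul_smul, hFx x hxa hxb, hFx x hxa hxb]
  have hFo : ∀ x, x ≠ a → x ≠ b → orderOf (F x) = 2 := by
    intro x hxa hxb
    have : Fact (Nat.Prime 2) := ⟨Nat.prime_two⟩
    apply orderOf_eq_prime
    · rw [pow_two]; exact hFF x hxa hxb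
    · intro h1
      have := hFa x hxa hxb
      rw [h1, one_smul] at this
      exact hab this
  have hFfix : ∀ x, x ≠ a → x ≠ b → Nat.card (MulAction.fixedBy Ω (F x)) = 2 := by
    intro x hxa hxb
    rcases (hcl2 (F x) (hFo x hxa hxb) (hFa x hxa hxb) (hFb x hxa hxb)).2 hevenΩ with h | h
    · exfalso
      have : Nonempty (MulAction.fixedBy Ω (F x)) :=
        ⟨⟨x, MulAction.mem_fixedBy.mpr (hFx x hxa hxb)⟩⟩
      have := Nat.card_pos (α := MulAction.fixedBy Ω (F x))
      omega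
    · exact h
  -- the finite sets
  set Sf : Finset G := Finset.univ.filter (fun g : G => g • a = b ∧ g • b = a) with hSf
  set Ωf : Finset Ω := Finset.univ \ {a, b} with hΩf
  have hΩfmem : ∀ x, x ∈ Ωf ↔ x ≠ a ∧ x ≠ b := by
    intro x
    simp [hΩf]
  have hΩfcard : Ωf.card = 2 * d := by
    rw [hΩf, Finset.card_sdiff_of_subset (Finset.subset_univ _), Finset.card_univ,
      Finset.card_pair hab, hd]
  have hSfcard : Sf.card = d := by
    rw [hSf, ← Fintype.card_subtype, ← Nat.card_eq_fintype_card, hddef]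
    apply Nat.card_congr
    have hτa' : τ⁻¹ • a = b := by rw [inv_smul_eq_iff, hτb]
    have hτb' : τ⁻¹ • b = a := by rw [inv_smul_eq_iff, hτa]
    refine
      { toFun := fun g => ⟨g.1 * τ⁻¹, mem_stab2.mpr ⟨?_, ?_⟩⟩
        invFun := fun h => ⟨h.1 * τ, ?_, ?_⟩
        left_inv := fun g => by simp
        right_inv := fun h => by simp }
    · rw [mul_smul, hτa', g.2.2]
    · rw [mul_smul, hτb', g.2.1]
    · rw [mul_smul, hτa, (mem_stab2.mp h.2).2]
    · rw [mul_smul, hτb, (mem_stab2.mp h.2).1]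
  have hsub : Ωf.image F ⊆ Sf := by
    intro y hy
    obtain ⟨x, hx, rfl⟩ := Finset.mem_image.mp hy
    obtain ⟨hxa, hxb⟩ := (hΩfmem x).mp hx
    simp only [hSf, Finset.mem_filter, Finset.mem_univ, true_and]
    exact ⟨hFa x hxa hxb, hFb x hxa hxb⟩
  have hfib : ∀ y ∈ Ωf.image F, (Ωf.filter (fun x => F x = y)).card ≤ 2 := by
    intro y hy
    obtain ⟨x₀, hx₀, rfl⟩ := Finset.mem_image.mp hy
    obtain ⟨hxa, hxb⟩ := (hΩfmem x₀).mp hx₀
    have h2 := hFfix x₀ hxa hxb
    rw [Nat.card_eq_fintype_card, ← Set.toFinset_card] at h2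
    rw [← h2]
    apply Finset.card_le_card
    intro x hx
    simp only [Finset.mem_filter] at hx
    obtain ⟨hxΩ, hxF⟩ := hx
    obtain ⟨hxa', hxb'⟩ := (hΩfmem x).mp hxΩ
    rw [Set.mem_toFinset, MulAction.mem_fixedBy, ← hxF]
    exact hFx x hxa' hxb'
  have hle := Finset.card_le_mul_card_image Ωf 2 hfib
  have heq : Ωf.image F = Sf := by
    apply Finset.eq_of_subset_of_card_le hsub
    rw [hSfcard]
    rw [hΩfcard] at hle
    omega
  have hg : g ∈ Sf := by
    simp only [hSf, Finset.mem_filter, Finset.mem_univ, true_and]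
    exact ⟨hga, hgb⟩
  rw [← heq] at hg
  obtain ⟨x, hx, rfl⟩ := Finset.mem_image.mp hg
  obtain ⟨hxa, hxb⟩ := (hΩfmem x).mp hx
  exact hFF x hxa hxb

/-- Consequently an involution interchanging `a` and `b` inverts the two-point stabiliser. -/
theorem zass_swap_inverts (hZ : Cfsg.IsZassenhausGroup G Ω) {a b : Ω} (hab : a ≠ b)
    (heven : Even (Nat.card ↥(stabilizer G a ⊓ stabilizer G b)))
    (hd : Fintype.card Ω - 2 = 2 * Nat.card ↥(stabilizer G a ⊓ stabilizer G b))
    (v : G) (hva : v • a = b) (hvb : v • b = a) :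
    ∀ h ∈ stabilizer G a ⊓ stabilizer G b, v * h * v⁻¹ = h⁻¹ := by
  intro h hh
  obtain ⟨hha, hhb⟩ := mem_stab2.mp hh
  have h1 : (h * v) * (h * v) = 1 := by
    apply zass_swap_mul_self hZ hab heven hd
    · rw [mul_smul, hva, hhb]
    · rw [mul_smul, hvb, hha]
  have h2 : v * v = 1 := zass_swap_mul_self hZ hab heven hd v hva hvb
  have hvinv : v⁻¹ = v := inv_eq_of_mul_eq_one_left h2
  rw [hvinv]
  have : v * h * v = h⁻¹ * ((h * v) * (h * v)) := by group
  rw [this, h1, mul_one]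

/-- ... and the two-point stabiliser is commutative. -/
theorem zass_stab2_comm (hZ : Cfsg.IsZassenhausGroup G Ω) {a b : Ω} (hab : a ≠ b)
    (heven : Even (Nat.card ↥(stabilizer G a ⊓ stabilizer G b)))
    (hd : Fintype.card Ω - 2 = 2 * Nat.card ↥(stabilizer G a ⊓ stabilizer G b)) :
    ∀ x ∈ stabilizer G a ⊓ stabilizer G b, ∀ y ∈ stabilizer G a ⊓ stabilizer G b,
      x * y = y * x := by
  obtain ⟨v, hva, hvb⟩ := zass_two_trans hZ a b b a hab (Ne.symm hab)
  have hinv := zass_swap_inverts hZ hab heven hd v hva hvb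
  intro x hx y hy
  have h1 := hinv x hx
  have h2 := hinv y hy
  have h3 := hinv (x * y) (Subgroup.mul_mem _ hx hy)
  have h4 : v * (x * y) * v⁻¹ = (v * x * v⁻¹) * (v * y * v⁻¹) := by group
  rw [h4, h1, h2] at h3
  have h5 : (x⁻¹ * y⁻¹)⁻¹ = ((x * y)⁻¹)⁻¹ := by rw [h3]
  simpa using h5.symm

end

end Cfsg.Agent.Lib.Helper64
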