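import Mathlib
import Cfsg.Agent.Lib.Helper64.CH4Defs
import Cfsg.Agent.Lib.Helper20.CH4LemmaL

/-!
# CH4-[INH-N]: `Hyp4` passes to normal subgroups (hedge by helper64)
-/

set_option autoImplicit false

namespace Cfsg.Agent.Lib.Helper64.CH4

theorem centralizer_subtype_eq {G : Type*} [Group G] (N : Subgroup G) (x : N) :
    Subgroup.centralizer ({x} : Set ↥N) = (Subgroup.centralizer ({(x : G)} : Set G)).subgroupOf N := by
  ext y
  simp only [Subgroup.mem_centralizer_iff, Set.mem_singleton_iff, forall_eq, Subgroup.mem_subgroupOf]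
  constructor
  · intro h
    have := congrArg Subtype.val h
    simpa using this
  · intro h
    exact Subtype.ext (by simpa using h)

/-- [INH-N] -/
theorem hyp4_normal {G : Type*} [Group G] [Finite G] (h : Hyp4 G) (N : Subgroup G) [N.Normal] :
    Hyp4 ↥N := by
  intro x hx
  apply h (x : G)
  rw [centralizer_subtype_eq] at hx
  exact dvd_trans hx (Cfsg.Agent.Lib.Helper20.CH4.relIndex_dvd_index_right _ N)

end Cfsg.Agent.Lib.Helper64.CH4
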