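import Mathlib
import Cfsg.Agent.S0205
import Cfsg.Agent.Lib.Helper64.CH4Defs
import Cfsg.Agent.Lib.Helper64.CH4InhN
import Cfsg.Agent.Lib.Helper20.CH4LemmaL
import Cfsg.Agent.Lib.Helper21.CH4ZStar
import Cfsg.Agent.Lib.Helper45.CH4Exp2
import Cfsg.Agent.Lib.Helper11.CH4OddCount
import Cfsg.Agent.Lib.Helper45.CH4Count
import Cfsg.Agent.Lib.Helper45.CH4InhC
import Cfsg.Agent.Lib.Helper84.CH4Fiber
import Cfsg.Agent.Lib.Helper87.CH4AbsC
import Cfsg.Agent.Lib.Helper87.CH4InhQ

/-!
# Project CH4 (S4167): assembly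
-/

set_option autoImplicit false

namespace Cfsg.Agent.Lib.Helper64.CH4

open Cfsg.Agent.Lib.Helper11.CH4 Cfsg.Agent.Lib.Helper45.CH4 Cfsg.Agent.Lib.Helper84.CH4
  Cfsg.Agent.Lib.Helper87.CH4 Cfsg.Agent.Lib.Helper20.CH4 Cfsg.Agent.Lib.Helper21.CH4ZStar

universe u

/-- exponent two implies commutative -/
theorem comm_of_sq_eq_one {G : Type*} [Group G] {a b : G} (ha : a ^ 2 = 1) (hb : b ^ 2 = 1)
    (hab : (a * b) ^ 2 = 1) : a * b = b * a := by
  have h1 : a⁻¹ = a := by
    rw [inv_eq_iff_mul_eq_one, ← sq]; exact ha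
  have h2 : b⁻¹ = b := by
    rw [inv_eq_iff_mul_eq_one, ← sq]; exact hb
  have h3 : (a * b)⁻¹ = a * b := by
    rw [inv_eq_iff_mul_eq_one, ← sq]; exact hab
  calc a * b = (a * b)⁻¹ := h3.symm
    _ = b⁻¹ * a⁻¹ := mul_inv_rev a b
    _ = b * a := by rw [h1, h2]

/-- every `2`-element lies in a Sylow `2`-subgroup -/
theorem exists_sylow_mem {G : Type*} [Group G] [Finite G] (x : G) (k : ℕ) (hx : orderOf x = 2 ^ k) :
    ∃ P : Sylow 2 G, x ∈ P := by
  have hp : IsPGroup 2 (Subgroup.zpowers x) := by
    refine IsPGroup.of_card (n := k) ?_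
    rw [Nat.card_zpowers, hx]
  obtain ⟨P, hP⟩ := hp.exists_le_sylow
  exact ⟨P, hP (Subgroup.mem_zpowers x)⟩

theorem three_le_card {α : Type*} [Finite α] (a b c : α) (hab : a ≠ b) (hac : a ≠ c) (hbc : b ≠ c) :
    3 ≤ Nat.card α := by
  classical
  have : Fintype α := Fintype.ofFinite α
  have h : ({a, b, c} : Finset α).card = 3 := by
    rw [Finset.card_insert_of_notMem, Finset.card_insert_of_notMem, Finset.card_singleton]
    · simpa using hbc
    · simp [hab, hac]
  rw [Nat.card_eq_fintype_card, ← h]; exact Finset.card_le_univ _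

/-- The nonabelian simple case is impossible. -/
theorem false_of_simple {G : Type u} [Group G] [Finite G] [IsSimpleGroup G]
    (hnc : ∃ a b : G, a * b ≠ b * a) (h : Hyp4 G)
    (IH : ∀ (K : Type u) [Group K] [Finite K], Nat.card K < Nat.card G → Hyp4 K → Group.IsSolvable K) :
    False := by
  classical
  have : Fintype G := Fintype.ofFinite G
  have : Fact (Nat.Prime 2) := ⟨Nat.prime_two⟩
  -- centre trivial
  have hZ : Subgroup.center G = ⊥ := by
    rcases (Subgroup.center G).normal_of_characteristic.eq_bot_or_eq_top with h0 | h1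
    · exact h0
    · exfalso
      obtain ⟨a, b, hab⟩ := hnc
      have ha : a ∈ Subgroup.center G := by rw [h1]; trivial
      exact hab ((Subgroup.mem_center_iff.mp ha b).symm)
  -- even order
  have hns : ¬ Group.IsSolvable G := by
    intro hs
    have hc : ∀ a b : G, a * b = b * a := (IsSimpleGroup.comm_iff_isSolvable).mpr hs
    obtain ⟨a, b, hab⟩ := hnc
    exact hab (hc a b)
  have heven : 2 ∣ Nat.card G := by
    by_contra hodd
    exact hns (Cfsg.Agent.S0205.result (Nat.not_even_iff_odd.mp (fun he => hodd he.two_dvd)))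
  -- exponent two
  have hexpP : ∀ (P : Sylow 2 G), ∀ a ∈ P, a ^ 2 = 1 := fun P => sylow_exp_two h hZ P
  have hab : AbSyl G := by
    intro P a ha b hb
    exact comm_of_sq_eq_one (hexpP P a ha) (hexpP P b hb) (hexpP P (a * b) (mul_mem ha hb))
  have hexp : ∀ x : G, ∀ k : ℕ, orderOf x = 2 ^ k → x ^ 2 = 1 := by
    intro x k hx
    obtain ⟨P, hP⟩ := exists_sylow_mem x k hx
    exact hexpP P x hP
  -- a Sylow subgroup and its order
  let P : Sylow 2 G := default
  obtain ⟨n, hn, hnS⟩ : ∃ n, Nat.card P = 2 ^ n ∧ ∀ Q : Sylow 2 G, Nat.card Q = 2 ^ n :=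
    ⟨_, Sylow.card_eq_multiplicity P, fun Q => Sylow.card_eq_multiplicity Q⟩
  -- an involution in P
  have hPne : (P : Subgroup G) ≠ ⊥ := Sylow.ne_bot_of_dvd_card P heven
  obtain ⟨t, htP, ht1⟩ : ∃ t ∈ (P : Subgroup G), t ≠ 1 := by
    by_contra hcon
    push Not at hcon
    exact hPne ((Subgroup.eq_bot_iff_forall _).mpr hcon)
  have ht2 : orderOf t = 2 := orderOf_eq_prime (hexpP P t htP) ht1
  -- second conjugate
  obtain ⟨g, hgP, hgne⟩ := exists_conj_ne_of_simple hnc P t ht2 htP
  have hn2 : 2 ≤ n := by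
    by_contra hlt
    have hcard : Nat.card P ≤ 2 := by
      rw [hn]
      have : n ≤ 1 := by omega
      calc 2 ^ n ≤ 2 ^ 1 := Nat.pow_le_pow_right (by norm_num) this
        _ = 2 := by norm_num
    -- three distinct elements 1, t, g t g⁻¹ of P
    have h3 : 3 ≤ Nat.card P := by
      have hg1 : g * t * g⁻¹ ≠ 1 := by
        intro h1
        apply ht1
        have : t = g⁻¹ * (g * t * g⁻¹) * g := by group
        rw [this, h1]; group
      exact three_le_card (⟨1, one_mem _⟩ : P) ⟨t, htP⟩ ⟨g * t * g⁻¹, hgP⟩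
        (fun e => ht1 (Subtype.ext_iff.mp e).symm) (fun e => hg1 (Subtype.ext_iff.mp e).symm)
        (fun e => hgne (Subtype.ext_iff.mp e).symm)
    omega
  have h4 : 4 ∣ Nat.card G := by
    have h1 : Nat.card P ∣ Nat.card G := Subgroup.card_subgroup_dvd_card _
    rw [hn] at h1
    exact dvd_trans (by
      have : (4 : ℕ) = 2 ^ 2 := by norm_num
      rw [this]; exact pow_dvd_pow 2 hn2) h1
  -- odd elements commute with an involution
  have hcent : ∀ y : G, Odd (orderOf y) → y ≠ 1 → ∃ s : G, orderOf s = 2 ∧ s * y = y * s := by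
    intro y _ _
    have hidx := h y
    have hmul : Nat.card (Subgroup.centralizer ({y} : Set G)) * (Subgroup.centralizer ({y} : Set G)).index
        = Nat.card G := Subgroup.card_mul_index _
    have h2 : 2 ∣ Nat.card (Subgroup.centralizer ({y} : Set G)) := by
      by_contra hodd
      have hcop : Nat.Coprime 4 (Nat.card (Subgroup.centralizer ({y} : Set G))) := by
        have : (4 : ℕ) = 2 ^ 2 := by norm_num
        rw [this]
        exact Nat.Coprime.pow_left 2 ((Nat.Prime.coprime_iff_not_dvd Nat.prime_two).mpr hodd)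
      rw [← hmul] at h4
      exact hidx (hcop.dvd_of_dvd_mul_left h4)
    obtain ⟨s, hs⟩ := exists_prime_orderOf_dvd_card' (G := ↥(Subgroup.centralizer ({y} : Set G))) 2 h2
    refine ⟨(s : G), ?_, ?_⟩
    · rw [← hs]; exact (Subgroup.orderOf_coe s)
    · have := s.2
      rw [Subgroup.mem_centralizer_iff] at this
      exact (this y (Set.mem_singleton y)).symm
  -- odd elements of involution centralizers
  have hodd : ∀ s : G, orderOf s = 2 →
      Nat.card {y : G // Odd (orderOf y) ∧ y * s = s * y} * 2 ^ n ≤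
        Nat.card (Subgroup.centralizer ({s} : Set G)) := by
    intro s hs2
    set K : Subgroup G := Subgroup.centralizer ({s} : Set G) with hK
    have hmemK : ∀ z : G, z ∈ K ↔ s * z = z * s := by
      intro z
      rw [hK, Subgroup.mem_centralizer_iff]
      simp
    have hKtop : K ≠ ⊤ := by
      intro htop
      have hsc : s ∈ Subgroup.center G := by
        rw [Subgroup.mem_center_iff]
        intro x
        have hx : x ∈ K := by rw [htop]; trivial
        exact ((hmemK x).mp hx).symm
      rw [hZ, Subgroup.mem_bot] at hsc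
      rw [hsc, orderOf_one] at hs2
      norm_num at hs2
    have hKlt : Nat.card K < Nat.card G := by
      exact lt_of_le_of_ne (Subgroup.card_le_card_group K)
        (fun e => hKtop ((Subgroup.card_eq_iff_eq_top K).mp e))
    have hK4 : Hyp4 ↥K := hyp4_centralizer h hab s hs2
    have hKs : Group.IsSolvable ↥K := IH ↥K hKlt hK4
    have hKab : AbSyl ↥K := abSyl_subgroup hab K
    obtain ⟨M, hMn, hMo, k, hMk⟩ := exists_normal_two_complement hKs hK4 hKab
    -- 2^n divides |K|
    have hdiv : 2 ^ n ∣ Nat.card K := by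
      obtain ⟨Q, hQ⟩ := exists_sylow_mem s 1 (by rw [hs2]; norm_num)
      have hQK : (Q : Subgroup G) ≤ K := by
        intro q hq
        rw [hmemK]
        exact (hab Q q hq s hQ).symm
      have hQcard : Nat.card Q = 2 ^ n := hnS Q
      rw [← hQcard]
      exact Subgroup.card_dvd_of_le hQK
    have hcount := card_odd_mul_le M hMo k hMk n hdiv
    -- transfer the count
    have heq : Nat.card {y : G // Odd (orderOf y) ∧ y * s = s * y} = Nat.card {y : ↥K // Odd (orderOf y)} := by
      apply Nat.card_congr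
      refine ⟨fun y => ⟨⟨y.1, ?_⟩, ?_⟩, fun y => ⟨y.1.1, ?_, ?_⟩, ?_, ?_⟩
      · rw [hmemK]
        exact y.2.2.symm
      · have := y.2.1
        rwa [← Subgroup.orderOf_mk] at this
      · have := y.2
        rwa [← Subgroup.orderOf_coe] at this
      · exact ((hmemK _).mp y.1.2).symm
      · intro y; rfl
      · intro y; rfl
    rw [heq]
    exact hcount
  -- the sum bound
  have hsum := two_mul_sum_card_centralizer_le P (hexpP P)
    (fun s hs hsP => exists_conj_ne_of_simple hnc P s hs hsP)
  rw [hn] at hsum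
  exact false_of_count n hexp ⟨t, ht2⟩ hcent hodd hsum

end Cfsg.Agent.Lib.Helper64.CH4

namespace Cfsg.Agent.Lib.Helper64.CH4

open Cfsg.Agent.Lib.Helper11.CH4 Cfsg.Agent.Lib.Helper45.CH4 Cfsg.Agent.Lib.Helper84.CH4
  Cfsg.Agent.Lib.Helper87.CH4 Cfsg.Agent.Lib.Helper20.CH4 Cfsg.Agent.Lib.Helper21.CH4ZStar

universe u

/-- Main induction. -/
theorem solvable_of_hyp4_aux : ∀ (m : ℕ) (G : Type u) [Group G] [Finite G], Nat.card G = m → Hyp4 G →
    Group.IsSolvable G := by
  intro m
  induction m using Nat.strong_induction_on with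
  | _ m ih =>
    intro G _ _ hm h
    have IH : ∀ (K : Type u) [Group K] [Finite K], Nat.card K < Nat.card G → Hyp4 K → Group.IsSolvable K := by
      intro K _ _ hlt hK
      exact ih (Nat.card K) (hm ▸ hlt) K rfl hK
    by_cases hN : ∃ N : Subgroup G, N.Normal ∧ N ≠ ⊥ ∧ N ≠ ⊤
    · obtain ⟨N, hNn, hNb, hNt⟩ := hN
      have hNlt : Nat.card N < Nat.card G :=
        lt_of_le_of_ne (Subgroup.card_le_card_group N) (fun e => hNt ((Subgroup.card_eq_iff_eq_top N).mp e))
      have hQlt : Nat.card (G ⧸ N) < Nat.card G := by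
        have h1 : Nat.card (G ⧸ N) * Nat.card N = Nat.card G := by
          rw [mul_comm]; exact (Subgroup.card_eq_card_quotient_mul_card_subgroup N).symm ▸ (mul_comm _ _)
        have h2 : 1 < Nat.card N := by
          rw [Finite.one_lt_card_iff_nontrivial]
          exact (Subgroup.nontrivial_iff_ne_bot N).mpr hNb
        have h3 : 0 < Nat.card (G ⧸ N) := Nat.card_pos
        nlinarith
      have hNs : Group.IsSolvable N := IH N hNlt (hyp4_normal h N)
      have hQs : Group.IsSolvable (G ⧸ N) := IH (G ⧸ N) hQlt (hyp4_quotient h N)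
      exact Group.isSolvable_of_ker_le_range N.subtype (QuotientGroup.mk' N)
        (by rw [QuotientGroup.ker_mk', Subgroup.range_subtype])
    · push Not at hN
      by_cases hc : ∀ a b : G, a * b = b * a
      · exact Group.isSolvable_of_comm hc
      · exfalso
        push Not at hc
        have hnt : Nontrivial G := by
          obtain ⟨a, b, hab⟩ := hc
          refine ⟨⟨a, 1, ?_⟩⟩
          intro ha
          apply hab
          rw [ha]; simp
        have : IsSimpleGroup G := by
          refine { exists_pair_ne := hnt.exists_pair_ne, eq_bot_or_eq_top_of_normal := ?_ }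
          intro N hNn
          by_contra hcon
          push Not at hcon
          exact hcon.2 (hN N hNn hcon.1)
        exact false_of_simple hc h IH

/-- **S4167**: a finite group in which no conjugacy class has size divisible by `4` is solvable. -/
theorem solvable_of_hyp4 {G : Type u} [Group G] [Finite G] (h : Hyp4 G) : Group.IsSolvable G :=
  solvable_of_hyp4_aux (Nat.card G) G rfl h

end Cfsg.Agent.Lib.Helper64.CH4
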