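import Mathlib
import Cfsg.Prelude.Def_PLocal
import Cfsg.Prelude.Def_Transfer
import Cfsg.Prelude.Def_Local
import Cfsg.Agent.Lib.Helper62.HHDual
import Cfsg.Agent.Lib.Helper76.PCore
import Cfsg.Agent.S0610

set_option autoImplicit false

namespace Cfsg.Agent.Lib.Helper64.FaithfulAmbient

open SemidirectProduct

variable {G : Type*} [Group G] (V : Subgroup G) [V.Normal]

/-- the conjugation action of `G ⧸ C_G(V)` on the normal subgroup `V`. -/
noncomputable def act : G ⧸ Subgroup.centralizer (V : Set G) →* MulAut V :=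
  QuotientGroup.lift _ (MulAut.conjNormal : G →* MulAut V) (by
    intro g hg
    rw [MonoidHom.mem_ker]
    apply MulEquiv.ext
    intro v
    apply Subtype.ext
    rw [MulAut.conjNormal_apply]
    have := (Subgroup.mem_centralizer_iff.mp hg) v v.2
    show g * (v : G) * g⁻¹ = v
    rw [← this]; group)

@[simp] lemma act_mk (g : G) (v : V) : ((act V (QuotientGroup.mk g) v : V) : G) = g * v * g⁻¹ := by
  unfold act
  rw [QuotientGroup.lift_mk, MulAut.conjNormal_apply]

lemma act_injective : Function.Injective (act V) := by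
  rw [injective_iff_map_eq_one]
  intro h hh
  obtain ⟨g, rfl⟩ := QuotientGroup.mk_surjective h
  rw [QuotientGroup.eq_one_iff]
  rw [Subgroup.mem_centralizer_iff]
  intro v hv
  have := act_mk V g ⟨v, hv⟩
  rw [hh] at this
  simp only [MulAut.one_apply] at this
  calc v * g = (g * v * g⁻¹) * g := by rw [← this]
    _ = g * v := by group

/-- the ambient group `V ⋊ (G ⧸ C_G(V))`. -/
abbrev Amb := V ⋊[act V] (G ⧸ Subgroup.centralizer (V : Set G))

/-- the copy of `V` in the ambient group -/
noncomputable def V' : Subgroup (Amb V) := (inl : V →* Amb V).range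

/-- the copy of `G ⧸ C_G(V)` in the ambient group -/
noncomputable def H' : Subgroup (Amb V) := (inr : G ⧸ Subgroup.centralizer (V : Set G) →* Amb V).range

/-- the image of a subgroup of `G` in the ambient group -/
noncomputable def img (X : Subgroup G) : Subgroup (Amb V) :=
  (X.map (QuotientGroup.mk' (Subgroup.centralizer (V : Set G)))).map inr

lemma img_le_H' (X : Subgroup G) : img V X ≤ H' V := by
  rintro _ ⟨h, -, rfl⟩
  exact ⟨h, rfl⟩

lemma img_mono {X Y : Subgroup G} (h : X ≤ Y) : img V X ≤ img V Y :=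
  Subgroup.map_mono (Subgroup.map_mono h)

instance V'_normal : (V' V).Normal := by
  unfold V'
  rw [range_inl_eq_ker_rightHom]
  infer_instance

lemma H'_le_normalizer : H' V ≤ Subgroup.normalizer ((V' V : Subgroup (Amb V)) : Set (Amb V)) := by
  rw [Subgroup.normalizer_eq_top]
  exact le_top

lemma conj_inr_inl (h : G ⧸ Subgroup.centralizer (V : Set G)) (v : V) :
    (inr h : Amb V) * inl v = inl (act V h v) * inr h := by
  rw [inl_aut]; simp [mul_assoc]

/-- the action is faithful -/
lemma H'_inf_centralizer : H' V ⊓ Subgroup.centralizer ((V' V : Subgroup (Amb V)) : Set (Amb V)) = ⊥ := by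
  rw [eq_bot_iff]
  rintro x ⟨⟨h, rfl⟩, hx⟩
  rw [Subgroup.mem_bot]
  have : act V h = 1 := by
    apply MulEquiv.ext
    intro v
    have h1 := (Subgroup.mem_centralizer_iff.mp hx) (inl v) ⟨v, rfl⟩
    -- inl v * inr h = inr h * inl v
    rw [conj_inr_inl] at h1
    have h2 : (inl v : Amb V) = inl (act V h v) := mul_right_cancel h1
    exact (inl_injective h2).symm
  have : h = 1 := act_injective V (by rw [this, map_one])
  rw [this, map_one]

lemma mem_img_iff {X : Subgroup G} {y : Amb V} :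
    y ∈ img V X ↔ ∃ x ∈ X, y = inr (QuotientGroup.mk x) := by
  constructor
  · rintro ⟨_, ⟨x, hx, rfl⟩, rfl⟩
    exact ⟨x, hx, rfl⟩
  · rintro ⟨x, hx, rfl⟩
    exact ⟨_, ⟨x, hx, rfl⟩, rfl⟩

/-- an element `inl v` centralizes `img X` iff `v` centralizes `X`. -/
lemma inl_mem_centralizer_img_iff (X : Subgroup G) (v : V) :
    (inl v : Amb V) ∈ Subgroup.centralizer ((img V X : Subgroup (Amb V)) : Set (Amb V)) ↔
      (v : G) ∈ Subgroup.centralizer (X : Set G) := by
  rw [Subgroup.mem_centralizer_iff, Subgroup.mem_centralizer_iff]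
  constructor
  · intro h x hx
    have h1 := h (inr (QuotientGroup.mk x)) ((mem_img_iff V).mpr ⟨x, hx, rfl⟩)
    rw [conj_inr_inl] at h1
    have h2 : (inl (act V (QuotientGroup.mk x) v) : Amb V) = inl v := mul_right_cancel h1
    have h3 := congrArg (fun t : V => (t : G)) (inl_injective h2)
    simp only [act_mk] at h3
    calc x * v = (x * v * x⁻¹) * x := by group
      _ = v * x := by rw [h3]
  · intro h y hy
    obtain ⟨x, hx, rfl⟩ := (mem_img_iff V).mp hy
    rw [conj_inr_inl]
    congr 2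
    apply Subtype.ext
    rw [act_mk]
    have := h x hx
    calc x * v * x⁻¹ = (x * v) * x⁻¹ := by group
      _ = (v * x) * x⁻¹ := by rw [this]
      _ = v := by group

lemma V'_inf_centralizer_img (X : Subgroup G) :
    V' V ⊓ Subgroup.centralizer ((img V X : Subgroup (Amb V)) : Set (Amb V)) =
      ((V ⊓ Subgroup.centralizer (X : Set G)).subgroupOf V).map inl := by
  ext y
  constructor
  · rintro ⟨⟨v, rfl⟩, hy⟩
    refine ⟨v, ?_, rfl⟩
    show v ∈ (V ⊓ Subgroup.centralizer (X : Set G)).subgroupOf V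
    rw [Subgroup.mem_subgroupOf]
    exact ⟨v.2, (inl_mem_centralizer_img_iff V X v).mp hy⟩
  · rintro ⟨v, hv, rfl⟩
    replace hv : v ∈ (V ⊓ Subgroup.centralizer (X : Set G)).subgroupOf V := hv
    rw [Subgroup.mem_subgroupOf] at hv
    exact ⟨⟨v, rfl⟩, (inl_mem_centralizer_img_iff V X v).mpr hv.2⟩

lemma card_V'_inf_centralizer_img (X : Subgroup G) :
    Nat.card ↥(V' V ⊓ Subgroup.centralizer ((img V X : Subgroup (Amb V)) : Set (Amb V))) =
      Nat.card ↥(V ⊓ Subgroup.centralizer (X : Set G)) := by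
  rw [V'_inf_centralizer_img, Subgroup.card_map_of_injective inl_injective]
  exact Nat.card_congr (Subgroup.subgroupOfEquivOfLe inf_le_left).toEquiv

lemma card_V' : Nat.card (V' V) = Nat.card V := by
  unfold V'
  exact (Nat.card_congr (MonoidHom.ofInjective (inl_injective (φ := act V))).toEquiv).symm

/-- general: `|f(X)| * |X ∩ ker f| = |X|`. -/
lemma card_map_mul_card_inf_ker {Q : Type*} [Group Q] (f : G →* Q) (X : Subgroup G) :
    Nat.card (X.map f) * Nat.card ↥(X ⊓ f.ker) = Nat.card X := by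
  have h1 := (f.comp X.subtype).ker.card_mul_index
  rw [Subgroup.index_ker] at h1
  have h2 : (f.comp X.subtype).range = X.map f := by
    rw [MonoidHom.range_eq_map, ← Subgroup.map_map]
    congr 1
    rw [← MonoidHom.range_eq_map, Subgroup.range_subtype]
  have h3 : (f.comp X.subtype).ker = (X ⊓ f.ker).subgroupOf X := by
    ext x
    rw [MonoidHom.mem_ker, Subgroup.mem_subgroupOf, Subgroup.mem_inf, MonoidHom.mem_ker]
    simp
  rw [h2, h3] at h1
  have h4 : Nat.card ↥((X ⊓ f.ker).subgroupOf X) = Nat.card ↥(X ⊓ f.ker) :=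
    Nat.card_congr (Subgroup.subgroupOfEquivOfLe inf_le_left).toEquiv
  rw [h4] at h1
  rw [mul_comm]; exact h1

lemma card_img_mul (X : Subgroup G) :
    Nat.card (img V X) * Nat.card ↥(X ⊓ Subgroup.centralizer (V : Set G)) = Nat.card X := by
  unfold img
  rw [Subgroup.card_map_of_injective inr_injective]
  have := card_map_mul_card_inf_ker (QuotientGroup.mk' (Subgroup.centralizer (V : Set G))) X
  rwa [QuotientGroup.ker_mk'] at this

/-- every subgroup of `img A` is the image of a subgroup of `A` containing `A ∩ C_G(V)`. -/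
lemma exists_eq_img_of_le (A : Subgroup G) (B' : Subgroup (Amb V)) (hB' : B' ≤ img V A) :
    ∃ B : Subgroup G, B ≤ A ∧ A ⊓ Subgroup.centralizer (V : Set G) ≤ B ∧ img V B = B' := by
  refine ⟨A ⊓ (B'.comap inr).comap (QuotientGroup.mk' (Subgroup.centralizer (V : Set G))),
    inf_le_left, ?_, ?_⟩
  · intro a ha
    refine ⟨ha.1, ?_⟩
    show (inr ((QuotientGroup.mk' (Subgroup.centralizer (V : Set G))) a) : Amb V) ∈ B'
    have : (QuotientGroup.mk' (Subgroup.centralizer (V : Set G))) a = 1 :=
      (QuotientGroup.eq_one_iff a).mpr ha.2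
    rw [this, map_one]; exact B'.one_mem
  · apply le_antisymm
    · intro y hy
      obtain ⟨x, hx, rfl⟩ := (mem_img_iff V).mp hy
      exact hx.2
    · intro y hy
      obtain ⟨a, ha, rfl⟩ := (mem_img_iff V).mp (hB' hy)
      exact (mem_img_iff V).mpr ⟨a, ⟨ha, hy⟩, rfl⟩

instance [Finite G] : Finite (Amb V) := Finite.of_equiv _ (equivProd (φ := act V)).symm

lemma isElementaryAbelian_V' {p : ℕ} (hV : Cfsg.IsElementaryAbelian p V) :
    Cfsg.IsElementaryAbelian p (V' V) := by
  obtain ⟨hc, hp⟩ := hV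
  refine ⟨⟨⟨?_⟩⟩, ?_⟩
  · rintro ⟨_, ⟨v, rfl⟩⟩ ⟨_, ⟨w, rfl⟩⟩
    apply Subtype.ext
    show (inl v : Amb V) * inl w = inl w * inl v
    rw [← map_mul, ← map_mul]
    congr 1
    exact hc.is_comm.comm v w
  · rintro _ ⟨v, rfl⟩
    rw [← map_pow]
    have : v ^ p = 1 := Subtype.ext (by simpa using hp v v.2)
    rw [this, map_one]

/-- the hypothesis `C_H(O_{p'}(H)) ≤ O_{p'}(H)` for the copy `H'` of `G ⧸ C_G(V)`. -/
lemma centralizer_pPrimeCore_H'_le [Finite G] {p : ℕ} [Fact p.Prime] (hsep : Cfsg.IsPSolvable p G)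
    (hO : Cfsg.pCore p (G ⧸ Subgroup.centralizer (V : Set G)) = ⊥) :
    Subgroup.centralizer (Cfsg.pPrimeCore p ↥(H' V) : Set ↥(H' V)) ≤ Cfsg.pPrimeCore p ↥(H' V) := by
  let e : (G ⧸ Subgroup.centralizer (V : Set G)) ≃* ↥(H' V) :=
    MonoidHom.ofInjective (inr_injective (φ := act V))
  apply Cfsg.Agent.Lib.Helper62.centralizer_pPrimeCore_le p
  · have h1 : Cfsg.IsPSolvable p (G ⧸ Subgroup.centralizer (V : Set G)) :=
      Cfsg.Agent.Lib.Helper76.IsPSolvable_of_surjective p
        (QuotientGroup.mk' (Subgroup.centralizer (V : Set G))) (QuotientGroup.mk'_surjective _) hsep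
    exact Cfsg.Agent.Lib.Helper76.IsPSolvable_of_surjective p e.toMonoidHom e.surjective h1
  · intro N hN hNp
    have h1 : (N.comap e.toMonoidHom).Normal := hN.comap _
    have h2 : IsPGroup p (N.comap e.toMonoidHom) :=
      hNp.comap_of_injective e.toMonoidHom e.injective
    have h3 : N.comap e.toMonoidHom ≤ Cfsg.pCore p (G ⧸ Subgroup.centralizer (V : Set G)) :=
      le_sSup ⟨h1, h2⟩
    rw [hO, le_bot_iff] at h3
    rw [eq_bot_iff]
    intro n hn
    obtain ⟨h, rfl⟩ := e.surjective n
    have h5 : h ∈ N.comap e.toMonoidHom := hn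
    rw [h3, Subgroup.mem_bot] at h5
    rw [h5, map_one]; exact Subgroup.mem_bot.mpr rfl

/-- transport of the best offender property. -/
lemma isBestOffenderOn_img [Finite G] {p : ℕ} (A : Subgroup G) (hA : Cfsg.IsElementaryAbelian p A)
    (hmax : ∀ B : Subgroup G, B ≤ A →
      Nat.card B * Nat.card ↥(V ⊓ Subgroup.centralizer (B : Set G)) ≤
        Nat.card A * Nat.card ↥(V ⊓ Subgroup.centralizer (A : Set G))) :
    Cfsg.IsBestOffenderOn p (V' V) (img V A) := by
  obtain ⟨hc, hp⟩ := hA
  have hcomm : ∀ x ∈ img V A, ∀ y ∈ img V A, x * y = y * x := by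
    intro x hx y hy
    obtain ⟨a, ha, rfl⟩ := (mem_img_iff V).mp hx
    obtain ⟨b, hb, rfl⟩ := (mem_img_iff V).mp hy
    have := congrArg Subtype.val (hc.is_comm.comm ⟨a, ha⟩ ⟨b, hb⟩)
    simp only [Subgroup.coe_mul] at this
    rw [← map_mul, ← map_mul, ← QuotientGroup.mk_mul, ← QuotientGroup.mk_mul, this]
  refine ⟨?_, ?_, ?_⟩
  · intro B' hB'
    obtain ⟨B, hBA, hCB, rfl⟩ := exists_eq_img_of_le V A B' hB'
    rw [card_V'_inf_centralizer_img, card_V'_inf_centralizer_img]
    have h1 := card_img_mul V B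
    have h2 := card_img_mul V A
    have h3 : B ⊓ Subgroup.centralizer (V : Set G) = A ⊓ Subgroup.centralizer (V : Set G) :=
      le_antisymm (inf_le_inf_right _ hBA) (le_inf hCB inf_le_right)
    rw [h3] at h1
    have h4 := hmax B hBA
    rw [← h1, ← h2] at h4
    have hpos : 0 < Nat.card ↥(A ⊓ Subgroup.centralizer (V : Set G)) := Nat.card_pos
    have h5 : Nat.card ↥(img V B) * Nat.card ↥(V ⊓ Subgroup.centralizer (B : Set G)) *
        Nat.card ↥(A ⊓ Subgroup.centralizer (V : Set G)) ≤
        Nat.card ↥(img V A) * Nat.card ↥(V ⊓ Subgroup.centralizer (A : Set G)) *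
        Nat.card ↥(A ⊓ Subgroup.centralizer (V : Set G)) := by
      calc _ = Nat.card ↥(img V B) * Nat.card ↥(A ⊓ Subgroup.centralizer (V : Set G)) *
            Nat.card ↥(V ⊓ Subgroup.centralizer (B : Set G)) := by ring
        _ ≤ Nat.card ↥(img V A) * Nat.card ↥(A ⊓ Subgroup.centralizer (V : Set G)) *
            Nat.card ↥(V ⊓ Subgroup.centralizer (A : Set G)) := h4
        _ = _ := by ring
    exact Nat.le_of_mul_le_mul_right h5 hpos
  · have : ⁅img V A, img V A⁆ = ⊥ := by
      rw [Subgroup.commutator_eq_bot_iff_le_centralizer]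
      intro x hx
      rw [Subgroup.mem_centralizer_iff]
      intro y hy
      exact hcomm y hy x hx
    rw [this]; exact bot_le
  · intro a ha
    obtain ⟨x, hx, rfl⟩ := (mem_img_iff V).mp ha
    rw [← map_pow, ← QuotientGroup.mk_pow, hp x hx]
    simp

/-- **Main transport**: for an elementary abelian `p`-subgroup `A` of the finite `p`-solvable group `G`
which satisfies the best-offender inequalities on the normal elementary abelian `p`-subgroup `V`, where
`O_p(G ⧸ C_G(V)) = 1`: `|A| |C_V(A)| = |V| |C_A(V)|`. -/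
theorem card_mul_card_eq [Finite G] {p : ℕ} [Fact p.Prime] (hsep : Cfsg.IsPSolvable p G)
    (hV : Cfsg.IsElementaryAbelian p V)
    (hO : Cfsg.pCore p (G ⧸ Subgroup.centralizer (V : Set G)) = ⊥)
    (A : Subgroup G) (hA : Cfsg.IsElementaryAbelian p A)
    (hmax : ∀ B : Subgroup G, B ≤ A →
      Nat.card B * Nat.card ↥(V ⊓ Subgroup.centralizer (B : Set G)) ≤
        Nat.card A * Nat.card ↥(V ⊓ Subgroup.centralizer (A : Set G))) :
    Nat.card A * Nat.card ↥(V ⊓ Subgroup.centralizer (A : Set G)) =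
      Nat.card V * Nat.card ↥(A ⊓ Subgroup.centralizer (V : Set G)) := by
  have key := Cfsg.Agent.S0610.card_mul_card_eq (V' V) (H' V) (isElementaryAbelian_V' V hV)
    (H'_le_normalizer V) (H'_inf_centralizer V) (centralizer_pPrimeCore_H'_le V hsep hO)
    _ (img V A) (img_le_H' V A) (isBestOffenderOn_img V A hA hmax) rfl
  rw [card_V'_inf_centralizer_img, card_V'] at key
  rw [← card_img_mul V A, ← key]
  ring

end Cfsg.Agent.Lib.Helper64.FaithfulAmbient
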