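import Mathlib
import Cfsg.Prelude.Def_HallClasses
import Cfsg.Agent.S0144
import Cfsg.Agent.Lib.Helper64.PiCore

set_option autoImplicit false

namespace Cfsg.Agent.Lib.Helper64

/-- a positive number all of whose prime factors are `p` or `q` is `p^a * q^b` -/
lemma exists_eq_pow_mul_pow {p q : ℕ} : ∀ n : ℕ, 0 < n →
    (∀ ℓ : ℕ, ℓ.Prime → ℓ ∣ n → ℓ = p ∨ ℓ = q) → ∃ a b : ℕ, n = p ^ a * q ^ b := by
  intro n
  induction n using Nat.strong_induction_on with
  | _ n ih =>
    intro hn h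
    by_cases h1 : n = 1
    · exact ⟨0, 0, by simp [h1]⟩
    · obtain ⟨m, hm⟩ := Nat.minFac_dvd n
      have hℓ := Nat.minFac_prime h1
      have hm0 : 0 < m := by
        rcases Nat.eq_zero_or_pos m with h0 | h0
        · rw [h0, mul_zero] at hm; omega
        · exact h0
      have hlt : m < n := by
        have := hℓ.two_le
        nlinarith
      obtain ⟨a, b, hab⟩ := ih m hlt hm0 (fun ℓ hℓ' hd => h ℓ hℓ' (hd.trans ⟨n.minFac, by rw [mul_comm]; exact hm⟩))
      rcases h _ hℓ (Nat.minFac_dvd n) with h2 | h2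
      · exact ⟨a + 1, b, by rw [hm, hab, h2]; ring⟩
      · exact ⟨a, b + 1, by rw [hm, hab, h2]; ring⟩

open Equiv

variable {α : Type*} [Fintype α] [DecidableEq α]

/-- A subgroup of prime order `q` in the symmetric group of degree `q` is transitive. -/
lemma transitive_of_card_eq_prime {q : ℕ} (hq : q.Prime) (hα : Nat.card α = q)
    (B : Subgroup (Perm α)) (hB : Nat.card B = q) (x y : α) : ∃ b ∈ B, b x = y := by
  classical
  have hne : B ≠ ⊥ := by
    intro h
    rw [h, Subgroup.card_bot] at hB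
    exact hq.one_lt.ne hB
  obtain ⟨b, hb, hb1⟩ : ∃ b ∈ B, b ≠ 1 := by
    by_contra hcon
    push Not at hcon
    exact hne ((Subgroup.eq_bot_iff_forall _).mpr hcon)
  obtain ⟨x₀, hx₀⟩ : ∃ x₀, b x₀ ≠ x₀ := by
    by_contra hcon
    push Not at hcon
    exact hb1 (Equiv.ext hcon)
  have hdvd : (MulAction.orbit B x₀).ncard ∣ q := by
    rw [← MulAction.index_stabilizer, ← hB]
    exact Subgroup.index_dvd_card _
  have hne1 : (MulAction.orbit B x₀).ncard ≠ 1 := by
    intro h1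
    obtain ⟨z, hz⟩ := Set.ncard_eq_one.mp h1
    have m1 : x₀ ∈ MulAction.orbit B x₀ := MulAction.mem_orbit_self x₀
    have m2 : b x₀ ∈ MulAction.orbit B x₀ := ⟨⟨b, hb⟩, rfl⟩
    rw [hz] at m1 m2
    exact hx₀ (m2.trans m1.symm)
  have hq' : (MulAction.orbit B x₀).ncard = q := by
    rcases (Nat.dvd_prime hq).mp hdvd with h | h
    · exact absurd h hne1
    · exact h
  have huniv : MulAction.orbit B x₀ = Set.univ := by
    rw [Set.eq_univ_iff_ncard, hq', hα]
  have hx : x ∈ MulAction.orbit B x₀ := by rw [huniv]; trivial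
  have hy : y ∈ MulAction.orbit B x₀ := by rw [huniv]; trivial
  obtain ⟨b1, hb1⟩ := hx
  obtain ⟨b2, hb2⟩ := hy
  refine ⟨(b2 * b1⁻¹ : B), (b2 * b1⁻¹).2, ?_⟩
  rw [← hb1, ← hb2]
  simp [Subgroup.smul_def]

omit [Fintype α] [DecidableEq α] in
/-- An abelian transitive permutation group is self-centralizing. -/
lemma mem_of_commute_of_transitive (B : Subgroup (Perm α))
    (hab : ∀ a ∈ B, ∀ b ∈ B, a * b = b * a)
    (htr : ∀ x y : α, ∃ b ∈ B, b x = y) [Nonempty α]
    (g : Perm α) (hg : ∀ b ∈ B, g * b = b * g) : g ∈ B := by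
  obtain ⟨x₀⟩ := ‹Nonempty α›
  obtain ⟨b, hb, hbx⟩ := htr x₀ (g x₀)
  have key : b⁻¹ * g = 1 := by
    apply Equiv.ext
    intro y
    obtain ⟨c, hc, hcy⟩ := htr x₀ y
    have h1 : (b⁻¹ * g) * c = c * (b⁻¹ * g) := by
      have e1 := hg c hc
      have e2 := hab b⁻¹ (B.inv_mem hb) c hc
      calc (b⁻¹ * g) * c = b⁻¹ * (g * c) := by group
        _ = b⁻¹ * (c * g) := by rw [e1]
        _ = (b⁻¹ * c) * g := by group
        _ = (c * b⁻¹) * g := by rw [e2]
        _ = c * (b⁻¹ * g) := by group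
    have h2 : (b⁻¹ * g) x₀ = x₀ := by
      rw [Perm.mul_apply, ← hbx]; simp
    rw [← hcy, ← Perm.mul_apply, h1, Perm.mul_apply, h2, Perm.one_apply]
  have : g = b := by
    have := congrArg (fun t => b * t) key
    simpa using this
  rw [this]; exact hb

/-- A finite group with a self-centralizing normal subgroup of prime order `q` has order dividing
`q * (q - 1)`. -/
lemma card_dvd_of_normal_prime_selfcentralizing {H : Type*} [Group H] [Finite H] {q : ℕ}
    (hq : q.Prime) (K : Subgroup H) [K.Normal] (hK : Nat.card K = q)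
    (hC : ∀ g : H, (∀ k ∈ K, g * k = k * g) → g ∈ K) :
    Nat.card H ∣ q * (q - 1) := by
  have : Fact q.Prime := ⟨hq⟩
  let φ : H →* MulAut K := MulAut.conjNormal
  have hker : φ.ker ≤ K := by
    intro g hg
    apply hC
    intro k hk
    have h1 : φ g ⟨k, hk⟩ = ⟨k, hk⟩ := by
      rw [MonoidHom.mem_ker.mp hg]; rfl
    have h2 : g * k * g⁻¹ = k := by
      have := congrArg Subtype.val h1
      rwa [MulAut.conjNormal_apply] at this
    calc g * k = g * k * g⁻¹ * g := by group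
      _ = k * g := by rw [h2]
  have h1 : Nat.card φ.ker ∣ q := by
    rw [← hK]; exact Subgroup.card_dvd_of_le hker
  have hcyc : IsCyclic K := isCyclic_of_prime_card hK
  have h2 : Nat.card φ.range ∣ q - 1 := by
    have := Subgroup.card_subgroup_dvd_card φ.range
    rwa [IsCyclic.card_mulAut, hK, Nat.totient_prime hq] at this
  have h3 := φ.ker.card_mul_index
  rw [Subgroup.index_ker] at h3
  rw [← h3]
  exact Nat.mul_dvd_mul h1 h2

lemma not_sq_dvd_factorial {q : ℕ} (hq : q.Prime) : ¬ q ^ 2 ∣ q.factorial := by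
  intro h
  obtain ⟨k, hk⟩ : ∃ k, q = k + 1 := ⟨q - 1, by have := hq.pos; omega⟩
  rw [hk, Nat.factorial_succ, pow_two] at h
  have h2 : k + 1 ∣ k.factorial := Nat.dvd_of_mul_dvd_mul_left (by omega) h
  rw [← hk] at h2
  have := (Nat.Prime.dvd_factorial hq).mp h2
  omega

open Nat in
/-- If `p < q - 1` are the two smallest primes of `π`, then `S_q` has no Hall `π`-subgroup. -/
theorem not_isEPiGroup_perm_prime (π : Set ℕ) {p q : ℕ} (hp : p.Prime) (hq : q.Prime)
    (hpq : p + 2 ≤ q) (hpπ : p ∈ π) (hqπ : q ∈ π)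
    (hmin : ∀ ℓ : ℕ, ℓ.Prime → ℓ ∈ π → ℓ < q → ℓ = p) :
    ¬ Cfsg.IsEPiGroup π (Equiv.Perm (Fin q)) := by
  rintro ⟨H, hH1, hH2⟩
  have : Fact q.Prime := ⟨hq⟩
  have hcardG : Nat.card (Perm (Fin q)) = q ! := by
    rw [Nat.card_eq_fintype_card, Fintype.card_perm, Fintype.card_fin]
  have hmul := H.card_mul_index
  rw [hcardG] at hmul
  have hqH : q ∣ Nat.card H := by
    have : q ∣ Nat.card H * H.index := by rw [hmul]; exact Nat.dvd_factorial hq.pos le_rfl
    exact ((Nat.Prime.dvd_mul hq).mp this).resolve_right (hH2 q hq hqπ)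
  have hHpos : 0 < Nat.card H := Nat.card_pos
  have hHdvd : Nat.card H ∣ q ! := ⟨_, hmul.symm⟩
  have hprimes : ∀ ℓ : ℕ, ℓ.Prime → ℓ ∣ Nat.card H → ℓ = p ∨ ℓ = q := by
    intro ℓ hℓ hd
    have h1 := hH1 ℓ hℓ hd
    have h2 : ℓ ≤ q := (Nat.Prime.dvd_factorial hℓ).mp (hd.trans hHdvd)
    rcases h2.lt_or_eq with h3 | h3
    · left; exact hmin ℓ hℓ h1 h3
    · right; exact h3
  obtain ⟨a, b, hab⟩ := exists_eq_pow_mul_pow _ hHpos hprimes
  have hsolv : Group.IsSolvable H := Cfsg.Agent.S0144.result p q a b hp hq hab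
  have hnt : Nontrivial H := by
    rw [← Finite.one_lt_card_iff_nontrivial]
    exact lt_of_lt_of_le hq.one_lt (Nat.le_of_dvd hHpos hqH)
  obtain ⟨K, hKn, hKb, hKab, ℓ, hℓ, -, i, hKi⟩ := exists_normal_elemAb (G := H)
  -- H is transitive
  obtain ⟨σ, hσ⟩ := exists_prime_orderOf_dvd_card' q hqH
  have htrH : ∀ x y : Fin q, ∃ h ∈ H, h x = y := by
    intro x y
    obtain ⟨b, hb, hbx⟩ := transitive_of_card_eq_prime hq (by simp)
      (Subgroup.zpowers (σ : Perm (Fin q))) (by rw [Nat.card_zpowers, Subgroup.orderOf_coe, hσ]) x y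
    exact ⟨b, (Subgroup.zpowers_le.mpr σ.2) hb, hbx⟩
  -- the prime ℓ is q
  have hℓq : ℓ = q := by
    by_contra hne
    have : Fact ℓ.Prime := ⟨hℓ⟩
    have hKp : IsPGroup ℓ K := IsPGroup.of_card hKi
    have hnd : ¬ ℓ ∣ Nat.card (Fin q) := by
      rw [Nat.card_eq_fintype_card, Fintype.card_fin]
      intro h
      exact hne ((Nat.prime_dvd_prime_iff_eq hℓ hq).mp h)
    obtain ⟨x₀, hx₀⟩ := hKp.nonempty_fixed_point_of_prime_not_dvd_card (Fin q) hnd
    apply hKb
    rw [Subgroup.eq_bot_iff_forall]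
    intro k hk
    apply Subtype.ext
    apply Equiv.ext
    intro y
    obtain ⟨h, hh, hy⟩ := htrH x₀ y
    have hk' : (⟨h, hh⟩ : H)⁻¹ * k * (⟨h, hh⟩ : H)⁻¹⁻¹ ∈ K := hKn.conj_mem k hk _
    have hfix := hx₀ ⟨_, hk'⟩
    have hfix' : (h⁻¹ * (k : Perm (Fin q)) * h) x₀ = x₀ := by
      simpa [Subgroup.smul_def] using hfix
    rw [Perm.mul_apply, Perm.mul_apply, hy] at hfix'
    have := congrArg h hfix'
    simpa [hy] using this
  subst hℓq
  have hi : i = 1 := by
    have h0 : i ≠ 0 := by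
      intro h0
      rw [h0, pow_zero] at hKi
      exact hKb ((Subgroup.card_eq_one).mp hKi)
    have h2 : i < 2 := by
      by_contra h2
      push Not at h2
      apply not_sq_dvd_factorial hℓ
      calc ℓ ^ 2 ∣ ℓ ^ i := pow_dvd_pow ℓ h2
        _ = Nat.card K := hKi.symm
        _ ∣ Nat.card H := Subgroup.card_subgroup_dvd_card K
        _ ∣ ℓ ! := hHdvd
    omega
  rw [hi, pow_one] at hKi
  -- K is transitive, hence self-centralizing
  have hKG : Nat.card (K.map H.subtype) = ℓ := by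
    rw [Subgroup.card_map_of_injective H.subtype_injective, hKi]
  have htrK := transitive_of_card_eq_prime hℓ (by simp) (K.map H.subtype) hKG
  have hC : ∀ g : H, (∀ k ∈ K, g * k = k * g) → g ∈ K := by
    intro g hg
    have : (g : Perm (Fin ℓ)) ∈ K.map H.subtype := by
      have : Nonempty (Fin ℓ) := ⟨⟨0, hℓ.pos⟩⟩
      apply mem_of_commute_of_transitive (K.map H.subtype) ?_ htrK
      · rintro _ ⟨k, hk, rfl⟩
        have := congrArg Subtype.val (hg k hk)
        simpa using this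
      · rintro _ ⟨k1, hk1, rfl⟩ _ ⟨k2, hk2, rfl⟩
        have := congrArg Subtype.val (hKab k1 hk1 k2 hk2)
        simpa using this
    obtain ⟨k, hk, hkg⟩ := this
    have : k = g := Subtype.ext hkg
    rw [← this]; exact hk
  have hdvd := card_dvd_of_normal_prime_selfcentralizing hℓ K hKi hC
  obtain ⟨m, hm⟩ := hdvd
  obtain ⟨n, hn⟩ : ∃ n, ℓ = n + 2 := ⟨ℓ - 2, by omega⟩
  have hfac : ℓ ! = ℓ * (ℓ - 1) * n ! := by
    rw [hn, Nat.factorial_succ, Nat.factorial_succ]
    have : n + 2 - 1 = n + 1 := by omega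
    rw [this]; ring
  have hidx : H.index = m * n ! := by
    have : Nat.card H * H.index = Nat.card H * (m * n !) := by
      rw [hmul, hfac, hm]; ring
    exact Nat.eq_of_mul_eq_mul_left hHpos this
  apply hH2 p hp hpπ
  rw [hidx]
  apply Dvd.dvd.mul_left
  apply (Nat.Prime.dvd_factorial hp).mpr
  omega

open Nat in
/-- If all primes below the prime `r ≥ 5` lie in `π` but `r` does not, then `S_{r+1}` has no Hall
`π`-subgroup. -/
theorem not_isEPiGroup_perm_succ (π : Set ℕ) {r : ℕ} (hr : r.Prime) (hr5 : 5 ≤ r) (hrπ : r ∉ π)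
    (hall : ∀ ℓ : ℕ, ℓ.Prime → ℓ < r → ℓ ∈ π) :
    ¬ Cfsg.IsEPiGroup π (Equiv.Perm (Fin (r + 1))) := by
  rintro ⟨H, hH1, hH2⟩
  have hcardG : Nat.card (Perm (Fin (r + 1))) = (r + 1)! := by
    rw [Nat.card_eq_fintype_card, Fintype.card_perm, Fintype.card_fin]
  have hmul := H.card_mul_index
  rw [hcardG] at hmul
  have hrH : ¬ r ∣ Nat.card H := fun h => hrπ (hH1 r hr h)
  have hridx : r ∣ H.index := by
    have : r ∣ Nat.card H * H.index := by
      rw [hmul]; exact Nat.dvd_factorial hr.pos (Nat.le_succ r)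
    exact ((Nat.Prime.dvd_mul hr).mp this).resolve_left hrH
  have hidx0 : H.index ≠ 0 := Subgroup.index_ne_zero_of_finite
  have hidxdvd : H.index ∣ (r + 1)! := ⟨_, by rw [← hmul, mul_comm]⟩
  have hodd : ¬ 2 ∣ r := by
    intro h
    have := (Nat.prime_dvd_prime_iff_eq Nat.prime_two hr).mp h
    omega
  have hprimes : ∀ {ℓ : ℕ}, ℓ.Prime → ℓ ∣ H.index → ℓ = r := by
    intro ℓ hℓ hd
    have h2 : ℓ ≤ r + 1 := (Nat.Prime.dvd_factorial hℓ).mp (hd.trans hidxdvd)
    by_contra hne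
    rcases Nat.lt_or_ge ℓ r with h3 | h3
    · exact hH2 ℓ hℓ (hall ℓ hℓ h3) hd
    · have h4 : ℓ = r + 1 := by omega
      have h5 : 2 ∣ ℓ := by rw [h4]; omega
      have := (Nat.prime_dvd_prime_iff_eq Nat.prime_two hℓ).mp h5
      omega
  obtain ⟨j, hpow⟩ : ∃ j, H.index = r ^ j :=
    ⟨_, Nat.eq_prime_pow_of_unique_prime_dvd hidx0 hprimes⟩
  have hj2 : j < 2 := by
    by_contra h2
    push Not at h2
    have h3 : r ^ 2 ∣ (r + 1)! := by
      calc r ^ 2 ∣ r ^ j := pow_dvd_pow r h2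
        _ = H.index := hpow.symm
        _ ∣ (r + 1)! := hidxdvd
    obtain ⟨k, hk⟩ : ∃ k, r = k + 1 := ⟨r - 1, by omega⟩
    rw [Nat.factorial_succ, pow_two] at h3
    nth_rewrite 4 [hk] at h3
    rw [Nat.factorial_succ, ← hk] at h3
    have h4 : r * r ∣ r * ((r + 1) * k !) := by
      convert h3 using 1; ring
    have h5 : r ∣ (r + 1) * k ! := Nat.dvd_of_mul_dvd_mul_left hr.pos h4
    rcases (Nat.Prime.dvd_mul hr).mp h5 with h6 | h6
    · have : r ∣ 1 := (Nat.dvd_add_right (dvd_refl r)).mp h6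
      have := Nat.le_of_dvd one_pos this
      omega
    · have := (Nat.Prime.dvd_factorial hr).mp h6
      omega
  have hidx : H.index = r := by
    have : j = 1 := by
      have : j ≠ 0 := by
        intro h0
        rw [h0, pow_zero] at hpow
        rw [hpow] at hridx
        have := Nat.le_of_dvd one_pos hridx
        omega
      omega
    rw [hpow, this, pow_one]
  -- the normal core of H
  have hK : H.normalCore ≠ ⊥ := by
    intro hbot
    rw [Subgroup.normalCore_eq_ker] at hbot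
    have hinj : Function.Injective (MulAction.toPermHom (Perm (Fin (r + 1))) (Perm (Fin (r + 1)) ⧸ H)) :=
      (MonoidHom.ker_eq_bot_iff _).mp hbot
    have hle := Nat.card_le_card_of_injective _ hinj
    rw [hcardG, Nat.card_perm, ← Subgroup.index_eq_card, hidx] at hle
    have : r ! < (r + 1)! := by
      rw [Nat.factorial_succ]
      have := Nat.factorial_pos r
      nlinarith
    omega
  have hnt : Nontrivial H.normalCore := (Subgroup.nontrivial_iff_ne_bot _).mpr hK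
  have hA : alternatingGroup (Fin (r + 1)) ≤ H.normalCore :=
    Equiv.Perm.alternatingGroup_le_of_normal (by simp; omega) hnt
  have hle : alternatingGroup (Fin (r + 1)) ≤ H := hA.trans (Subgroup.normalCore_le H)
  have hdvd := Subgroup.index_dvd_of_le hle
  have : Nontrivial (Fin (r + 1)) := Fin.nontrivial_iff_two_le.mpr (by omega)
  rw [alternatingGroup.index_eq_two, hidx] at hdvd
  have := Nat.le_of_dvd two_pos hdvd
  omega

/-- Every `π`-subgroup of a finite group lies in a maximal one. -/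
lemma exists_le_maximal_isPiSubgroup (π : Set ℕ) {G : Type*} [Group G] [Finite G]
    (K : Subgroup G) (hK : Cfsg.IsPiSubgroup π K) :
    ∃ M : Subgroup G, K ≤ M ∧ Maximal (Cfsg.IsPiSubgroup π) M :=
  (Set.toFinite {K : Subgroup G | Cfsg.IsPiSubgroup π K}).exists_le_maximal hK

/-- In a finite group satisfying `D_π`, Hall `π`-subgroups exist. -/
theorem isEPiGroup_of_isDPiGroup (π : Set ℕ) (G : Type*) [Group G] [Finite G]
    (h : Cfsg.IsDPiGroup π G) : Cfsg.IsEPiGroup π G := by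
  have hbot : Cfsg.IsPiSubgroup π (⊥ : Subgroup G) := by
    intro p hp hd
    rw [Subgroup.card_bot] at hd
    exact absurd (Nat.dvd_one.mp hd) hp.one_lt.ne'
  obtain ⟨M, -, hM⟩ := exists_le_maximal_isPiSubgroup π ⊥ hbot
  refine ⟨M, hM.prop, ?_⟩
  intro ℓ hℓ hℓπ hd
  have : Fact ℓ.Prime := ⟨hℓ⟩
  obtain ⟨P⟩ : Nonempty (Sylow ℓ G) := inferInstance
  have hP : Cfsg.IsPiSubgroup π (P : Subgroup G) := by
    intro p hp hpd
    obtain ⟨n, hn⟩ := P.isPGroup'.exists_card_eq
    rw [hn] at hpd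
    have := (Nat.prime_dvd_prime_iff_eq hp hℓ).mp (hp.dvd_of_dvd_pow hpd)
    rw [this]; exact hℓπ
  obtain ⟨M', hPM', hM'⟩ := exists_le_maximal_isPiSubgroup π (P : Subgroup G) hP
  obtain ⟨g, hg⟩ := h M M' hM hM'
  have hcard : Nat.card M' = Nat.card M := by
    rw [hg]
    exact Subgroup.card_map_of_injective (MulAut.conj g).injective
  have h1 : ℓ ^ (Nat.card G).factorization ℓ ∣ Nat.card M := by
    rw [← hcard, ← Sylow.card_eq_multiplicity P]
    exact Subgroup.card_dvd_of_le hPM'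
  have h2 : ℓ ^ ((Nat.card G).factorization ℓ + 1) ∣ Nat.card G := by
    have := Nat.mul_dvd_mul h1 hd
    rwa [M.card_mul_index, ← pow_succ] at this
  exact Nat.pow_succ_factorization_not_dvd Nat.card_pos.ne' hℓ h2

lemma isPiSubgroup_of_isPGroup (π : Set ℕ) {G : Type*} [Group G] [Finite G] {p : ℕ}
    (hp : p.Prime) (hpπ : p ∈ π) (K : Subgroup G) (hK : IsPGroup p K) :
    Cfsg.IsPiSubgroup π K := by
  intro ℓ hℓ hd
  have : Fact p.Prime := ⟨hp⟩
  obtain ⟨n, hn⟩ := hK.exists_card_eq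
  rw [hn] at hd
  have := (Nat.prime_dvd_prime_iff_eq hℓ hp).mp (hℓ.dvd_of_dvd_pow hd)
  rw [this]; exact hpπ

/-- If `π` contains at most one prime, every finite group has a Hall `π`-subgroup. -/
theorem isEPiGroup_of_atMostOne (π : Set ℕ)
    (hπ : ∀ p q : ℕ, p.Prime → q.Prime → p ∈ π → q ∈ π → p = q)
    (G : Type*) [Group G] [Finite G] : Cfsg.IsEPiGroup π G := by
  by_cases h : ∃ p : ℕ, p.Prime ∧ p ∈ π
  · obtain ⟨p, hp, hpπ⟩ := h
    have : Fact p.Prime := ⟨hp⟩
    obtain ⟨P⟩ : Nonempty (Sylow p G) := inferInstance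
    refine ⟨P, isPiSubgroup_of_isPGroup π hp hpπ _ P.isPGroup', ?_⟩
    intro ℓ hℓ hℓπ
    rw [hπ ℓ p hℓ hp hℓπ hpπ]
    exact P.not_dvd_index
  · push Not at h
    refine ⟨⊥, ?_, ?_⟩
    · intro p hp hd
      rw [Subgroup.card_bot] at hd
      exact absurd (Nat.dvd_one.mp hd) hp.one_lt.ne'
    · intro p hp hpπ
      exact absurd hpπ (h p hp)

/-- If `π` contains all primes, every group has a Hall `π`-subgroup. -/
theorem isEPiGroup_of_all (π : Set ℕ) (hπ : ∀ p : ℕ, p.Prime → p ∈ π)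
    (G : Type*) [Group G] : Cfsg.IsEPiGroup π G := by
  refine ⟨⊤, fun p hp _ => hπ p hp, ?_⟩
  intro p hp _ hd
  rw [Subgroup.index_top] at hd
  exact absurd (Nat.dvd_one.mp hd) hp.one_lt.ne'

/-- If `π` contains at most one prime, every finite group satisfies `D_π`. -/
theorem isDPiGroup_of_atMostOne (π : Set ℕ)
    (hπ : ∀ p q : ℕ, p.Prime → q.Prime → p ∈ π → q ∈ π → p = q)
    (G : Type*) [Group G] [Finite G] : Cfsg.IsDPiGroup π G := by
  intro H K hH hK
  by_cases h : ∃ p : ℕ, p.Prime ∧ p ∈ π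
  · obtain ⟨p, hp, hpπ⟩ := h
    have : Fact p.Prime := ⟨hp⟩
    have key : ∀ M : Subgroup G, Maximal (Cfsg.IsPiSubgroup π) M → ∃ P : Sylow p G, (P : Subgroup G) = M := by
      intro M hM
      have hMp : IsPGroup p M := by
        have h0 : Nat.card M ≠ 0 := Nat.card_pos.ne'
        have h1 : ∀ {d : ℕ}, d.Prime → d ∣ Nat.card M → d = p := by
          intro d hd hdvd
          exact hπ d p hd hp (hM.prop d hd hdvd) hpπ
        exact IsPGroup.of_card (Nat.eq_prime_pow_of_unique_prime_dvd h0 h1)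
      obtain ⟨P, hP⟩ := hMp.exists_le_sylow
      refine ⟨P, le_antisymm ?_ hP⟩
      exact hM.le_of_ge (isPiSubgroup_of_isPGroup π hp hpπ _ P.isPGroup') hP
    obtain ⟨P, hP⟩ := key H hH
    obtain ⟨Q, hQ⟩ := key K hK
    obtain ⟨g, hg⟩ := MulAction.exists_smul_eq G P Q
    refine ⟨g, ?_⟩
    rw [← hP, ← hQ, ← hg]
    rfl
  · push Not at h
    have key : ∀ M : Subgroup G, Cfsg.IsPiSubgroup π M → M = ⊥ := by
      intro M hM
      rw [← Subgroup.card_eq_one]
      by_contra hne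
      obtain ⟨p, hp, hd⟩ := Nat.exists_prime_and_dvd hne
      exact h p hp (hM p hp hd)
    refine ⟨1, ?_⟩
    rw [key H hH.prop, key K hK.prop]
    simp

/-- If `π` contains all primes, every group satisfies `D_π`. -/
theorem isDPiGroup_of_all (π : Set ℕ) (hπ : ∀ p : ℕ, p.Prime → p ∈ π)
    (G : Type*) [Group G] : Cfsg.IsDPiGroup π G := by
  have htop : Cfsg.IsPiSubgroup π (⊤ : Subgroup G) := fun p hp _ => hπ p hp
  have key : ∀ M : Subgroup G, Maximal (Cfsg.IsPiSubgroup π) M → M = ⊤ := by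
    intro M hM
    exact le_antisymm le_top (hM.le_of_ge htop le_top)
  intro H K hH hK
  refine ⟨1, ?_⟩
  rw [key H hH, key K hK]
  simp

/-- If every finite group (in `Type`) has a Hall `π`-subgroup then `π` contains at most one prime or all
primes. -/
theorem atMostOne_or_all_of_forall_isEPiGroup (π : Set ℕ)
    (h : ∀ (G : Type) [Group G] [Finite G], Cfsg.IsEPiGroup π G) :
    (∀ p q : ℕ, p.Prime → q.Prime → p ∈ π → q ∈ π → p = q) ∨ ∀ p : ℕ, p.Prime → p ∈ π := by
  classical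
  by_contra hcon
  push Not at hcon
  obtain ⟨⟨p, q, hp, hq, hpπ, hqπ, hpq⟩, ⟨r, hr, hrπ⟩⟩ := hcon
  by_cases h23 : 2 ∈ π ∧ 3 ∈ π
  · have hex : ∃ r : ℕ, r.Prime ∧ r ∉ π := ⟨r, hr, hrπ⟩
    have hr₀ := Nat.find_spec hex
    have hmin : ∀ ℓ : ℕ, ℓ.Prime → ℓ < Nat.find hex → ℓ ∈ π := by
      intro ℓ hℓ hlt
      by_contra hn
      exact Nat.find_min hex hlt ⟨hℓ, hn⟩
    have h5 : 5 ≤ Nat.find hex := by
      by_contra hlt
      push Not at hlt
      have h2 := hr₀.1.two_le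
      have hne2 : Nat.find hex ≠ 2 := fun h2 => hr₀.2 (h2 ▸ h23.1)
      have hne3 : Nat.find hex ≠ 3 := fun h3 => hr₀.2 (h3 ▸ h23.2)
      have h4 : Nat.find hex = 4 := by omega
      have := hr₀.1
      rw [h4] at this
      exact absurd this (by decide)
    exact not_isEPiGroup_perm_succ π hr₀.1 h5 hr₀.2 hmin (h _)
  · have hex1 : ∃ p : ℕ, p.Prime ∧ p ∈ π := ⟨p, hp, hpπ⟩
    have hp₁ := Nat.find_spec hex1
    have hle : ∀ ℓ : ℕ, ℓ.Prime → ℓ ∈ π → Nat.find hex1 ≤ ℓ := fun ℓ hℓ hℓπ =>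
      Nat.find_min' hex1 ⟨hℓ, hℓπ⟩
    have hex2 : ∃ q : ℕ, q.Prime ∧ q ∈ π ∧ Nat.find hex1 < q := by
      have h1 := hle p hp hpπ
      have h2 := hle q hq hqπ
      rcases h1.lt_or_eq with h3 | h3
      · exact ⟨p, hp, hpπ, h3⟩
      · refine ⟨q, hq, hqπ, ?_⟩
        rcases h2.lt_or_eq with h4 | h4
        · exact h4
        · exact absurd (h3.symm.trans h4) hpq
    have hq₁ := Nat.find_spec hex2
    have hmin : ∀ ℓ : ℕ, ℓ.Prime → ℓ ∈ π → ℓ < Nat.find hex2 → ℓ = Nat.find hex1 := by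
      intro ℓ hℓ hℓπ hlt
      rcases (hle ℓ hℓ hℓπ).lt_or_eq with h3 | h3
      · exact absurd ⟨hℓ, hℓπ, h3⟩ (Nat.find_min hex2 hlt)
      · exact h3.symm
    have hgap : Nat.find hex1 + 2 ≤ Nat.find hex2 := by
      by_contra hlt
      have hsucc : Nat.find hex2 = Nat.find hex1 + 1 := by have := hq₁.2.2; omega
      rcases Nat.even_or_odd (Nat.find hex1) with he | ho
      · have h2 : Nat.find hex1 = 2 :=
          ((Nat.prime_dvd_prime_iff_eq Nat.prime_two hp₁.1).mp he.two_dvd).symm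
        apply h23
        refine ⟨h2 ▸ hp₁.2, ?_⟩
        have h3 : Nat.find hex2 = 3 := by rw [hsucc, h2]
        exact h3 ▸ hq₁.2.1
      · have he : Even (Nat.find hex2) := by rw [hsucc]; exact ho.add_one
        have h2 : Nat.find hex2 = 2 :=
          ((Nat.prime_dvd_prime_iff_eq Nat.prime_two hq₁.1).mp he.two_dvd).symm
        have h1 : Nat.find hex1 = 1 := by omega
        exact hp₁.1.one_lt.ne' h1
    exact not_isEPiGroup_perm_prime π hp₁.1 hq₁.1 hgap hp₁.2 hq₁.2.1 hmin (h _)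

end Cfsg.Agent.Lib.Helper64
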