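import Mathlib

set_option autoImplicit false

namespace Cfsg.Agent.Lib.Helper64

open Polynomial

/-- An endomorphism `T` of prime order `p` of a finite `𝔽_q`-space without proper nonzero invariant
subspaces, `T ≠ 1`: the dimension is the multiplicative order of `q` modulo `p`. -/
theorem finrank_of_irreducible_prime_order {q p : ℕ} [hq : Fact q.Prime] [hp : Fact p.Prime]
    (hpq : q ≠ p)
    {V : Type*} [AddCommGroup V] [Module (ZMod q) V] [Finite V] [Nontrivial V]
    (T : V →ₗ[ZMod q] V) (hTp : T ^ p = 1) (hT1 : T ≠ 1)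
    (hirr : ∀ W : Submodule (ZMod q) V, (∀ w ∈ W, T w ∈ W) → W = ⊥ ∨ W = ⊤) :
    Module.finrank (ZMod q) V = orderOf (q : ZMod p) := by
  classical
  have hfin : Module.Finite (ZMod q) V := Module.Finite.of_finite
  have hint : IsIntegral (ZMod q) T := LinearMap.isIntegral T
  set μ := minpoly (ZMod q) T with hμ
  have hμ0 : μ ≠ 0 := minpoly.ne_zero hint
  have hμmonic : μ.Monic := minpoly.monic hint
  have hμT : aeval T μ = 0 := minpoly.aeval _ _
  have hμdvd : μ ∣ X ^ p - 1 := by
    apply minpoly.dvd
    simp [hTp]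
  obtain ⟨P, hPirr, hPμ⟩ : ∃ P, Irreducible P ∧ P ∣ μ :=
    WfDvdMonoid.exists_irreducible_factor (minpoly.not_isUnit (ZMod q) T) hμ0
  -- the kernel of P(T) is invariant
  have hcomm : ∀ R : (ZMod q)[X], ∀ w : V, aeval T R (T w) = T (aeval T R w) := by
    intro R w
    have h1 : aeval T (R * X) = aeval T (X * R) := by rw [mul_comm]
    rw [map_mul, map_mul, aeval_X] at h1
    have := congrArg (fun f : Module.End (ZMod q) V => f w) h1
    simpa using this
  have hWinv : ∀ w ∈ LinearMap.ker (aeval T P), T w ∈ LinearMap.ker (aeval T P) := by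
    intro w hw
    rw [LinearMap.mem_ker] at hw ⊢
    rw [hcomm, hw, map_zero]
  have hWne : LinearMap.ker (aeval T P) ≠ ⊥ := by
    intro hbot
    obtain ⟨R, hR⟩ := hPμ
    have hRT : aeval T R = 0 := by
      apply LinearMap.ext
      intro v
      have h1 : aeval T P (aeval T R v) = 0 := by
        have h0 : aeval T μ v = 0 := by rw [hμT]; rfl
        rw [hR, map_mul] at h0
        exact h0
      have h2 : aeval T R v ∈ LinearMap.ker (aeval T P) := h1
      rw [hbot] at h2
      simpa using h2
    obtain ⟨S, hS⟩ := minpoly.dvd (ZMod q) T hRT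
    -- μ = P * R = P * μ * S
    have h3 : μ * (1 - P * S) = 0 := by
      have : μ = P * (μ * S) := by rw [← hS]; exact hR
      calc μ * (1 - P * S) = μ - P * (μ * S) := by ring
        _ = 0 := by rw [← this, sub_self]
    have h4 : 1 - P * S = 0 := (mul_eq_zero.mp h3).resolve_left hμ0
    have h5 : P * S = 1 := (sub_eq_zero.mp h4).symm
    exact hPirr.not_isUnit (IsUnit.of_mul_eq_one S h5)
  have hPT : aeval T P = 0 := by
    rcases hirr _ hWinv with h | h
    · exact absurd h hWne
    · exact LinearMap.ker_eq_top.mp h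
  have hμP : μ ∣ P := minpoly.dvd (ZMod q) T hPT
  have hdeg : μ.natDegree = P.natDegree :=
    Polynomial.natDegree_eq_of_degree_eq (degree_eq_degree_of_associated (associated_of_dvd_dvd hμP hPμ))
  -- P divides the cyclotomic polynomial
  have hPdvd : P ∣ cyclotomic p (ZMod q) * (X - 1) := by
    rw [cyclotomic_prime_mul_X_sub_one]
    exact hPμ.trans hμdvd
  have hPcyc : P ∣ cyclotomic p (ZMod q) := by
    rcases hPirr.prime.dvd_or_dvd hPdvd with h | h
    · exact h
    · exfalso
      obtain ⟨S, hS⟩ := h
      apply hT1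
      have h1 : aeval T (X - 1 : (ZMod q)[X]) = 0 := by
        rw [hS, map_mul, hPT, zero_mul]
      simpa [sub_eq_zero] using h1
  have hcop : q.Coprime p := (Nat.coprime_primes hq.out hp.out).mpr hpq
  have hcard : Fintype.card (ZMod q) = q ^ 1 := by simp [ZMod.card]
  have hPdeg := natDegree_of_dvd_cyclotomic_of_irreducible (K := ZMod q) (p := q) (f := 1) (n := p)
    hcard hcop hPcyc hPirr
  have hord : orderOf (ZMod.unitOfCoprime (q ^ 1) (hcop.pow_left 1)) = orderOf (q : ZMod p) := by
    rw [← orderOf_units]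
    congr 1
    simp
  rw [hord] at hPdeg
  set e := orderOf (q : ZMod p) with he
  have hμe : μ.natDegree = e := hdeg.trans hPdeg
  have hepos : 0 < e := by
    rw [← hPdeg]
    exact Irreducible.natDegree_pos hPirr
  apply le_antisymm
  · -- finrank ≤ e
    obtain ⟨v, hv⟩ := exists_ne (0 : V)
    let φ : degreeLT (ZMod q) e →ₗ[ZMod q] V :=
      { toFun := fun R => aeval T (R : (ZMod q)[X]) v
        map_add' := fun R S => by simp
        map_smul' := fun c R => by simp }
    have hinv : ∀ w ∈ LinearMap.range φ, T w ∈ LinearMap.range φ := by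
      rintro w ⟨R, rfl⟩
      have hmem : (X * (R : (ZMod q)[X])) %ₘ μ ∈ degreeLT (ZMod q) e := by
        rw [mem_degreeLT]
        have := degree_modByMonic_lt (X * (R : (ZMod q)[X])) hμmonic
        rw [degree_eq_natDegree hμ0, hμe] at this
        exact this
      refine ⟨⟨_, hmem⟩, ?_⟩
      show aeval T ((X * (R : (ZMod q)[X])) %ₘ μ) v = T (aeval T (R : (ZMod q)[X]) v)
      rw [aeval_modByMonic_eq_self_of_root hμT, map_mul, aeval_X]
      rfl
    have hrange : LinearMap.range φ = ⊤ := by
      rcases hirr _ hinv with h | h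
      · exfalso
        have h1 : (1 : (ZMod q)[X]) ∈ degreeLT (ZMod q) e := by
          rw [mem_degreeLT, degree_one]
          exact_mod_cast hepos
        have h2 : v ∈ LinearMap.range φ := ⟨⟨1, h1⟩, by simp [φ]⟩
        rw [h] at h2
        exact hv (by simpa using h2)
      · exact h
    have hsurj : Function.Surjective φ := LinearMap.range_eq_top.mp hrange
    have h1 := LinearMap.finrank_le_finrank_of_surjective hsurj
    have h2 : Module.finrank (ZMod q) (degreeLT (ZMod q) e) = e := by
      rw [LinearEquiv.finrank_eq (degreeLTEquiv (ZMod q) e), Module.finrank_fin_fun]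
    rwa [h2] at h1
  · -- e ≤ finrank
    rw [← hμe, ← LinearMap.charpoly_natDegree T]
    exact natDegree_le_of_dvd (LinearMap.minpoly_dvd_charpoly T) (LinearMap.charpoly_monic T).ne_zero

end Cfsg.Agent.Lib.Helper64
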