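import Mathlib
import Cfsg.Prelude.Def_Transfer
import Cfsg.Agent.Lib.Helper64.IrredLA

set_option autoImplicit false

namespace Cfsg.Agent.Lib.Helper64

variable {G : Type*} [Group G]

/-- A subgroup of prime index together with an outside element generates the group. -/
lemma sup_zpowers_eq_top_of_index_prime (A : Subgroup G) {p : ℕ} (hp : p.Prime)
    (hidx : A.index = p) (x : G) (hx : x ∉ A) : A ⊔ Subgroup.zpowers x = ⊤ := by
  have hle : A ≤ A ⊔ Subgroup.zpowers x := le_sup_left
  have hdvd : (A ⊔ Subgroup.zpowers x).index ∣ p := hidx ▸ Subgroup.index_dvd_of_le hle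
  rcases (Nat.dvd_prime hp).mp hdvd with h | h
  · exact Subgroup.index_eq_one.mp h
  · exfalso
    have h1 := Subgroup.relIndex_mul_index hle
    rw [h, hidx] at h1
    have h2 : A.relIndex (A ⊔ Subgroup.zpowers x) = 1 := by
      have hp0 : 0 < p := hp.pos
      exact Nat.eq_of_mul_eq_mul_right hp0 (by rw [h1, one_mul])
    have h3 := Subgroup.relIndex_eq_one.mp h2
    exact hx (h3 (le_sup_right (a := A) (Subgroup.mem_zpowers x)))

/-- Every element is `a * x ^ m` with `a ∈ A`. -/
lemma exists_eq_mul_pow [Finite G] (A : Subgroup G) [A.Normal] {p : ℕ} (hp : p.Prime)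
    (hidx : A.index = p) (x : G) (hx : x ∉ A) (g : G) : ∃ a ∈ A, ∃ m : ℕ, g = a * x ^ m := by
  have hg : g ∈ ((A ⊔ Subgroup.zpowers x : Subgroup G) : Set G) := by
    rw [sup_zpowers_eq_top_of_index_prime A hp hidx x hx]; trivial
  rw [Subgroup.normal_mul] at hg
  obtain ⟨a, ha, z, hz, rfl⟩ := hg
  have hz' : z ∈ Submonoid.powers x := (isOfFinOrder_of_finite x).mem_powers_iff_mem_zpowers.mpr hz
  obtain ⟨m, rfl⟩ := hz'
  exact ⟨a, ha, m, rfl⟩

lemma conj_pow_eq_of_comm (A : Subgroup G) (hcomm : ∀ a ∈ A, ∀ b ∈ A, a * b = b * a)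
    (a b : G) (ha : a ∈ A) (hb : b ∈ A) : a * b * a⁻¹ = b := by
  rw [hcomm a ha b hb]; group

/-- If an element outside an abelian normal subgroup `A` of prime index centralizes `A`, the group
is commutative. -/
lemma isMulCommutative_of_centralizing [Finite G] (A : Subgroup G) [A.Normal] {p : ℕ} (hp : p.Prime)
    (hidx : A.index = p) (hcomm : ∀ a ∈ A, ∀ b ∈ A, a * b = b * a) (x : G) (hx : x ∉ A)
    (hcent : ∀ a ∈ A, x * a * x⁻¹ = a) : IsMulCommutative G := by
  have hgen := exists_eq_mul_pow A hp hidx x hx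
  have hcent' : ∀ m : ℕ, ∀ a ∈ A, x ^ m * a = a * x ^ m := by
    intro m a ha
    have h1 : x * a = a * x := by
      calc x * a = x * a * x⁻¹ * x := by group
        _ = a * x := by rw [hcent a ha]
    exact (Commute.pow_left (show Commute x a from h1) m).eq
  refine ⟨⟨fun g h => ?_⟩⟩
  obtain ⟨a, ha, m, rfl⟩ := hgen g
  obtain ⟨b, hb, n, rfl⟩ := hgen h
  calc a * x ^ m * (b * x ^ n) = a * (x ^ m * b) * x ^ n := by group
    _ = a * (b * x ^ m) * x ^ n := by rw [hcent' m b hb]
    _ = (a * b) * (x ^ m * x ^ n) := by group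
    _ = (b * a) * (x ^ n * x ^ m) := by rw [hcomm a ha b hb, ← pow_add, ← pow_add, add_comm]
    _ = b * (a * x ^ n) * x ^ m := by group
    _ = b * (x ^ n * a) * x ^ m := by rw [hcent' n a ha]
    _ = b * x ^ n * (a * x ^ m) := by group

/-- In a `p`-group every Sylow `p`-subgroup is the whole group. -/
lemma sylow_eq_top_of_isPGroup {X : Type*} [Group X] {p : ℕ} (hX : IsPGroup p X) (P : Sylow p X) :
    (P : Subgroup X) = ⊤ := by
  have h1 : IsPGroup p (⊤ : Subgroup X) := hX.to_subgroup ⊤
  exact (P.3 h1 le_top).symm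

lemma sylow_normal_of_isPGroup {X : Type*} [Group X] {p : ℕ} (hX : IsPGroup p X) (P : Sylow p X) :
    (P : Subgroup X).Normal := by
  rw [sylow_eq_top_of_isPGroup hX P]; infer_instance

/-- Main group-theoretic statement: a non-abelian group with a minimal normal elementary abelian
`q`-subgroup `A` of prime index `p ≠ q` has `|A| = q ^ ord_p(q)`. -/
theorem card_of_minimal_normal_index_prime [Finite G] {p q : ℕ} [hp : Fact p.Prime] (hq : q.Prime)
    (hpq : q ≠ p) (hna : ¬ IsMulCommutative G) (A : Subgroup G) [hAn : A.Normal]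
    (hA : Cfsg.IsElementaryAbelian q A) (hidx : A.index = p)
    (hmin : ∀ B : Subgroup G, B.Normal → B ≤ A → B = ⊥ ∨ B = A) :
    Nat.card ↥A = q ^ orderOf (q : ZMod p) := by
  classical
  haveI : Fact q.Prime := ⟨hq⟩
  obtain ⟨hAcomm, hAexp⟩ := hA
  have hcomm : ∀ a ∈ A, ∀ b ∈ A, a * b = b * a := by
    intro a ha b hb
    exact congrArg Subtype.val (hAcomm.is_comm.comm ⟨a, ha⟩ ⟨b, hb⟩)
  -- an element outside A
  have hAtop : A ≠ ⊤ := by
    intro h
    rw [h, Subgroup.index_top] at hidx
    exact hp.out.one_lt.ne hidx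
  obtain ⟨x, hx⟩ : ∃ x : G, x ∉ A := by
    by_contra hcon
    push Not at hcon
    exact hAtop (eq_top_iff.mpr fun g _ => hcon g)
  have hgen := exists_eq_mul_pow A hp.out hidx x hx
  have hxpow : ∀ m : ℕ, ∀ a ∈ A, x ^ m * a * (x ^ m)⁻¹ ∈ A := fun m a ha => hAn.conj_mem a ha _
  -- if x centralizes A then G is commutative
  have hnotcent : ¬ ∀ a ∈ A, x * a * x⁻¹ = a := fun hcent =>
    hna (isMulCommutative_of_centralizing A hp.out hidx hcomm x hx hcent)
  -- additive / linear structure on A
  letI instCG : CommGroup A :=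
    { (inferInstance : Group A) with mul_comm := fun a b => hAcomm.is_comm.comm a b }
  have hexpV : ∀ v : Additive A, q • v = 0 := by
    intro v
    have h1 : (Additive.toMul v) ^ q = 1 := by
      apply Subtype.ext
      simpa using hAexp _ (Additive.toMul v).2
    have h2 : Additive.ofMul ((Additive.toMul v) ^ q) = q • v := rfl
    rw [← h2, h1]; rfl
  have instMod : Module (ZMod q) (Additive A) := AddCommGroup.zmodModule hexpV
  let T0 : Additive A →+ Additive A :=
    MonoidHom.toAdditive ((MulAut.conjNormal x : MulAut A).toMonoidHom)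
  let T : Additive A →ₗ[ZMod q] Additive A := T0.toZModLinearMap q
  have hTval : ∀ v : Additive A, ((Additive.toMul (T v) : A) : G) = x * (Additive.toMul v : A) * x⁻¹ := by
    intro v; rfl
  have hTpow : ∀ (m : ℕ) (v : Additive A),
      ((Additive.toMul ((T ^ m) v) : A) : G) = x ^ m * (Additive.toMul v : A) * (x ^ m)⁻¹ := by
    intro m
    induction m with
    | zero => intro v; simp
    | succ m ih =>
      intro v
      rw [pow_succ, Module.End.mul_apply, ih, hTval, pow_succ]
      group
  have hTp : T ^ p = 1 := by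
    apply LinearMap.ext
    intro v
    have h1 := hTpow p v
    have h2 : x ^ p ∈ A := hidx ▸ Subgroup.pow_index_mem A x
    rw [conj_pow_eq_of_comm A hcomm _ _ h2 (Additive.toMul v).2] at h1
    have h3 : Additive.toMul ((T ^ p) v) = Additive.toMul v := Subtype.ext h1
    exact h3
  have hT1 : T ≠ 1 := by
    intro h
    apply hnotcent
    intro a ha
    have h1 := hTval (Additive.ofMul ⟨a, ha⟩)
    rw [h] at h1
    exact h1.symm
  -- A nontrivial
  have hAbot : A ≠ ⊥ := by
    intro h
    apply hnotcent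
    intro a ha
    rw [h, Subgroup.mem_bot] at ha
    rw [ha]; group
  haveI : Nontrivial (Additive A) := by
    have : Nontrivial A := (Subgroup.nontrivial_iff_ne_bot A).mpr hAbot
    exact (Additive.ofMul : A ≃ Additive A).nontrivial_congr.mp this |> fun h => h
  -- irreducibility
  have hirr : ∀ W : Submodule (ZMod q) (Additive A), (∀ w ∈ W, T w ∈ W) → W = ⊥ ∨ W = ⊤ := by
    intro W hW
    have hWpow : ∀ (m : ℕ), ∀ w ∈ W, (T ^ m) w ∈ W := by
      intro m
      induction m with
      | zero => intro w hw; simpa using hw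
      | succ m ih =>
        intro w hw
        rw [pow_succ, Module.End.mul_apply]
        exact ih _ (hW w hw)
    let B : Subgroup G := (AddSubgroup.toSubgroup' W.toAddSubgroup).map A.subtype
    have hBmem : ∀ g : G, g ∈ B ↔ ∃ h : g ∈ A, Additive.ofMul (⟨g, h⟩ : A) ∈ W := by
      intro g
      constructor
      · rintro ⟨a, ha, rfl⟩
        exact ⟨a.2, ha⟩
      · rintro ⟨h, hw⟩
        exact ⟨⟨g, h⟩, hw, rfl⟩
    have hBA : B ≤ A := fun g hg => ((hBmem g).mp hg).1
    have hBn : B.Normal := by
      constructor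
      intro b hb g
      obtain ⟨hbA, hbW⟩ := (hBmem b).mp hb
      obtain ⟨a, ha, m, rfl⟩ := hgen g
      have h1 : a * x ^ m * b * (a * x ^ m)⁻¹ = a * (x ^ m * b * (x ^ m)⁻¹) * a⁻¹ := by group
      rw [h1, conj_pow_eq_of_comm A hcomm _ _ ha (hxpow m b hbA)]
      rw [hBmem]
      refine ⟨hxpow m b hbA, ?_⟩
      have h2 := hWpow m _ hbW
      have h3 : (T ^ m) (Additive.ofMul (⟨b, hbA⟩ : A))
          = Additive.ofMul (⟨x ^ m * b * (x ^ m)⁻¹, hxpow m b hbA⟩ : A) := by
        have := hTpow m (Additive.ofMul (⟨b, hbA⟩ : A))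
        exact congrArg Additive.ofMul (Subtype.ext this)
      rwa [h3] at h2
    rcases hmin B hBn hBA with h | h
    · left
      rw [eq_bot_iff]
      intro w hw
      have : ((Additive.toMul w : A) : G) ∈ B := (hBmem _).mpr ⟨(Additive.toMul w).2, hw⟩
      rw [h, Subgroup.mem_bot] at this
      have h2 : Additive.toMul w = 1 := Subtype.ext this
      rw [Submodule.mem_bot]
      exact h2
    · right
      rw [eq_top_iff]
      intro w _
      have : ((Additive.toMul w : A) : G) ∈ B := by rw [h]; exact (Additive.toMul w).2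
      obtain ⟨_, hw⟩ := (hBmem _).mp this
      exact hw
  haveI : Finite (Additive A) := (Additive.ofMul : A ≃ Additive A).finite_iff.mp inferInstance
  have hfr := finrank_of_irreducible_prime_order hpq T hTp hT1 hirr
  have hcardV : Nat.card (Additive A) = q ^ Module.finrank (ZMod q) (Additive A) := by
    haveI : Fintype (Additive A) := Fintype.ofFinite _
    rw [Nat.card_eq_fintype_card, Module.card_eq_pow_finrank (K := ZMod q), ZMod.card]
  rw [← hfr, ← hcardV]
  exact Nat.card_congr (Additive.ofMul : A ≃ Additive A)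

end Cfsg.Agent.Lib.Helper64
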