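import Mathlib
import Cfsg.Prelude
import Cfsg.Agent.Lib.Helper64.Metacyclic

set_option autoImplicit false

namespace Cfsg.Agent.Lib.Helper64

section Metacyclic2

variable {G : Type*} [Group G]

/-- `G/N` is cyclic when `G = N ⟨b⟩`. -/
lemma isCyclic_quotient_of_sup_zpowers (N : Subgroup G) [N.Normal] (b : G)
    (hgen : N ⊔ Subgroup.zpowers b = ⊤) : IsCyclic (G ⧸ N) := by
  refine ⟨⟨QuotientGroup.mk b, ?_⟩⟩
  intro q
  obtain ⟨g, rfl⟩ := QuotientGroup.mk_surjective q
  have hg : g ∈ N ⊔ Subgroup.zpowers b := by rw [hgen]; trivial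
  obtain ⟨h, hh, z, hz, rfl⟩ := Subgroup.mem_sup_of_normal_left.mp hg
  obtain ⟨k, rfl⟩ := Subgroup.mem_zpowers_iff.mp hz
  rw [QuotientGroup.mk_mul, (QuotientGroup.eq_one_iff h).mpr hh, one_mul, QuotientGroup.mk_zpow]
  exact Subgroup.zpow_mem _ (Subgroup.mem_zpowers _) k

/-- every subgroup `L` of `G = N⟨b⟩` is of the form `(L ∩ N)⟨y⟩`. -/
lemma exists_gen_mod (N : Subgroup G) [N.Normal] (b : G)
    (hgen : N ⊔ Subgroup.zpowers b = ⊤) (L : Subgroup G) :
    ∃ y ∈ L, L ≤ N ⊔ Subgroup.zpowers y := by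
  haveI := isCyclic_quotient_of_sup_zpowers N b hgen
  obtain ⟨⟨q, hq⟩, hgenq⟩ := (inferInstance : IsCyclic (L.map (QuotientGroup.mk' N))).exists_generator
  obtain ⟨y, hyL, rfl⟩ := hq
  refine ⟨y, hyL, ?_⟩
  intro l hl
  have h1 : (⟨QuotientGroup.mk' N l, ⟨l, hl, rfl⟩⟩ : L.map (QuotientGroup.mk' N)) ∈
      Subgroup.zpowers (⟨QuotientGroup.mk' N y, ⟨y, hyL, rfl⟩⟩ : L.map (QuotientGroup.mk' N)) := hgenq _
  obtain ⟨k, hk⟩ := Subgroup.mem_zpowers_iff.mp h1
  have hk' : (QuotientGroup.mk' N y) ^ k = QuotientGroup.mk' N l := by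
    have := congrArg Subtype.val hk
    simpa using this
  have h2 : l * (y ^ k)⁻¹ ∈ N := by
    rw [← QuotientGroup.eq_one_iff, ← QuotientGroup.mk'_apply, map_mul, map_inv, map_zpow, hk',
      mul_inv_cancel]
  have h3 : l = (l * (y ^ k)⁻¹) * y ^ k := by group
  rw [h3]
  exact Subgroup.mul_mem _ (Subgroup.mem_sup_left h2)
    (Subgroup.mem_sup_right (Subgroup.zpow_mem _ (Subgroup.mem_zpowers y) k))

/-- `|G : G'| = |C_G(N)|`. -/
lemma index_commutator_eq_card_centralizer [Finite G] {p : ℕ} [hp : Fact p.Prime] (hp2 : p ≠ 2)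
    (hG : IsPGroup p G) (N : Subgroup G) [hNn : N.Normal] (a b : G) (hN : N = Subgroup.zpowers a)
    (hgen : N ⊔ Subgroup.zpowers b = ⊤) :
    (commutator G).index = Nat.card (Subgroup.centralizer (N : Set G)) := by
  obtain ⟨h1, _, _, _⟩ := metacyclic_core hp2 hG N a b hN hgen
  have h3 := (Subgroup.centralizer (N : Set G)).card_mul_index
  have h4 := (commutator G).card_mul_index
  rw [h1] at h3
  have hpos : 0 < Nat.card (commutator G) := Nat.card_pos
  have : Nat.card (commutator G) * (commutator G).index =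
      Nat.card (commutator G) * Nat.card (Subgroup.centralizer (N : Set G)) := by
    rw [h4, ← h3, mul_comm]
  exact Nat.eq_of_mul_eq_mul_left hpos this

/-- A subgroup `L` of a metacyclic `p`-group (`p` odd) is abelian iff `|L| ≤ |C_G(N)|` (`= |G : G'|`). -/
theorem isMulCommutative_iff_card_le [Finite G] {p : ℕ} [hp : Fact p.Prime] (hp2 : p ≠ 2)
    (hG : IsPGroup p G) (N : Subgroup G) [hNn : N.Normal] (a b : G) (hN : N = Subgroup.zpowers a)
    (hgen : N ⊔ Subgroup.zpowers b = ⊤) (L : Subgroup G) :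
    IsMulCommutative L ↔ Nat.card L ≤ Nat.card (Subgroup.centralizer (N : Set G)) := by
  obtain ⟨_, _, hCcomm, hNC⟩ := metacyclic_core hp2 hG N a b hN hgen
  set C := Subgroup.centralizer (N : Set G) with hC
  have hCn : C.Normal := inferInstance
  obtain ⟨y, hyL, hLy⟩ := exists_gen_mod N b hgen L
  have hNcomm : ∀ u ∈ N, ∀ v ∈ N, u * v = v * u := fun u hu v hv => hCcomm u (hNC hu) v (hNC hv)
  set D := L ⊓ N with hD
  -- Claim 1
  have hcl1 : IsMulCommutative L ↔ D ≤ Subgroup.centralizer ({y} : Set G) := by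
    constructor
    · intro h u hu
      rw [Subgroup.mem_centralizer_singleton_iff]
      have := h.is_comm.comm (⟨u, hu.1⟩ : L) ⟨y, hyL⟩
      exact congrArg Subtype.val this
    · intro h
      have key : ∀ l ∈ L, ∃ n ∈ D, ∃ k : ℤ, l = n * y ^ k := by
        intro l hl
        obtain ⟨n, hn, z, hz, rfl⟩ := Subgroup.mem_sup_of_normal_left.mp (hLy hl)
        obtain ⟨k, rfl⟩ := Subgroup.mem_zpowers_iff.mp hz
        refine ⟨n, ⟨?_, hn⟩, k, rfl⟩
        have : n = (n * y ^ k) * (y ^ k)⁻¹ := by group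
        rw [this]
        exact L.mul_mem hl (L.inv_mem (L.zpow_mem hyL k))
      refine ⟨⟨fun u v => ?_⟩⟩
      apply Subtype.ext
      obtain ⟨n₁, hn₁, k₁, h1⟩ := key u u.2
      obtain ⟨n₂, hn₂, k₂, h2⟩ := key v v.2
      show (u : G) * v = v * u
      rw [h1, h2]
      have e1 : Commute n₁ y := (Subgroup.mem_centralizer_singleton_iff.mp (h hn₁))
      have e2 : Commute n₂ y := (Subgroup.mem_centralizer_singleton_iff.mp (h hn₂))
      have e3 : Commute n₁ n₂ := hNcomm n₁ hn₁.2 n₂ hn₂.2
      have e4 : Commute (y ^ k₁) n₂ := (e2.zpow_right k₁).symm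
      have e5 : Commute (y ^ k₂) n₁ := (e1.zpow_right k₂).symm
      have e6 : Commute (y ^ k₁) (y ^ k₂) := (Commute.refl y).zpow_zpow k₁ k₂
      calc n₁ * y ^ k₁ * (n₂ * y ^ k₂) = n₁ * (y ^ k₁ * n₂) * y ^ k₂ := by group
        _ = n₁ * (n₂ * y ^ k₁) * y ^ k₂ := by rw [e4.eq]
        _ = (n₁ * n₂) * (y ^ k₁ * y ^ k₂) := by group
        _ = (n₂ * n₁) * (y ^ k₂ * y ^ k₁) := by rw [e3.eq, e6.eq]
        _ = n₂ * (n₁ * y ^ k₂) * y ^ k₁ := by group
        _ = n₂ * (y ^ k₂ * n₁) * y ^ k₁ := by rw [e5.eq]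
        _ = n₂ * y ^ k₂ * (n₁ * y ^ k₁) := by group
  -- Claim 2
  set F := N ⊓ Subgroup.centralizer ({y} : Set G) with hF
  have hcl2 : D ≤ Subgroup.centralizer ({y} : Set G) ↔ Nat.card D ≤ Nat.card F := by
    constructor
    · intro h
      exact Subgroup.card_le_of_le (le_inf inf_le_right h)
    · intro h
      have := le_of_card_le_of_le_zpowers hG a D F (by rw [← hN]; exact inf_le_right)
        (by rw [← hN]; exact inf_le_left) h
      exact this.trans inf_le_right
  -- orders
  set E := C.relIndex (Subgroup.zpowers y) with hE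
  set o := N.relIndex (Subgroup.zpowers y) with ho
  have hya : y * a * y⁻¹ ∈ Subgroup.zpowers a := by
    rw [← hN]
    exact hNn.conj_mem a (by rw [hN]; exact Subgroup.mem_zpowers a) y
  have hcent_eq : Subgroup.centralizer ({a} : Set G) = C := by
    ext g
    rw [hC, hN, mem_centralizer_zpowers_iff, Subgroup.mem_centralizer_singleton_iff]
    constructor
    · intro h; exact h
    · intro h; exact h
  have hFE : Nat.card F * E = Nat.card N := by
    have h1 := card_inf_mul_relIndex (Subgroup.centralizer ({y} : Set G)) N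
    rw [inf_comm] at h1
    have h2 := relIndex_centralizer_symm hp2 hG y a hya
    rw [hcent_eq] at h2
    rw [hE, h2, ← hN]
    exact h1
  have hLcard : Nat.card D * o = Nat.card L := by
    have h1 := card_inf_mul_relIndex N L
    have h2 : N.relIndex L = o := by
      rw [ho, ← Subgroup.relIndex_sup_right (H := L) (K := N),
        ← Subgroup.relIndex_sup_right (H := Subgroup.zpowers y) (K := N)]
      congr 1
      apply le_antisymm
      · exact sup_le (by rw [sup_comm]; exact hLy) le_sup_right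
      · exact sup_le ((Subgroup.zpowers_le.mpr hyL).trans le_sup_left) le_sup_right
    rw [h2, inf_comm] at h1
    exact h1
  have hCcard : Nat.card N * N.relIndex C = Nat.card C := by
    have h1 := card_inf_mul_relIndex N C
    rwa [inf_eq_left.mpr hNC] at h1
  -- o ∣ N.relIndex C * E
  have hW : N.relIndex C * E = N.relIndex (Subgroup.zpowers y ⊔ C) := by
    rw [hE, ← Subgroup.relIndex_sup_right (H := Subgroup.zpowers y) (K := C)]
    exact Subgroup.relIndex_mul_relIndex _ _ _ hNC le_sup_right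
  have hodvd : o ∣ N.relIndex C * E := by
    rw [hW, ho, ← Subgroup.relIndex_sup_right (H := Subgroup.zpowers y) (K := N)]
    have h1 : N ≤ Subgroup.zpowers y ⊔ N := le_sup_right
    have h2 : Subgroup.zpowers y ⊔ N ≤ Subgroup.zpowers y ⊔ C := sup_le_sup_left hNC _
    rw [← Subgroup.relIndex_mul_relIndex _ _ _ h1 h2]
    exact dvd_mul_right _ _
  have hrel_pos : ∀ H K : Subgroup G, 0 < H.relIndex K := fun H K =>
    Nat.pos_of_ne_zero (Subgroup.index_ne_zero_of_finite (H := H.subgroupOf K))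
  have hpos1 : 0 < N.relIndex C * E := Nat.mul_pos (hrel_pos _ _) (hrel_pos _ _)
  rw [hcl1, hcl2]
  constructor
  · intro h
    calc Nat.card L = Nat.card D * o := hLcard.symm
      _ ≤ Nat.card D * (N.relIndex C * E) := Nat.mul_le_mul_left _ (Nat.le_of_dvd hpos1 hodvd)
      _ ≤ Nat.card F * (N.relIndex C * E) := Nat.mul_le_mul_right _ h
      _ = (Nat.card F * E) * N.relIndex C := by ring
      _ = Nat.card C := by rw [hFE, hCcard]
  · intro h
    by_contra hlt
    push Not at hlt
    -- y ∉ C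
    have hyC : y ∉ C := by
      intro hy
      have : D ≤ Subgroup.centralizer ({y} : Set G) := by
        intro u hu
        rw [Subgroup.mem_centralizer_singleton_iff]
        exact (Subgroup.mem_centralizer_iff.mp hy u hu.2)
      exact absurd (hcl2.mp this) (not_le.mpr hlt)
    -- hence C ≤ zpowers y ⊔ N
    have hCY : C ≤ Subgroup.zpowers y ⊔ N := by
      haveI := isCyclic_quotient_of_sup_zpowers N b hgen
      have hQ : IsPGroup p (G ⧸ N) := hG.to_quotient N
      rcases le_total (Nat.card (C.map (QuotientGroup.mk' N)))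
        (Nat.card ((Subgroup.zpowers y ⊔ N).map (QuotientGroup.mk' N))) with h1 | h1
      · have h2 := le_of_card_le_of_isCyclic hQ _ _ h1
        have h3 := Subgroup.comap_mono (f := QuotientGroup.mk' N) h2
        rw [Subgroup.comap_map_eq, Subgroup.comap_map_eq, QuotientGroup.ker_mk'] at h3
        calc C ≤ C ⊔ N := le_sup_left
          _ ≤ (Subgroup.zpowers y ⊔ N) ⊔ N := h3
          _ = Subgroup.zpowers y ⊔ N := by rw [sup_assoc, sup_idem]
      · exfalso
        have h2 := le_of_card_le_of_isCyclic hQ _ _ h1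
        have h3 := Subgroup.comap_mono (f := QuotientGroup.mk' N) h2
        rw [Subgroup.comap_map_eq, Subgroup.comap_map_eq, QuotientGroup.ker_mk'] at h3
        apply hyC
        have : y ∈ C ⊔ N := h3 (Subgroup.mem_sup_left (Subgroup.mem_sup_left (Subgroup.mem_zpowers y)))
        rwa [sup_eq_left.mpr hNC] at this
    have hoeq : o = N.relIndex C * E := by
      rw [hW, ho, ← Subgroup.relIndex_sup_right (H := Subgroup.zpowers y) (K := N)]
      congr 1
      apply le_antisymm
      · exact sup_le_sup_left hNC _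
      · exact sup_le le_sup_left hCY
    have : Nat.card C < Nat.card L := by
      calc Nat.card C = (Nat.card F * E) * N.relIndex C := by rw [hFE, hCcard]
        _ = Nat.card F * (N.relIndex C * E) := by ring
        _ < Nat.card D * (N.relIndex C * E) := Nat.mul_lt_mul_of_pos_right hlt hpos1
        _ = Nat.card L := by rw [← hoeq, hLcard]
    exact absurd h (not_le.mpr this)

end Metacyclic2

end Cfsg.Agent.Lib.Helper64
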