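import Mathlib
import Cfsg.Prelude
import Cfsg.Agent.Lib.Helper64.Metacyclic
import Cfsg.Agent.Lib.Helper64.Metacyclic2
import Cfsg.Agent.S3879

set_option autoImplicit false

namespace Cfsg.Agent.Lib.Helper64

open scoped Pointwise

section Metacyclic3

variable {G : Type*} [Group G]

/-- commutator of a power: `[x^l, g] = s^(1 + c + ⋯ + c^(l-1))` when `[x, g] = s` and `x` acts on
`⟨s⟩` by `c`-th powers. -/
lemma pow_conj_comm_eq {x g s : G} {c : ℕ} (hs : x * g * x⁻¹ * g⁻¹ = s)
    (hc : ∀ i : ℕ, x * s ^ i * x⁻¹ = (s ^ i) ^ c) (l : ℕ) :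
    x ^ l * g * (x ^ l)⁻¹ * g⁻¹ = s ^ (∑ t ∈ Finset.range l, c ^ t) := by
  induction l with
  | zero => simp
  | succ l ih =>
    have e : x ^ (l + 1) * g * (x ^ (l + 1))⁻¹ * g⁻¹ =
        x * (x ^ l * g * (x ^ l)⁻¹ * g⁻¹) * x⁻¹ * (x * g * x⁻¹ * g⁻¹) := by
      rw [pow_succ']; group
    rw [e, ih, hs, hc, ← pow_mul, ← pow_succ]
    congr 1
    rw [Finset.sum_range_succ', Finset.sum_mul, pow_zero]
    congr 1

/-- If `x^l` commutes with `g` then the order of `[x,g]` divides `l` (metacyclic `p`-group, `p` odd). -/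
lemma orderOf_dvd_of_commute_pow [Finite G] {p : ℕ} [hp : Fact p.Prime] (hp2 : p ≠ 2)
    (hG : IsPGroup p G) (a x g : G) (hxa : x * a * x⁻¹ ∈ Subgroup.zpowers a)
    (hs : x * g * x⁻¹ * g⁻¹ ∈ Subgroup.zpowers a) (l : ℕ) (hl : Commute (x ^ l) g) :
    orderOf (x * g * x⁻¹ * g⁻¹) ∣ l := by
  obtain ⟨c, hc0, hcp, hc⟩ := exists_conj_eq_pow hG x a hxa
  rw [← mem_powers_iff_mem_zpowers, Submonoid.mem_powers_iff] at hs
  obtain ⟨k, hk⟩ := hs
  set s := x * g * x⁻¹ * g⁻¹ with hsdef
  have hcs : ∀ i : ℕ, x * s ^ i * x⁻¹ = (s ^ i) ^ c := by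
    intro i
    rw [← hk, ← pow_mul]
    exact conj_pow_of_conj_eq_pow hc (k * i)
  have h1 := pow_conj_comm_eq (x := x) (g := g) (s := s) rfl hcs l
  have h2 : x ^ l * g * (x ^ l)⁻¹ * g⁻¹ = 1 := by
    rw [hl.eq]; group
  rw [h2] at h1
  have h3 : orderOf s ∣ ∑ t ∈ Finset.range l, c ^ t := orderOf_dvd_of_pow_eq_one h1.symm
  obtain ⟨j, hj⟩ := (IsPGroup.iff_orderOf.mp hG) s
  rw [hj] at h3 ⊢
  exact (pow_dvd_geom_sum_iff hp2 hc0 hcp j l).mp h3

/-- A bound for the index of a centralizer: if all `[x,g]` lie in a finite set of size `k`. -/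
lemma index_centralizer_le_card [Finite G] (K : Subgroup G) (g : G)
    (h : ∀ x : G, x * g * x⁻¹ * g⁻¹ ∈ K) : (Subgroup.centralizer ({g} : Set G)).index ≤ Nat.card K := by
  let f : G ⧸ Subgroup.centralizer ({g} : Set G) → K := fun q =>
    Quotient.liftOn' q (fun x => (⟨x * g * x⁻¹ * g⁻¹, h x⟩ : K)) (by
      intro x y hxy
      rw [QuotientGroup.leftRel_apply, Subgroup.mem_centralizer_singleton_iff] at hxy
      apply Subtype.ext
      show x * g * x⁻¹ * g⁻¹ = y * g * y⁻¹ * g⁻¹
      have : x * g * x⁻¹ = y * g * y⁻¹ := by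
        have e : y * g * y⁻¹ = x * (x⁻¹ * y * g) * y⁻¹ := by group
        rw [e, hxy]; group
      rw [this])
  have hf : Function.Injective f := by
    intro q₁ q₂
    induction q₁ using QuotientGroup.induction_on with | _ x => ?_
    induction q₂ using QuotientGroup.induction_on with | _ y => ?_
    intro hxy
    have h1 : x * g * x⁻¹ * g⁻¹ = y * g * y⁻¹ * g⁻¹ := congrArg Subtype.val hxy
    have h2 : x * g * x⁻¹ = y * g * y⁻¹ := mul_right_cancel h1
    rw [QuotientGroup.eq, Subgroup.mem_centralizer_singleton_iff]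
    calc x⁻¹ * y * g = x⁻¹ * (y * g * y⁻¹) * y := by group
      _ = x⁻¹ * (x * g * x⁻¹) * y := by rw [h2]
      _ = g * (x⁻¹ * y) := by group
  rw [Subgroup.index_eq_card]
  exact Nat.card_le_card_of_injective f hf

/-- Class sizes in metacyclic `p`-groups: the class of `g` has at most `p^i` elements iff all
`[x,g]` lie in the subgroup `K` of order `p^i` of `N`. -/
lemma index_centralizer_le_iff [Finite G] {p : ℕ} [hp : Fact p.Prime] (hp2 : p ≠ 2)
    (hG : IsPGroup p G) (a : G) (hnorm : ∀ x : G, x * a * x⁻¹ ∈ Subgroup.zpowers a)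
    (hcomm : ∀ x g : G, x * g * x⁻¹ * g⁻¹ ∈ Subgroup.zpowers a)
    (K : Subgroup G) (hK : K ≤ Subgroup.zpowers a) (i : ℕ) (hKcard : Nat.card K = p ^ i) (g : G) :
    (Subgroup.centralizer ({g} : Set G)).index ≤ p ^ i ↔ ∀ x : G, x * g * x⁻¹ * g⁻¹ ∈ K := by
  constructor
  · intro hle x
    by_contra hx
    set s := x * g * x⁻¹ * g⁻¹ with hs
    have hlt : Nat.card K < Nat.card (Subgroup.zpowers s) := by
      by_contra hcon
      push Not at hcon
      have := le_of_card_le_of_le_zpowers hG a (Subgroup.zpowers s) K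
        (Subgroup.zpowers_le.mpr (hcomm x g)) hK hcon
      exact hx (this (Subgroup.mem_zpowers s))
    rw [Nat.card_zpowers, hKcard] at hlt
    set l := (Subgroup.centralizer ({g} : Set G)).relIndex (Subgroup.zpowers x) with hl
    have h1 : x ^ l ∈ Subgroup.centralizer ({g} : Set G) :=
      (pow_mem_iff_relIndex_dvd _ x l).mpr dvd_rfl
    have h2 : Commute (x ^ l) g := Subgroup.mem_centralizer_singleton_iff.mp h1
    have h3 := orderOf_dvd_of_commute_pow hp2 hG a x g (hnorm x) (hcomm x g) l h2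
    have hlpos : 0 < l := Nat.pos_of_ne_zero
      (Subgroup.index_ne_zero_of_finite (H := (Subgroup.centralizer ({g} : Set G)).subgroupOf
        (Subgroup.zpowers x)))
    have h4 : orderOf s ≤ l := Nat.le_of_dvd hlpos h3
    have h5 : l ≤ (Subgroup.centralizer ({g} : Set G)).index := by
      rw [← Subgroup.relIndex_top_right]
      exact Subgroup.relIndex_le_of_le_right le_top
        (by rw [Subgroup.relIndex_top_right]; exact Subgroup.index_ne_zero_of_finite)
    omega
  · intro h
    rw [← hKcard]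
    exact index_centralizer_le_card K g h

/-- quotients of metacyclic groups are metacyclic -/
lemma isMetacyclic_quotient (N : Subgroup G) [hNn : N.Normal] (a b : G) (hN : N = Subgroup.zpowers a)
    (hgen : N ⊔ Subgroup.zpowers b = ⊤) (K : Subgroup G) [K.Normal] : Cfsg.IsMetacyclic (G ⧸ K) := by
  have hπ : Function.Surjective (QuotientGroup.mk' K) := QuotientGroup.mk'_surjective K
  have hN'n : (N.map (QuotientGroup.mk' K)).Normal := hNn.map _ hπ
  refine ⟨N.map (QuotientGroup.mk' K), hN'n, ?_, ?_⟩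
  · have : N.map (QuotientGroup.mk' K) = Subgroup.zpowers (QuotientGroup.mk' K a) := by
      rw [hN, MonoidHom.map_zpowers]
    rw [this]
    infer_instance
  · apply isCyclic_quotient_of_sup_zpowers (N.map (QuotientGroup.mk' K)) (QuotientGroup.mk' K b)
    rw [← MonoidHom.map_zpowers, ← Subgroup.map_sup, hgen, Subgroup.map_top_of_surjective _ hπ]

/-- For `i ≤ n` (`|G'| = p^n`) the elements of a metacyclic `p`-group (`p` odd) with class size at most
`p^i` form a subgroup of order `|Z(G)| p^(2i)`. -/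
theorem exists_subgroup_classLE [Finite G] {p : ℕ} [hp : Fact p.Prime] (hp2 : p ≠ 2)
    (hG : IsPGroup p G) (hmc : Cfsg.IsMetacyclic G) (n : ℕ)
    (hGn : Nat.card (commutator G) = p ^ n) (i : ℕ) (hi : i ≤ n) :
    ∃ Z : Subgroup G, Nat.card Z = Nat.card (Subgroup.center G) * p ^ (2 * i) ∧
      ∀ g : G, g ∈ Z ↔ (Subgroup.centralizer ({g} : Set G)).index ≤ p ^ i := by
  have hpp : p.Prime := hp.out
  obtain ⟨N, hNn, a, b, hN, hgen⟩ := exists_gens_of_isMetacyclic hmc
  haveI := hNn
  have hnorm : ∀ x : G, x * a * x⁻¹ ∈ Subgroup.zpowers a := by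
    intro x
    rw [← hN]
    exact hNn.conj_mem a (by rw [hN]; exact Subgroup.mem_zpowers a) x
  have hG'N : commutator G ≤ N :=
    Subgroup.Normal.commutator_le_of_self_sup_commutative_eq_top hgen inferInstance
  have hcomm : ∀ x g : G, x * g * x⁻¹ * g⁻¹ ∈ Subgroup.zpowers a := by
    intro x g
    rw [← hN]
    apply hG'N
    rw [commutator_def]
    exact Subgroup.commutator_mem_commutator (Subgroup.mem_top x) (Subgroup.mem_top g)
  -- the subgroup of order p^i in G'
  obtain ⟨K', hK'⟩ := Sylow.exists_subgroup_card_pow_prime (G := commutator G) p (n := i)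
    (by rw [hGn]; exact pow_dvd_pow p hi)
  set K := K'.map (commutator G).subtype with hK
  have hKcard : Nat.card K = p ^ i := by
    rw [hK, Subgroup.card_map_of_injective (Subgroup.subtype_injective _), hK']
  have hKG' : K ≤ commutator G := Subgroup.map_subtype_le _
  have hKa : K ≤ Subgroup.zpowers a := by rw [← hN]; exact hKG'.trans hG'N
  have hKn : K.Normal := by
    constructor
    intro k hk x
    have h1 : x * k * x⁻¹ ∈ K.map (MulAut.conj x).toMonoidHom := ⟨k, hk, rfl⟩
    have h2 : K.map (MulAut.conj x).toMonoidHom ≤ Subgroup.zpowers a := by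
      rintro _ ⟨z, hz, rfl⟩
      rw [← hN]
      exact hNn.conj_mem z (by rw [hN]; exact hKa hz) x
    have h3 : Nat.card (K.map (MulAut.conj x).toMonoidHom) = Nat.card K :=
      Subgroup.card_map_of_injective (MulAut.conj x).injective
    exact le_of_card_le_of_le_zpowers hG a _ K h2 hKa h3.le h1
  haveI := hKn
  -- the quotient
  have hπ : Function.Surjective (QuotientGroup.mk' K) := QuotientGroup.mk'_surjective K
  have hQmc : Cfsg.IsMetacyclic (G ⧸ K) := isMetacyclic_quotient N a b hN hgen K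
  have hQp : IsPGroup p (G ⧸ K) := hG.to_quotient K
  have h3879 := Cfsg.Agent.S3879.result hp2 hQp hQmc
  have h3879' := Cfsg.Agent.S3879.result hp2 hG hmc
  -- the commutator subgroup of the quotient
  have hQcomm : commutator (G ⧸ K) = (commutator G).map (QuotientGroup.mk' K) := by
    rw [commutator_def, commutator_def, Subgroup.map_commutator, Subgroup.map_top_of_surjective _ hπ]
  have hQcard : Nat.card (commutator (G ⧸ K)) = p ^ (n - i) := by
    have h1 : ((commutator G).map (QuotientGroup.mk' K)).comap (QuotientGroup.mk' K) = commutator G := by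
      rw [Subgroup.comap_map_eq, QuotientGroup.ker_mk', sup_eq_left.mpr hKG']
    have h2 : ((commutator G).map (QuotientGroup.mk' K)).index = (commutator G).index := by
      rw [← h1, Subgroup.index_comap_of_surjective _ hπ, h1]
    have h3 := ((commutator G).map (QuotientGroup.mk' K)).card_mul_index
    have h4 := (commutator G).card_mul_index
    have h5 := Subgroup.card_eq_card_quotient_mul_card_subgroup K
    rw [h2] at h3
    rw [hGn] at h4
    rw [hKcard] at h5
    have hidxpos : 0 < (commutator G).index := Nat.pos_of_ne_zero Subgroup.index_ne_zero_of_finite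
    rw [hQcomm]
    have h6 : Nat.card ((commutator G).map (QuotientGroup.mk' K)) * p ^ i * (commutator G).index =
        p ^ (n - i) * p ^ i * (commutator G).index := by
      rw [← pow_add, Nat.sub_add_cancel hi, h4, h5, ← h3]; ring
    have h7 := Nat.eq_of_mul_eq_mul_right hidxpos h6
    exact Nat.eq_of_mul_eq_mul_right (pow_pos hpp.pos i) h7
  rw [hQcard] at h3879
  rw [hGn] at h3879'
  -- the subgroup
  refine ⟨(Subgroup.center (G ⧸ K)).comap (QuotientGroup.mk' K), ?_, ?_⟩
  · have h1 : ((Subgroup.center (G ⧸ K)).comap (QuotientGroup.mk' K)).index = (p ^ (n - i)) ^ 2 := by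
      rw [Subgroup.index_comap_of_surjective _ hπ, h3879]
    have h2 := ((Subgroup.center (G ⧸ K)).comap (QuotientGroup.mk' K)).card_mul_index
    have h3 := (Subgroup.center G).card_mul_index
    rw [h1] at h2
    rw [h3879'] at h3
    have h4 : Nat.card ((Subgroup.center (G ⧸ K)).comap (QuotientGroup.mk' K)) * (p ^ (n - i)) ^ 2 =
        Nat.card (Subgroup.center G) * p ^ (2 * i) * (p ^ (n - i)) ^ 2 := by
      rw [h2, ← h3]
      have : (p ^ n) ^ 2 = p ^ (2 * i) * (p ^ (n - i)) ^ 2 := by
        rw [← pow_mul, ← pow_mul, ← pow_add]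
        congr 1
        omega
      rw [this]; ring
    exact Nat.eq_of_mul_eq_mul_right (pow_pos (pow_pos hpp.pos _) 2) h4
  · intro g
    rw [index_centralizer_le_iff hp2 hG a hnorm hcomm K hKa i hKcard g, Subgroup.mem_comap,
      Subgroup.mem_center_iff]
    constructor
    · intro h x
      rw [← QuotientGroup.eq_one_iff, ← QuotientGroup.mk'_apply]
      simp only [map_mul, map_inv]
      have := h (QuotientGroup.mk' K x)
      rw [this]; group
    · intro h q
      obtain ⟨x, rfl⟩ := hπ q
      have h1 : QuotientGroup.mk' K (x * g * x⁻¹ * g⁻¹) = 1 := (QuotientGroup.eq_one_iff _).mpr (h x)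
      simp only [map_mul, map_inv] at h1
      calc QuotientGroup.mk' K x * QuotientGroup.mk' K g
          = (QuotientGroup.mk' K x * QuotientGroup.mk' K g * (QuotientGroup.mk' K x)⁻¹ *
            (QuotientGroup.mk' K g)⁻¹) * (QuotientGroup.mk' K g * QuotientGroup.mk' K x) := by group
        _ = QuotientGroup.mk' K g * QuotientGroup.mk' K x := by rw [h1, one_mul]

end Metacyclic3

end Cfsg.Agent.Lib.Helper64
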