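import Mathlib
import Cfsg.Prelude
import Cfsg.Agent.Lib.Helper64.MinNormal

set_option autoImplicit false

namespace Cfsg.Agent.Lib.Helper64

open scoped Pointwise

variable {G : Type*} [Group G]

/-- A `p`-subgroup meets a subgroup of a `p'`-group trivially. -/
lemma inf_eq_bot_of_isPGroup_of_not_dvd [Finite G] {p : ℕ} [Fact p.Prime] (N : Subgroup G)
    (hNp : ¬ p ∣ Nat.card N) (X Y : Subgroup G) (hX : IsPGroup p X) (hY : Y ≤ N) : X ⊓ Y = ⊥ := by
  have hp : p.Prime := Fact.out
  rw [eq_bot_iff]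
  intro a ⟨haX, haY⟩
  obtain ⟨k, hk⟩ := hX ⟨a, haX⟩
  have h1 : a ^ p ^ k = 1 := by
    have := congrArg Subtype.val hk
    simpa using this
  have h2 : orderOf a ∣ p ^ k := orderOf_dvd_of_pow_eq_one h1
  have h3 : orderOf a ∣ Nat.card N := by
    have := orderOf_dvd_natCard (⟨a, hY haY⟩ : N)
    rwa [Subgroup.orderOf_mk] at this
  have h4 : Nat.Coprime (p ^ k) (Nat.card N) :=
    Nat.Coprime.pow_left k ((Nat.Prime.coprime_iff_not_dvd hp).mpr hNp)
  rw [Subgroup.mem_bot]
  exact orderOf_eq_one_iff.mp (Nat.eq_one_of_dvd_coprimes h4 h2 h3)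

/-- If two subgroups `A`, `B` of `G` normalize each other... here: `A` normalizes `B`, `B` normalizes `A`
and `A ⊓ B = ⊥`, then `B` centralizes `A`. -/
lemma le_centralizer_of_normalize_of_disjoint (A B : Subgroup G)
    (hAB : A ≤ Subgroup.normalizer (B : Set G)) (hBA : B ≤ Subgroup.normalizer (A : Set G))
    (hd : A ⊓ B = ⊥) : B ≤ Subgroup.centralizer (A : Set G) := by
  intro b hb
  rw [Subgroup.mem_centralizer_iff]
  intro a ha
  -- the commutator a b a⁻¹ b⁻¹ lies in A ⊓ B
  have h1 : b * a⁻¹ * b⁻¹ ∈ A := by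
    have := (Subgroup.mem_normalizer_iff.mp (hBA hb) a⁻¹).mp (A.inv_mem ha)
    exact this
  have h2 : a * b * a⁻¹ ∈ B := (Subgroup.mem_normalizer_iff.mp (hAB ha) b).mp hb
  have h3 : a * b * a⁻¹ * b⁻¹ ∈ A ⊓ B := by
    refine ⟨?_, B.mul_mem h2 (B.inv_mem hb)⟩
    have := A.mul_mem ha h1
    have e : a * (b * a⁻¹ * b⁻¹) = a * b * a⁻¹ * b⁻¹ := by group
    rwa [e] at this
  rw [hd, Subgroup.mem_bot] at h3
  have : a * b = (a * b * a⁻¹ * b⁻¹) * (b * a) := by group
  rw [this, h3, one_mul]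

/-- Let `N` be a minimal normal `p'`-subgroup of `G` with `P ⊔ N = ⊤` for a non-normal Sylow `p`-subgroup `P`.
Suppose every `P`-invariant subgroup `Q ≤ N` with `P ⊔ Q ≠ ⊤` is centralized by `P`. Then `N` is an
`r`-group for some prime `r`. -/
lemma exists_prime_isPGroup_of_centralizing [Finite G] {p : ℕ} [Fact p.Prime] (N : Subgroup G)
    [hN : N.Normal] (hNp : ¬ p ∣ Nat.card N) (P : Sylow p G) (hPN : (P : Subgroup G) ⊔ N = ⊤)
    (hPnn : ¬ (P : Subgroup G).Normal)
    (hNmin : ∀ B : Subgroup G, B.Normal → B ≤ N → B = ⊥ ∨ B = N)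
    (hcentr : ∀ Q : Subgroup G, Q ≤ N → (P : Subgroup G) ≤ Subgroup.normalizer (Q : Set G) →
      (P : Subgroup G) ⊔ Q ≠ ⊤ → Q ≤ Subgroup.centralizer ((P : Subgroup G) : Set G)) :
    ∃ r : ℕ, r.Prime ∧ IsPGroup r N := by
  by_contra hcon
  push Not at hcon
  apply hPnn
  -- N centralizes P
  have hcent : N ≤ Subgroup.centralizer ((P : Subgroup G) : Set G) := by
    have hdvd : Nat.card N ∣
        Nat.card (N ⊓ Subgroup.centralizer ((P : Subgroup G) : Set G) : Subgroup G) := by
      rw [Nat.dvd_iff_prime_pow_dvd_dvd]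
      intro r k hr hk
      haveI : Fact r.Prime := ⟨hr⟩
      obtain ⟨Q, hQN, hQr, hQcard, hPQ⟩ := exists_sylow_normalized N hNp P r
      have hQle : Q ≤ N ⊓ Subgroup.centralizer ((P : Subgroup G) : Set G) := by
        refine le_inf hQN ?_
        have hKle : (P : Subgroup G) ⊔ Q ≤ Subgroup.normalizer (Q : Set G) :=
          sup_le hPQ Subgroup.le_normalizer
        by_cases hK : (P : Subgroup G) ⊔ Q = ⊤
        · exfalso
          have hQn : Q.Normal := by
            rw [← Subgroup.normalizer_eq_top_iff, eq_top_iff, ← hK]; exact hKle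
          rcases hNmin Q hQn hQN with h | h
          · apply hPnn
            have : (P : Subgroup G) = ⊤ := by rw [← hK, h, sup_bot_eq]
            rw [this]; infer_instance
          · exact hcon r hr (h ▸ hQr)
        · exact hcentr Q hQN hPQ hK
      exact (hQcard k hk).trans (Subgroup.card_dvd_of_le hQle)
    have hle : Nat.card N ≤
        Nat.card (N ⊓ Subgroup.centralizer ((P : Subgroup G) : Set G) : Subgroup G) :=
      Nat.le_of_dvd Nat.card_pos hdvd
    have heq := Subgroup.eq_of_le_of_card_ge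
      (inf_le_left : N ⊓ Subgroup.centralizer ((P : Subgroup G) : Set G) ≤ N) hle
    rw [← heq]; exact inf_le_right
  rw [← Subgroup.normalizer_eq_top_iff, eq_top_iff, ← hPN]
  refine sup_le Subgroup.le_normalizer (hcent.trans ?_)
  exact Subgroup.centralizer_le_normalizer _

end Cfsg.Agent.Lib.Helper64
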