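import Mathlib
import Cfsg.Agent.Lib.Helper64.PFElevenChainA
import Cfsg.Agent.Lib.Helper64.PFElevenChainBZ
import Cfsg.Agent.Lib.Helper64.PFElevenStructOf
import Cfsg.Agent.Lib.Helper97.PFElevenEConsMain
import Cfsg.Agent.Lib.Helper1.PFElevenDEq
import Cfsg.Agent.Lib.Helper59.PFElevenCtx34
import Cfsg.Agent.Lib.Helper14.PFElevenT4Coh
import Cfsg.Agent.Lib.Helper65.PFElevenT4StructA
import Cfsg.Agent.Lib.Helper3.PFElevenT4StructB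
import Cfsg.Agent.Lib.Helper62.PFElevenT4CountFinal

/-!
# PROJECT PF, Peterfalvi section 11 (end game): chain A for Type IV, `p < q` (helper64)

`chainA_final`: for `M` of Type IV with `p = |W₂| < q = |W₁|` (non-coherent `calS M`) every member
`ζ` of `calS M` of degree `q` has a bridge `χ` satisfying the hypothesis `hr` of helper24's `b0`;
the counts come from helper62's `typeIV_counts` (with helper33's [ND2] `axis_count_two`).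
-/

set_option autoImplicit false

namespace Cfsg.Agent.Lib.Helper64.PF11

open Cfsg Cfsg.Agent.Lib.Helper24.PFCyc Cfsg.Agent.Lib.Helper4.PF Cfsg.Agent.Lib.Helper58.PF9

universe u

section arith

/-- `2 r ≤ p - 1` for odd `r ∣ p - 1`, `p` odd -/
theorem two_r_le (r p : ℕ) (hr : Odd r) (hp : Odd p) (hp1 : 1 < p) (hrp : r ∣ p - 1) :
    2 * r ≤ p - 1 := by
  have h2 : 2 ∣ p - 1 := by
    obtain ⟨k, hk⟩ := hp
    exact ⟨k, by omega⟩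
  have hcop : Nat.Coprime 2 r := (Nat.coprime_two_left).mpr hr
  have := hcop.mul_dvd_of_dvd_of_dvd h2 hrp
  exact Nat.le_of_dvd (by omega) this

/-- `N₁ ≥ 2 r^(m-1)` -/
theorem count_one (r m p N₁ : ℕ) (hr : 0 < r) (hm : 2 ≤ m) (h2r : 2 * r ≤ p - 1)
    (h : (p - 1) * r ^ m ≤ r ^ 2 * N₁) : 2 * r ^ (m - 1) ≤ N₁ := by
  have h1 : r ^ m = r ^ 2 * r ^ (m - 2) := by rw [← pow_add]; congr 1; omega
  have h3 : r ^ (m - 1) = r * r ^ (m - 2) := by rw [← pow_succ']; congr 1; omega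
  have h4 : r ^ 2 * (2 * r ^ (m - 1)) ≤ r ^ 2 * N₁ := by
    calc r ^ 2 * (2 * r ^ (m - 1)) = (2 * r) * r ^ m := by rw [h1, h3]; ring
      _ ≤ (p - 1) * r ^ m := Nat.mul_le_mul_right _ h2r
      _ ≤ r ^ 2 * N₁ := h
  exact Nat.le_of_mul_le_mul_left h4 (by positivity)

/-- `N₂ ≥ 2 (q - 1) r` -/
theorem count_two (r m p q N₂ : ℕ) (hr : 0 < r) (hm : 3 ≤ m) (h2r : 2 * r ≤ p - 1)
    (h : (q - 1) * (p - 1) ^ 2 * r ^ m ≤ 2 * r ^ 4 * N₂) : 2 * (q - 1) * r ≤ N₂ := by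
  have h1 : r ^ 3 ≤ r ^ m := Nat.pow_le_pow_right hr hm
  have h2 : (2 * r) ^ 2 ≤ (p - 1) ^ 2 := Nat.pow_le_pow_left h2r 2
  have h4 : 2 * r ^ 4 * (2 * (q - 1) * r) ≤ 2 * r ^ 4 * N₂ := by
    calc 2 * r ^ 4 * (2 * (q - 1) * r) = (q - 1) * (2 * r) ^ 2 * r ^ 3 := by ring
      _ ≤ (q - 1) * (p - 1) ^ 2 * r ^ m :=
        Nat.mul_le_mul (Nat.mul_le_mul_left _ h2) h1
      _ ≤ 2 * r ^ 4 * N₂ := h
  exact Nat.le_of_mul_le_mul_left h4 (by positivity)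

/-- the weight inequality -/
theorem weight_ok (r q N₁ N₂ : ℕ) (hr : 3 ≤ r) (h1 : 3 ≤ N₁)
    (h2 : 2 * (q - 1) * r ≤ N₂) : r ^ 2 * (q - 1) + 2 < N₁ + N₂ * r ^ 2 := by
  have h3 : r ^ 2 * (q - 1) ≤ N₂ * r ^ 2 := by
    calc r ^ 2 * (q - 1) = (q - 1) * r ^ 2 := by ring
      _ ≤ (2 * (q - 1) * r) * r ^ 2 := by
        apply Nat.mul_le_mul_right
        nlinarith
      _ ≤ N₂ * r ^ 2 := Nat.mul_le_mul_right _ h2
  omega

/-- `m ≠ 2` -/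
theorem m_ne_two (r p q : ℕ) (hq : q.Prime) (hr1 : 1 ≤ r) (hrp : r ≤ p - 1) (hpq : p < q)
    (h1 : ¬ q ∣ r - 1) (h2 : q ∣ r ^ 2 - 1) : False := by
  have h3 : r ^ 2 - 1 = (r - 1) * (r + 1) := by
    have : r ^ 2 = (r - 1) * (r + 1) + 1 := by
      obtain ⟨k, rfl⟩ : ∃ k, r = k + 1 := ⟨r - 1, by omega⟩
      simp; ring
    omega
  rw [h3] at h2
  rcases (Nat.Prime.dvd_mul hq).mp h2 with h | h
  · exact h1 h
  · have := Nat.le_of_dvd (by omega) h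
    omega

end arith

variable {G : Type u} [Group G] [Fintype G] {M T W₁ W₂ U V : Subgroup G}

section setup

variable [Fintype M] {mu : WChar W₁ W₂ → (↥M → ℂ)} {dl : WChar W₁ W₂ → ℂ}
  {η : WChar W₁ W₂ → (G → ℂ)} {d : ℕ} {δ : ℂ} {n : ℤ}

/-- the coherent set of chain A -/
def ZA (M W₁ : Subgroup G) [Fintype M] (r m : ℕ) : Set (↥M → ℂ) :=
  {ξ : ↥M → ℂ | ξ ∈ calS M ∧
    (ξ 1 = ((Nat.card W₁ * r : ℕ) : ℂ) ∨ ξ 1 = ((Nat.card W₁ * r ^ 2 : ℕ) : ℂ) ∨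
      ξ 1 = ((Nat.card W₁ * r ^ m : ℕ) : ℂ))}

open Classical in
/-- the degree pattern of chain A: `ξ(1) = q r a_ξ` -/
noncomputable def aA (W₁ : Subgroup G) (r m : ℕ) (ξ : ↥M → ℂ) : ℕ :=
  if ξ 1 = ((Nat.card W₁ * r : ℕ) : ℂ) then 1
  else if ξ 1 = ((Nat.card W₁ * r ^ 2 : ℕ) : ℂ) then r else r ^ (m - 1)

theorem aA_one (r m : ℕ) (ξ : ↥M → ℂ) (h : ξ 1 = ((Nat.card W₁ * r : ℕ) : ℂ)) :
    aA W₁ r m ξ = 1 := by
  unfold aA
  rw [if_pos h]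

theorem natCast_mul_ne {q x y : ℕ} (hq : 0 < q) (hxy : x ≠ y) :
    ((q * x : ℕ) : ℂ) ≠ ((q * y : ℕ) : ℂ) := by
  intro h
  have h1 : q * x = q * y := by exact_mod_cast h
  exact hxy (Nat.eq_of_mul_eq_mul_left hq h1)

theorem aA_two (r m : ℕ) (hr : 2 ≤ r) (ξ : ↥M → ℂ)
    (h : ξ 1 = ((Nat.card W₁ * r ^ 2 : ℕ) : ℂ)) : aA W₁ r m ξ = r := by
  unfold aA
  have hne : ξ 1 ≠ ((Nat.card W₁ * r : ℕ) : ℂ) := by
    rw [h]
    apply natCast_mul_ne Nat.card_pos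
    intro hc
    have : r * r = r * 1 := by rw [mul_one, ← pow_two]; exact hc
    have := Nat.eq_of_mul_eq_mul_left (by omega : 0 < r) this
    omega
  rw [if_neg hne, if_pos h]

theorem aA_top (r m : ℕ) (hr : 2 ≤ r) (hm : 3 ≤ m) (ξ : ↥M → ℂ)
    (h : ξ 1 = ((Nat.card W₁ * r ^ m : ℕ) : ℂ)) : aA W₁ r m ξ = r ^ (m - 1) := by
  unfold aA
  have hlt1 : r ^ 1 < r ^ m := Nat.pow_lt_pow_right (by omega) (by omega)
  have hlt2 : r ^ 2 < r ^ m := Nat.pow_lt_pow_right (by omega) (by omega)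
  have hne1 : ξ 1 ≠ ((Nat.card W₁ * r : ℕ) : ℂ) := by
    rw [h]
    apply natCast_mul_ne Nat.card_pos
    rw [pow_one] at hlt1
    omega
  have hne2 : ξ 1 ≠ ((Nat.card W₁ * r ^ 2 : ℕ) : ℂ) := by
    rw [h]
    apply natCast_mul_ne Nat.card_pos
    omega
  rw [if_neg hne1, if_neg hne2]

theorem aA_deg (r m : ℕ) (hr : 2 ≤ r) (hm : 3 ≤ m) (ξ : ↥M → ℂ) (hξ : ξ ∈ ZA M W₁ r m) :
    ξ 1 = ((Nat.card W₁ * r * aA W₁ r m ξ : ℕ) : ℂ) := by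
  rcases hξ.2 with h | h | h
  · rw [aA_one r m ξ h, mul_one, h]
  · rw [aA_two r m hr ξ h, h]
    congr 1
    ring
  · rw [aA_top r m hr hm ξ h, h]
    congr 1
    have : r ^ m = r * r ^ (m - 1) := by rw [← pow_succ']; congr 1; omega
    rw [this]
    ring

end setup

section final

variable [Fintype M] {mu : WChar W₁ W₂ → (↥M → ℂ)} {dl : WChar W₁ W₂ → ℂ}
  {η : WChar W₁ W₂ → (G → ℂ)} {d : ℕ} {δ : ℂ} {n : ℤ}

/-- the irreducible members of `calS M` of degree `q x` -/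
abbrev irrDeg (M W₁ : Subgroup G) [Fintype M] (x : ℕ) : Set (↥M → ℂ) :=
  {ξ : ↥M → ℂ | ξ ∈ calS M ∧ IsIrrCharacter ↥M ξ ∧ ξ 1 = ((Nat.card W₁ * x : ℕ) : ℂ)}

theorem irrDeg_finite (x : ℕ) : (irrDeg M W₁ x).Finite :=
  Cfsg.Agent.Lib.Helper62.PF11.calS_finite.subset (fun _ hξ => hξ.1)

/-- the numerical outcome of the group-side modules for Type IV with `p < q` -/
theorem typeIV_numbers (F : Frame M W₁ U W₂ mu dl η d δ n) (S : Struct34 M W₁ U W₂)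
    (R : (↥M → ℂ) → Finset (G → ℂ)) (hS : IsCoherenceSystem (calS M) (tauM M) R)
    (hnc : ¬ IsCoherent (calS M) {1}ᶜ (tauM M)) (hnab : ¬ IsMulCommutative U)
    (hlt : Nat.card W₂ < Nat.card W₁) :
    ∃ r m : ℕ, 3 ≤ r ∧ 3 ≤ m ∧ d = r ^ m ∧ 2 * r ≤ Nat.card W₂ - 1 ∧
      2 * r ^ (m - 1) ≤ (irrDeg M W₁ r).ncard ∧
      2 * (Nat.card W₁ - 1) * r ≤ (irrDeg M W₁ (r ^ 2)).ncard := by
  obtain ⟨c, hC, -, hchief⟩ := Cfsg.Agent.Lib.Helper59.PF11.ctx34_of S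
  obtain ⟨hd1, -⟩ := Cfsg.Agent.Lib.Helper1.PF11D.d_eq F S c hC hchief
  obtain ⟨r, m, hr, hUr, hm, hqr, hqm, hel, hchiefU⟩ :=
    Cfsg.Agent.Lib.Helper65.PF11T4.typeIV_struct S hnab (hbig_of S.hP S.hU S.hq S.hp S.hodd)
      (tauM M) R hS hnc
  have hd : d = r ^ m := hd1.trans hm
  have hq2 := S.hq.two_le
  have hp2 := S.hp.two_le
  have hdq := F.hdq
  have hr2 := hr.two_le
  -- `m ≥ 2`
  have hm2 : 2 ≤ m := by
    by_contra hcon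
    have hm01 : m = 0 ∨ m = 1 := by omega
    rcases hm01 with h | h
    · rw [h, pow_zero] at hd
      omega
    · apply hqr
      rw [h, pow_one] at hqm
      exact hqm
  obtain ⟨hrp, H₁, hA, ha, hind⟩ :=
    Cfsg.Agent.Lib.Helper3.PF11SB.typeIV_axis S c hC hchief r m hr hUr hm hm2 hel hchiefU
  -- parity
  have hrG : r ∣ Nat.card G := by
    have h1 : r ∣ r ^ m := dvd_pow_self r (by omega)
    rw [← hm] at h1
    exact (h1.trans (Subgroup.relIndex_dvd_card _ _)).trans (Subgroup.card_subgroup_dvd_card U)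
  have hrodd : Odd r := Odd.of_dvd_nat S.hodd hrG
  have hpodd : Odd (Nat.card W₂) := Odd.of_dvd_nat S.hodd (Subgroup.card_subgroup_dvd_card W₂)
  have hr3 : 3 ≤ r := by
    rcases hrodd with ⟨k, hk⟩
    omega
  have h2r : 2 * r ≤ Nat.card W₂ - 1 := two_r_le r _ hrodd hpodd (by omega) hrp
  -- `m ≥ 3`
  have hm3 : 3 ≤ m := by
    by_contra hcon
    have hm2' : m = 2 := by omega
    rw [hm2'] at hqm
    exact m_ne_two r (Nat.card W₂) (Nat.card W₁) S.hq (by omega) (by omega) hlt hqr hqm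
  obtain ⟨hc1, hc2⟩ := Cfsg.Agent.Lib.Helper62.PF11.typeIV_counts S c H₁ hA r m hm ha hind
  exact ⟨r, m, hr3, hm3, hd, h2r, count_one r m _ _ (by omega) hm2 h2r hc1,
    count_two r m _ _ _ (by omega) hm3 h2r hc2⟩

open Classical in
/-- the index set of the weight inequality -/
theorem exists_I (r m : ℕ) (hr : 2 ≤ r) :
    ∃ I : Finset (↥M → ℂ),
      (∀ ξ ∈ I, ξ ∈ calS M ∧ IsIrrCharacter ↥M ξ ∧
        (ξ 1 = ((Nat.card W₁ * r : ℕ) : ℂ) ∨ ξ 1 = ((Nat.card W₁ * r ^ 2 : ℕ) : ℂ))) ∧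
      ∑ ξ ∈ I, (aA W₁ r m ξ) ^ 2 =
        (irrDeg M W₁ r).ncard + (irrDeg M W₁ (r ^ 2)).ncard * r ^ 2 := by
  have hf1 := irrDeg_finite (M := M) (W₁ := W₁) r
  have hf2 := irrDeg_finite (M := M) (W₁ := W₁) (r ^ 2)
  have hdisj : Disjoint hf1.toFinset hf2.toFinset := by
    rw [Finset.disjoint_left]
    intro ξ h1 h2
    rw [Set.Finite.mem_toFinset] at h1 h2
    have h3 := h1.2.2
    rw [h2.2.2] at h3
    refine natCast_mul_ne (Nat.card_pos (α := W₁)) ?_ h3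
    intro hc
    have h4 : r * r = r * 1 := by rw [mul_one, ← pow_two]; exact hc
    have h5 := Nat.eq_of_mul_eq_mul_left (by omega : 0 < r) h4
    omega
  refine ⟨hf1.toFinset ∪ hf2.toFinset, ?_, ?_⟩
  · intro ξ hξ
    rw [Finset.mem_union, Set.Finite.mem_toFinset, Set.Finite.mem_toFinset] at hξ
    rcases hξ with h | h
    · exact ⟨h.1, h.2.1, Or.inl h.2.2⟩
    · exact ⟨h.1, h.2.1, Or.inr h.2.2⟩
  · rw [Finset.sum_union hdisj]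
    have h1 : ∑ ξ ∈ hf1.toFinset, (aA W₁ r m ξ) ^ 2 = (irrDeg M W₁ r).ncard := by
      rw [Set.ncard_eq_toFinset_card _ hf1, Finset.card_eq_sum_ones]
      apply Finset.sum_congr rfl
      intro ξ hξ
      rw [Set.Finite.mem_toFinset] at hξ
      rw [aA_one r m ξ hξ.2.2, one_pow]
    have h2 : ∑ ξ ∈ hf2.toFinset, (aA W₁ r m ξ) ^ 2 =
        (irrDeg M W₁ (r ^ 2)).ncard * r ^ 2 := by
      rw [Set.ncard_eq_toFinset_card _ hf2, Finset.card_eq_sum_ones, Finset.sum_mul]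
      apply Finset.sum_congr rfl
      intro ξ hξ
      rw [Set.Finite.mem_toFinset] at hξ
      rw [aA_two r m hr ξ hξ.2.2, one_mul]
    rw [h1, h2]

/-- **Chain A for Type IV, `p < q`**: every degree-`q` member of `calS M` has a bridge with `hr`. -/
theorem chainA_final (F : Frame M W₁ U W₂ mu dl η d δ n) (S : Struct34 M W₁ U W₂)
    (R : (↥M → ℂ) → Finset (G → ℂ)) (hS : IsCoherenceSystem (calS M) (tauM M) R)
    (hnc : ¬ IsCoherent (calS M) {1}ᶜ (tauM M)) (hnab : ¬ IsMulCommutative U)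
    (hlt : Nat.card W₂ < Nat.card W₁)
    (ζ : ↥M → ℂ) (hζ : ζ ∈ calS M) (hζ1 : ζ 1 = (Nat.card W₁ : ℂ)) :
    ∃ χ : G → ℂ, IsGeneralizedCharacter G χ ∧ classInner χ χ = 1 ∧
      (∀ ω, classInner χ (η ω) = 0) ∧ tauM M (muSum mu 1 - ζ) = etaSum η 1 - χ ∧
      ∀ ψ : WChar W₁ W₂, TrivOn W₁ ψ → ψ ≠ 1 →
        classInner χ (tauM M ((d : ℂ) • ζ - muSum mu ψ)) = (d : ℂ) := by
  obtain ⟨r, m, hr3, hm3, hd, h2r, hN1, hN2⟩ := typeIV_numbers F S R hS hnc hnab hlt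
  have hq2 := S.hq.two_le
  have hp2 := S.hp.two_le
  have hr0 : 0 < r := by omega
  have hr2 : 2 ≤ r := by omega
  have hpow : 9 ≤ r ^ (m - 1) := by
    calc 9 = 3 ^ 2 := by norm_num
      _ ≤ r ^ 2 := Nat.pow_le_pow_left hr3 2
      _ ≤ r ^ (m - 1) := Nat.pow_le_pow_right hr0 (by omega)
  have hN2' : 1 ≤ (irrDeg M W₁ (r ^ 2)).ncard := by
    have h1 : 1 ≤ Nat.card W₁ - 1 := by omega
    have h2 : 1 ≤ 2 * (Nat.card W₁ - 1) * r := by nlinarith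
    omega
  have hcoh : IsCoherent (ZA M W₁ r m) ({1}ᶜ : Set ↥M) (tauM M) :=
    typeIV_coherent F R hS r m hr3 hm3 hd _ _ le_rfl le_rfl hN1 hN2'
  have hZsub : ZA M W₁ r m ⊆ calS M := fun ξ hξ => hξ.1
  have hμZ : ∀ ψ : WChar W₁ W₂, TrivOn W₁ ψ → ψ ≠ 1 → muSum mu ψ ∈ ZA M W₁ r m := by
    intro ψ hψ hψ1
    have h := muSum_mem_Zd F ψ hψ hψ1
    refine ⟨h.1, Or.inr (Or.inr ?_)⟩
    rw [h.2, hd]
  have hne : (irrDeg M W₁ r).Nonempty := by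
    apply Set.nonempty_of_ncard_ne_zero
    omega
  obtain ⟨ξ₀, hξ₀⟩ := hne
  have hξ₀Z : ξ₀ ∈ ZA M W₁ r m := ⟨hξ₀.1, Or.inl hξ₀.2.2⟩
  have ha₀ : aA W₁ r m ξ₀ = 1 := aA_one r m ξ₀ hξ₀.2.2
  have hp5 : 5 ≤ Nat.card W₂ := by omega
  obtain ⟨τ₁, E, A, B, k, C⟩ := chainData_of F hp5 (ZA M W₁ r m) hZsub hμZ hcoh r hr0
    (aA W₁ r m) (aA_deg r m hr2 hm3) ξ₀ hξ₀Z ha₀
    (fun τ₁ hτ₁ hext hτ₁μ => Cfsg.Agent.Lib.Helper97.PF11.exists_E F (ZA M W₁ r m) hZsub hμZ τ₁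
      hτ₁ hext hτ₁μ r hr0 (aA W₁ r m) (aA_deg r m hr2 hm3) ξ₀ hξ₀Z ha₀)
  obtain ⟨I, hI, hsum⟩ := exists_I (M := M) (W₁ := W₁) r m hr2
  have h2g : 2 * r < Nat.card W₁ + Nat.card W₂ - 1 := by omega
  have hda : ∀ ψ : WChar W₁ W₂, TrivOn W₁ ψ → ψ ≠ 1 → r * aA W₁ r m (muSum mu ψ) = d := by
    intro ψ hψ hψ1
    have h := (muSum_mem_Zd F ψ hψ hψ1).2
    rw [hd] at h
    rw [aA_top r m hr2 hm3 _ h, hd, ← pow_succ']
    congr 1
    omega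
  have hw : r ^ 2 * (Nat.card W₁ - 1) + 2 < ∑ ξ ∈ I, (aA W₁ r m ξ) ^ 2 := by
    rw [hsum]
    exact weight_ok r _ _ _ hr3 (by omega) hN2
  refine chainA F C h2g hda I (fun ξ hξ => ?_) hw ζ hζ hζ1 (fun ξ hξ h => ?_)
  · obtain ⟨h1, h2, h3⟩ := hI ξ hξ
    exact ⟨⟨h1, h3.elim Or.inl (fun h => Or.inr (Or.inl h))⟩, h2⟩
  · obtain ⟨-, -, h3⟩ := hI ξ hξ
    rw [← h, hζ1] at h3
    rcases h3 with h3 | h3
    · have h4 : Nat.card W₁ * 1 = Nat.card W₁ * r := by rw [mul_one]; exact_mod_cast h3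
      have h5 := Nat.eq_of_mul_eq_mul_left (by omega) h4
      omega
    · have h4 : Nat.card W₁ * 1 = Nat.card W₁ * r ^ 2 := by rw [mul_one]; exact_mod_cast h3
      have h5 := Nat.eq_of_mul_eq_mul_left (by omega) h4
      have h6 : 9 ≤ r ^ 2 := by nlinarith
      omega

end final

end Cfsg.Agent.Lib.Helper64.PF11
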