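import Mathlib
import Cfsg.Agent.Lib.Helper64.PFElevenChainBZ
import Cfsg.Agent.Lib.Helper64.PFElevenStructOf
import Cfsg.Agent.Lib.Helper24.PFTenB0
import Cfsg.Agent.Lib.Helper97.PFElevenEConsMain
import Cfsg.Agent.Lib.Helper1.PFElevenXCount
import Cfsg.Agent.Lib.Helper1.PFElevenDEq
import Cfsg.Agent.Lib.Helper59.PFElevenCtx34

/-!
# PROJECT PF, Peterfalvi section 11: the results in `PairHyp` form, part B (helper64)

* `struct34_of_pair` : (11.5)-(11.7) for `M` of Type III or IV in a pair `(M, T)`.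
* `false_of_lt`      : `M` of Type III or IV with `q = |W₁| < p = |W₂|` is impossible (helper4's (6'),
  chain B + helper24's `b0`).
* `typeIII_lt`       : Type III forces `p < q`.
-/

set_option autoImplicit false

namespace Cfsg.Agent.Lib.Helper64.PF11

open Cfsg Cfsg.Agent.Lib.Helper24.PFCyc Cfsg.Agent.Lib.Helper4.PF

universe u

variable {G : Type u} [Group G] [Fintype G] {M T W₁ W₂ U V : Subgroup G}

/-- the given type-P data of a subgroup of Type III or IV: `U ≠ 1`, `|W₁|` prime -/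
theorem data_of_type34 (hsolv : Group.IsSolvable ↥⁅M, M⁆) (hP : IsTypePWith M W₁ U W₂)
    (h34 : IsOfTypeIII M ∨ IsOfTypeIV M) : U ≠ ⊥ ∧ (Nat.card W₁).Prime := by
  have key : ∀ A U' B : Subgroup G, IsTypePWith M A U' B → U' ≠ ⊥ → (Nat.card A).Prime →
      U ≠ ⊥ ∧ (Nat.card W₁).Prime := by
    intro A U' B hP' hU' hpr
    obtain ⟨c, -, hc⟩ := Cfsg.Agent.Lib.Helper26.PFEight.exists_conj_of_typeP hsolv hP hP'
    refine ⟨?_, ?_⟩
    · intro hU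
      apply hU'
      rw [hc, hU, Subgroup.map_bot]
    · rw [card_W₁_eq hP hP']
      exact hpr
  rcases h34 with ⟨A, U', B, hP', hU', hpr, -⟩ | ⟨A, U', B, hP', hU', hpr, -⟩
  · exact key A U' B hP' hU' hpr
  · exact key A U' B hP' hU' hpr

/-- for `M` of Type IV the given complement `U` is not abelian -/
theorem nonab_of_typeIV (hsolv : Group.IsSolvable ↥⁅M, M⁆) (hP : IsTypePWith M W₁ U W₂)
    (hIV : IsOfTypeIV M) : ¬ IsMulCommutative U := by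
  obtain ⟨A, U', B, hP', -, -, -, hnab, -⟩ := hIV
  obtain ⟨c, -, hc⟩ := Cfsg.Agent.Lib.Helper26.PFEight.exists_conj_of_typeP hsolv hP hP'
  intro hab
  apply hnab
  refine ⟨⟨fun x y => ?_⟩⟩
  obtain ⟨x, hx⟩ := x
  obtain ⟨y, hy⟩ := y
  rw [hc] at hx hy
  obtain ⟨x', hx', rfl⟩ := hx
  obtain ⟨y', hy', rfl⟩ := hy
  apply Subtype.ext
  have h := congrArg Subtype.val (hab.1.1 (⟨x', hx'⟩ : U) ⟨y', hy'⟩)
  have h' : x' * y' = y' * x' := h
  show (MulAut.conj c).toMonoidHom x' * (MulAut.conj c).toMonoidHom y' =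
    (MulAut.conj c).toMonoidHom y' * (MulAut.conj c).toMonoidHom x'
  rw [← map_mul, ← map_mul, h']

/-- a member of `calS M` of degree `q` is irreducible -/
theorem irr_of_deg_q [Fintype M] {mu : WChar W₁ W₂ → (↥M → ℂ)} {dl : WChar W₁ W₂ → ℂ}
    {η : WChar W₁ W₂ → (G → ℂ)} {d : ℕ} {δ : ℂ} {n : ℤ}
    (F : Frame M W₁ U W₂ mu dl η d δ n) (ζ : ↥M → ℂ) (hζ : ζ ∈ calS M)
    (hζ1 : ζ 1 = (Nat.card W₁ : ℂ)) : IsIrrCharacter ↥M ζ := by
  rcases F.calS_cases ζ hζ with h | ⟨ψ, hψ, hψ1, h⟩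
  · exact h.1
  · exact absurd h (ne_muSum_of_deg F ζ hζ1 ψ hψ hψ1)

/-- the whole setting for `M` of Type III or IV in a pair `(M, T)` -/
theorem pair_setup [Fintype M] (hG : IsMinSimpleOddOrder G) (bg : BookBGData G)
    (pf8 : BookPF8Data G) (ph : PairHyp M T W₁ W₂ U V)
    (h34 : IsOfTypeIII M ∨ IsOfTypeIV M) :
    ∃ (mu : WChar W₁ W₂ → (↥M → ℂ)) (dl : WChar W₁ W₂ → ℂ) (η : WChar W₁ W₂ → (G → ℂ))
      (ζ : ↥M → ℂ) (d : ℕ) (δ : ℂ) (n : ℤ),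
      Frame M W₁ U W₂ mu dl η d δ n ∧ MCtx0 M W₁ U W₂ mu dl η ζ ∧ MFacts M W₁ W₂ mu dl η ∧
        Struct34 M W₁ U W₂ ∧
        ∃ R : (↥M → ℂ) → Finset (G → ℂ), IsCoherenceSystem (PF11.calS M) (PF11.tauM M) R ∧
          ¬ IsCoherent (PF11.calS M) {1}ᶜ (PF11.tauM M) := by
  have hM : IsOfTypeIII M ∨ IsOfTypeIV M ∨ IsOfTypeV M :=
    h34.elim Or.inl (fun h => Or.inr (Or.inl h))
  have hTII : IsOfTypeII T := typeII_of_pair hG ph hM
  have hP := ph.hSP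
  have hoddG : Odd (Nat.card G) := hG.1
  have hsol : Group.IsSolvable ↥M := hG.2.2.2 M ph.hS.1
  have hsolv : Group.IsSolvable ↥⁅M, M⁆ :=
    hG.2.2.2 _ (Cfsg.Agent.Lib.Helper60.PFTenT.der_ne_top_of_isCoatom ph.hS)
  obtain ⟨hU, hq⟩ := data_of_type34 hsolv hP h34
  have hp : (Nat.card W₂).Prime := prime_card_of_typeII ph.hTP hTII
  have hA := litA_eq_of_typeIIItoV hP hM
  have hD := (pf8.dade M ph.hS (litA0 M) (Or.inr (Or.inr rfl))).2
  obtain ⟨mu, dl, η, ζ, d, δ, n, F, h, hf⟩ := exists_frame hP hoddG hsol hq hp hA hD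
  obtain ⟨R, hS, -, -⟩ := Cfsg.Agent.Lib.Helper51.PF10.subcoherent_of_frame F
  have hnc := pf10_noncoherent hG bg pf8 ph hM
  exact ⟨mu, dl, η, ζ, d, δ, n, F, h, hf,
    struct34_of hP hU hq hp hoddG (PF11.tauM M) R hS hnc, R, hS, hnc⟩

/-- **Peterfalvi (11.5)-(11.7)** in `PairHyp` form. -/
theorem struct34_of_pair (hG : IsMinSimpleOddOrder G) (bg : BookBGData G) (pf8 : BookPF8Data G)
    (ph : PairHyp M T W₁ W₂ U V) (h34 : IsOfTypeIII M ∨ IsOfTypeIV M) :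
    Struct34 M W₁ U W₂ := by
  classical
  have : Fintype M := Fintype.ofFinite _
  obtain ⟨mu, dl, η, ζ, d, δ, n, -, -, -, S, -⟩ := pair_setup hG bg pf8 ph h34
  exact S

/-- **helper4's (6')**: `M` of Type III or IV with `|W₁| < |W₂|` is impossible. -/
theorem false_of_lt (hG : IsMinSimpleOddOrder G) (bg : BookBGData G) (pf8 : BookPF8Data G)
    (ph : PairHyp M T W₁ W₂ U V) (h34 : IsOfTypeIII M ∨ IsOfTypeIV M)
    (hlt : Nat.card W₁ < Nat.card W₂) : False := by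
  classical
  have : Fintype M := Fintype.ofFinite _
  have hM : IsOfTypeIII M ∨ IsOfTypeIV M ∨ IsOfTypeV M :=
    h34.elim Or.inl (fun h => Or.inr (Or.inl h))
  obtain ⟨mu, dl, η, ζ, d, δ, n, F, h, hf, S, -⟩ := pair_setup hG bg pf8 ph h34
  obtain ⟨c, hC, -, hchief⟩ := Cfsg.Agent.Lib.Helper59.PF11.ctx34_of S
  obtain ⟨hd1, hd2⟩ := Cfsg.Agent.Lib.Helper1.PF11D.d_eq F S c hC hchief
  obtain ⟨X, hX, hXc⟩ := Cfsg.Agent.Lib.Helper1.PF11X.exists_X F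
  have hcard : d ≤ Nat.card W₁ * X.card + 1 := by
    rw [hd1, ← hd2]
    exact hXc
  obtain ⟨ψ₀, hψ₀, hψ₀1⟩ := exists_psi F.hP.selfNormalizing F.hp
  have hdpos : 0 < d := by
    have h1 := F.hdq
    have h2 := F.hq.two_le
    omega
  obtain ⟨ζ', χ, hζ', hζ'1, hχ, hn, ho, hb, hr⟩ := chainB_final F hlt
    (fun τ₁ hτ₁ hext hτ₁μ => Cfsg.Agent.Lib.Helper97.PF11.exists_E F (Zd M W₁ d) (Zd_sub M W₁ d)
      (muSum_mem_Zd F) τ₁ hτ₁ hext hτ₁μ d hdpos (fun _ => 1)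
      (fun ξ hξ => by rw [hξ.2, mul_one]) (muSum mu ψ₀) (muSum_mem_Zd F ψ₀ hψ₀ hψ₀1) rfl)
    X hX hcard
  exact b0 hG bg pf8 ph hM F.md η F.hη d F.deg_psi ζ' hζ' (irr_of_deg_q F ζ' hζ' hζ'1) hζ'1
    χ hχ hn ho hb hr

/-- **Type III forces `|W₂| < |W₁|`.** -/
theorem typeIII_lt (hG : IsMinSimpleOddOrder G) (bg : BookBGData G) (pf8 : BookPF8Data G)
    (ph : PairHyp M T W₁ W₂ U V) (hIII : IsOfTypeIII M) : Nat.card W₂ < Nat.card W₁ := by
  classical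
  have : Fintype M := Fintype.ofFinite _
  have S := struct34_of_pair hG bg pf8 ph (Or.inl hIII)
  have hne := card_W_ne S.hP S.hU S.hq S.hp S.hodd
  by_contra hnot
  have hlt : Nat.card W₁ < Nat.card W₂ := by omega
  exact false_of_lt hG bg pf8 ph (Or.inl hIII) hlt

end Cfsg.Agent.Lib.Helper64.PF11
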