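import Mathlib
import Cfsg.Prelude.Def_Local
import Cfsg.Prelude.Def_Transfer
import Cfsg.Agent.Lib.Helper41.PGV.Defs
import Cfsg.Agent.Lib.Helper41.PGV.Defs2
import Cfsg.Agent.Lib.Helper95.PgvT5
import Cfsg.Agent.Lib.Helper21.Quasisimple

/-!
# Project PGV (S3086), sheet RED part 2 (helper41): leaf [B-FAITH] (helper64).
`b_faithful_of`: the sheet statement with the sheet statement of [RED-D] (`red_D`) as a hypothesis.
-/

set_option autoImplicit false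

universe v

namespace Cfsg.Agent.Lib.Helper64.PGV

open Cfsg Cfsg.Agent.Lib.Helper41.PGV

variable {p : ℕ} [Fact p.Prime] {G V : Type v} [Group G] [Finite G] [AddCommGroup V] [Finite V] [Module (ZMod p) V]
  {ρ : Representation (ZMod p) G V} {A K1 : Subgroup G} {a : G}

/-- **[B-FAITH]** in `_of` form: `hredD` is the exact sheet statement of `red_D` for this `CE`. -/
theorem b_faithful_of (h : CE ρ A K1 a)
    (hredD : ∀ D : Subgroup G, D ≤ A → D ≠ ⊥ → (∀ d ∈ D, ∀ x ∈ K1, d * x = x * d) → False)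
    (H : Subgroup G) (hK1H : K1 ≤ H) (V' V'' : Submodule (ZMod p) V)
    (h' : Inv ρ H V') (h'' : Inv ρ H V'')
    (hnt : ¬ ∀ x : H, x.1 ∈ K1 → secRep ρ H V' V'' h' h'' x = 1) (b : H) (hb : b.1 ∈ NA A K1)
    (htriv : ∀ x : H, x.1 ∈ K1 → secRep ρ H V' V'' h' h'' (b * x * b⁻¹) = secRep ρ H V' V'' h' h'' x) :
    b = 1 := by
  set σ := secRep ρ H V' V'' h' h'' with hσ
  have hbA : b.1 ∈ A := hb.1
  have hbN : b.1 ∈ Subgroup.normalizer (K1 : Set G) := hb.2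
  have hqN : ∀ x ∈ K1, b.1 * x * b.1⁻¹ ∈ K1 := fun x hx => (Subgroup.mem_normalizer_iff.1 hbN x).1 hx
  -- the kernel of `K1` on the section
  let N : Subgroup G := ((MonoidHom.ker σ).map H.subtype) ⊓ K1
  have hNmem : ∀ x : G, x ∈ N ↔ ∃ hx : x ∈ H, σ ⟨x, hx⟩ = 1 ∧ x ∈ K1 := by
    intro x
    constructor
    · rintro ⟨⟨y, hy, rfl⟩, hxK⟩
      exact ⟨y.2, by simpa using (MonoidHom.mem_ker).1 hy, hxK⟩
    · rintro ⟨hx, h1, hxK⟩
      exact ⟨⟨⟨x, hx⟩, (MonoidHom.mem_ker).2 h1, rfl⟩, hxK⟩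
  have hNK : N ≤ K1 := inf_le_right
  have hnorm : K1 ≤ Subgroup.normalizer (N : Set G) := by
    have key : ∀ y ∈ K1, ∀ n ∈ N, y * n * y⁻¹ ∈ N := by
      intro y hy n hn
      obtain ⟨hnH, hn1, hnK⟩ := (hNmem n).1 hn
      have hyH : y ∈ H := hK1H hy
      refine (hNmem _).2 ⟨H.mul_mem (H.mul_mem hyH hnH) (H.inv_mem hyH), ?_, K1.mul_mem (K1.mul_mem hy hnK) (K1.inv_mem hy)⟩
      have e : (⟨y * n * y⁻¹, H.mul_mem (H.mul_mem hyH hnH) (H.inv_mem hyH)⟩ : H)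
          = ⟨y, hyH⟩ * ⟨n, hnH⟩ * ⟨y, hyH⟩⁻¹ := rfl
      rw [e, map_mul, map_mul, hn1, mul_one, ← map_mul, mul_inv_cancel, map_one]
    intro y hy
    rw [Subgroup.mem_normalizer_iff]
    intro n
    refine ⟨key y hy n, fun hn => ?_⟩
    have := key y⁻¹ (K1.inv_mem hy) _ hn
    simpa [mul_assoc] using this
  have hNne : N ≠ K1 := by
    intro hEq
    apply hnt
    intro x hx
    have : x.1 ∈ N := by rw [hEq]; exact hx
    obtain ⟨hxH, h1, _⟩ := (hNmem x.1).1 this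
    exact h1
  have hcommN : ∀ y ∈ K1, ∀ n ∈ N, y * n = n * y := by
    rcases Cfsg.Agent.Lib.Helper21.qs_eq_or_commutator_eq_bot h.comp.2 hNK hnorm with h1 | h1
    · exact absurd h1 hNne
    · exact Cfsg.Agent.Lib.Helper21.commutator_eq_bot_iff_commute.1 h1
  -- commutators `[b, x]` lie in `N`
  have hcN : ∀ x ∈ K1, b.1 * x * b.1⁻¹ * x⁻¹ ∈ N := by
    intro x hx
    have hxH : x ∈ H := hK1H hx
    have hmemH : b.1 * x * b.1⁻¹ * x⁻¹ ∈ H := H.mul_mem (H.mul_mem (H.mul_mem b.2 hxH) (H.inv_mem b.2)) (H.inv_mem hxH)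
    refine (hNmem _).2 ⟨hmemH, ?_, K1.mul_mem (hqN x hx) (K1.inv_mem hx)⟩
    have e : (⟨b.1 * x * b.1⁻¹ * x⁻¹, hmemH⟩ : H) = (b * ⟨x, hxH⟩ * b⁻¹) * (⟨x, hxH⟩ : H)⁻¹ := rfl
    rw [e, map_mul, htriv ⟨x, hxH⟩ hx, ← map_mul, mul_inv_cancel, map_one]
  have hcent : ∀ x ∈ K1, b.1 * x = x * b.1 :=
    centralizes_of_comm_central h.comp b.1 hqN (fun x hx y hy => (hcommN y hy _ (hcN x hx)).symm)
  by_contra hb1
  have hb1' : b.1 ≠ 1 := fun e => hb1 (Subtype.ext e)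
  refine hredD (Subgroup.zpowers b.1) ?_ ?_ ?_
  · rw [Subgroup.zpowers_le]; exact hbA
  · intro e
    apply hb1'
    have : b.1 ∈ Subgroup.zpowers b.1 := Subgroup.mem_zpowers _
    rw [e] at this
    exact Subgroup.mem_bot.1 this
  · intro d hd x hx
    obtain ⟨k, rfl⟩ := Subgroup.mem_zpowers_iff.1 hd
    exact ((Commute.zpow_left (show Commute b.1 x from hcent x hx) k)).eq

end Cfsg.Agent.Lib.Helper64.PGV
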