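/-
helper64: project S1936, module SIGM (section B5-B7 of notes/helper22_S1936_sheet.md), `_of` form.
From a solvable signalizer functor `θ` on `A = Ω₁(T)` (T an abelian Sylow 2-subgroup, `|A| ≥ 8`)
with `p`-group values, equivariant under conjugation, and the factorisations
`C(a) = θ(a) (C(a) ∩ N(K))` for an abelian `K ⊇ T`, produce a strongly embedded subgroup `M0`
containing `N(T)` and every `C(a)`, `a ∈ A#`.
-/
import Cfsg.Agent.S1285
import Cfsg.Agent.S0223
import Cfsg.Agent.S0076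

set_option autoImplicit false
open Cfsg

namespace Cfsg.Agent.Lib.Helper64.S1936Sigm

variable {G : Type*} [Group G] [Finite G]

/-- Under equivariance, `N(A)` normalizes the closure `⨆_{a ∈ A#} θ a`. -/
theorem normalizer_le_normalizer_signalizerClosure (A : Subgroup G) (θ : G → Subgroup G)
    (hequiv : ∀ g a : G, θ (g * a * g⁻¹) = (θ a).map (MulAut.conj g).toMonoidHom) :
    Subgroup.normalizer (A : Set G) ≤ Subgroup.normalizer (signalizerClosure A θ : Set G) := by
  have key : ∀ g ∈ Subgroup.normalizer (A : Set G), ∀ h ∈ signalizerClosure A θ,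
      g * h * g⁻¹ ∈ signalizerClosure A θ := by
    intro g hg h hh
    have hle : (signalizerClosure A θ).map (MulAut.conj g).toMonoidHom ≤ signalizerClosure A θ := by
      unfold signalizerClosure
      rw [Subgroup.map_iSup]
      refine iSup_le fun a => ?_
      rw [← hequiv]
      have ha' : g * a.1 * g⁻¹ ∈ A ∧ g * a.1 * g⁻¹ ≠ 1 := by
        refine ⟨(Subgroup.mem_normalizer_iff.1 hg _).1 a.2.1, fun h1 => a.2.2 ?_⟩
        have : a.1 = g⁻¹ * (g * a.1 * g⁻¹) * g := by group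
        rw [this, h1]; group
      exact le_iSup (fun a : {a : G // a ∈ A ∧ a ≠ 1} => θ (a : G)) ⟨_, ha'⟩
    exact hle ⟨h, hh, rfl⟩
  intro g hg
  rw [Subgroup.mem_normalizer_iff]
  intro h
  refine ⟨key g hg h, fun hh => ?_⟩
  have := key g⁻¹ (inv_mem hg) _ hh
  simpa [mul_assoc] using this

/-- `N(T) ≤ N(Ω₁(T))`. -/
theorem normalizer_le_normalizer_omega (T A : Subgroup G)
    (hA : ∀ x, x ∈ A ↔ x ∈ T ∧ x ^ 2 = 1) :
    Subgroup.normalizer (T : Set G) ≤ Subgroup.normalizer (A : Set G) := by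
  have key : ∀ g ∈ Subgroup.normalizer (T : Set G), ∀ h ∈ A, g * h * g⁻¹ ∈ A := by
    intro g hg h hh
    rw [hA] at hh ⊢
    refine ⟨(Subgroup.mem_normalizer_iff.1 hg _).1 hh.1, ?_⟩
    rw [conj_pow, hh.2]; group
  intro g hg
  rw [Subgroup.mem_normalizer_iff]
  intro h
  refine ⟨key g hg h, fun hh => ?_⟩
  have := key g⁻¹ (inv_mem hg) _ hh
  simpa [mul_assoc] using this

/-- An involution of a subgroup `M ⊇ T` (`T` a Sylow 2-subgroup of `G`) is `M`-conjugate into `T`. -/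
theorem exists_conj_mem_sylow [Fact (Nat.Prime 2)] (T : Sylow 2 G) (M : Subgroup G)
    (hTM : (T : Subgroup G) ≤ M) (t : G) (htM : t ∈ M) (ht : orderOf t = 2) :
    ∃ m ∈ M, m * t * m⁻¹ ∈ T := by
  have hp : IsPGroup 2 (Subgroup.zpowers (⟨t, htM⟩ : M)) := by
    refine IsPGroup.of_card (n := 1) ?_
    rw [Nat.card_zpowers, pow_one, ← ht]
    exact (Subgroup.orderOf_mk t htM)
  obtain ⟨Q, hQ⟩ := hp.exists_le_sylow
  obtain ⟨m, hm⟩ := MulAction.exists_smul_eq M Q (T.subtype hTM)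
  refine ⟨m.1, m.2, ?_⟩
  have h1 : (⟨t, htM⟩ : M) ∈ Q := hQ (Subgroup.mem_zpowers _)
  have h2 : m * ⟨t, htM⟩ * m⁻¹ ∈ ((m • Q : Sylow 2 M) : Subgroup M) := by
    rw [Sylow.coe_subgroup_smul]
    exact Subgroup.smul_mem_pointwise_smul _ (MulAut.conj m) _ h1
  rw [hm, Sylow.coe_subtype, Subgroup.mem_subgroupOf] at h2
  have h3 : ((m * ⟨t, htM⟩ * m⁻¹ : M) : G) = m.1 * t * m.1⁻¹ := by simp
  rw [h3] at h2
  exact h2


/-- (A5 of the sheet) If `K ⊇ T` is abelian then `N(K) ≤ N(T)`. -/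
theorem normalizer_le_normalizer_sylow_of_comm (T : Sylow 2 G) (K : Subgroup G)
    (hTK : (T : Subgroup G) ≤ K) (hK : ∀ x ∈ K, ∀ y ∈ K, x * y = y * x) :
    Subgroup.normalizer (K : Set G) ≤ Subgroup.normalizer ((T : Subgroup G) : Set G) := by
  have key : ∀ n ∈ Subgroup.normalizer (K : Set G), ∀ x ∈ (T : Subgroup G),
      n * x * n⁻¹ ∈ (T : Subgroup G) := by
    intro n hn x hx
    have hyK : n * x * n⁻¹ ∈ K := (Subgroup.mem_normalizer_iff.1 hn _).1 (hTK hx)
    have hnorm : ((T.subtype hTK : Sylow 2 K) : Subgroup K).Normal := ⟨fun a ha k => by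
      have : k * a * k⁻¹ = a := by
        have h1 := hK k k.2 a a.2
        apply Subtype.ext
        simp only [Subgroup.coe_mul, Subgroup.coe_inv]
        rw [h1]; group
      rw [this]; exact ha⟩
    have huniq := Sylow.unique_of_normal _ hnorm
    obtain ⟨k, hk⟩ := T.isPGroup' ⟨x, hx⟩
    have hk' : x ^ 2 ^ k = 1 := by simpa using congrArg Subtype.val hk
    have hyk : (⟨n * x * n⁻¹, hyK⟩ : K) ^ 2 ^ k = 1 := by
      apply Subtype.ext
      simp only [Subgroup.coe_pow, Subgroup.coe_one]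
      rw [conj_pow, hk']; group
    have hp : IsPGroup 2 (Subgroup.zpowers (⟨n * x * n⁻¹, hyK⟩ : K)) := by
      obtain ⟨j, _, hj⟩ := (Nat.dvd_prime_pow Nat.prime_two).1 (orderOf_dvd_of_pow_eq_one hyk)
      refine IsPGroup.of_card (n := j) ?_
      rw [Nat.card_zpowers, hj]
    obtain ⟨Q, hQ⟩ := hp.exists_le_sylow
    have hQT : Q = T.subtype hTK := Subsingleton.elim _ _
    have h1 : (⟨n * x * n⁻¹, hyK⟩ : K) ∈ (T.subtype hTK : Sylow 2 K) := by
      rw [← hQT]; exact hQ (Subgroup.mem_zpowers _)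
    have h2 : (⟨n * x * n⁻¹, hyK⟩ : K) ∈ ((T.subtype hTK : Sylow 2 K) : Subgroup K) := h1
    rw [Sylow.coe_subtype, Subgroup.mem_subgroupOf] at h2
    exact h2
  intro g hg
  rw [Subgroup.mem_normalizer_iff]
  intro h
  refine ⟨key g hg h, fun hh => ?_⟩
  have := key g⁻¹ (inv_mem hg) _ hh
  simpa [mul_assoc] using this

/-- **Module SIGM** (B5–B7).  Hypotheses: `G` simple nonsolvable, `T` an abelian Sylow 2-subgroup,
`A = Ω₁(T)` of order `≥ 8`, `θ` a solvable `A`-signalizer functor with `p`-group values which is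
conjugation-equivariant, and for every `a ∈ A#` an abelian `K ⊇ T` with
`C(a) ≤ θ(a) (C(a) ∩ N(K))` (from LOC A3 + a Hall `p'`-subgroup containing `T`).
Conclusion: a strongly embedded `M0 ⊇ N(T)` containing all `C(a)` and `(★)`. -/
theorem exists_stronglyEmbedded_of (p : ℕ) [Fact p.Prime]
    [hsimple : IsSimpleGroup G] (hns : ¬ IsSolvable G)
    (T : Sylow 2 G) (hTab : ∀ x ∈ (T : Subgroup G), ∀ y ∈ (T : Subgroup G), x * y = y * x)
    (A : Subgroup G) (hA : ∀ x, x ∈ A ↔ x ∈ (T : Subgroup G) ∧ x ^ 2 = 1)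
    (hA3 : 2 ^ 3 ≤ Nat.card A)
    (θ : G → Subgroup G)
    (hθ : IsSolvableSignalizerFunctor 2 A θ)
    (hθp : ∀ a ∈ A, a ≠ 1 → IsPGroup p (θ a))
    (hequiv : ∀ g a : G, θ (g * a * g⁻¹) = (θ a).map (MulAut.conj g).toMonoidHom)
    (hloc : ∀ a ∈ A, a ≠ 1 → ∃ K : Subgroup G, (T : Subgroup G) ≤ K ∧
      (∀ x ∈ K, ∀ y ∈ K, x * y = y * x) ∧
      Subgroup.centralizer {a} ≤
        θ a ⊔ (Subgroup.centralizer {a} ⊓ Subgroup.normalizer (K : Set G))) :
    ∃ M0 : Subgroup G, IsStronglyEmbedded M0 ∧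
      Subgroup.normalizer ((T : Subgroup G) : Set G) ≤ M0 ∧
      (∀ a ∈ A, a ≠ 1 → Subgroup.centralizer {a} ≤ M0) ∧
      (∀ a ∈ A, a ≠ 1 → Subgroup.centralizer {a} ≤
        θ a ⊔ (Subgroup.centralizer {a} ⊓ Subgroup.normalizer ((T : Subgroup G) : Set G))) := by
  classical
  -- (★)
  have hstar : ∀ a ∈ A, a ≠ 1 → Subgroup.centralizer {a} ≤
      θ a ⊔ (Subgroup.centralizer {a} ⊓ Subgroup.normalizer ((T : Subgroup G) : Set G)) := by
    intro a ha ha1
    obtain ⟨K, hTK, hKab, hfac⟩ := hloc a ha ha1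
    exact hfac.trans (sup_le_sup_left (inf_le_inf_left _
      (normalizer_le_normalizer_sylow_of_comm T K hTK hKab)) _)
  -- `A` is elementary abelian
  have hAT : A ≤ (T : Subgroup G) := fun x hx => ((hA x).1 hx).1
  have hEA : IsElementaryAbelian 2 A :=
    ⟨⟨⟨fun a b => Subtype.ext (hTab a.1 (hAT a.2) b.1 (hAT b.2))⟩⟩, fun a ha => ((hA a).1 ha).2⟩
  -- an involution of `A`
  obtain ⟨a0, ha0A, ha01⟩ : ∃ a0 ∈ A, a0 ≠ 1 := by
    have h1 : 1 < Nat.card A := lt_of_lt_of_le (by norm_num) hA3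
    have : Nontrivial A := Finite.one_lt_card_iff_nontrivial.1 h1
    obtain ⟨x, hx⟩ := exists_ne (1 : A)
    exact ⟨x.1, x.2, fun h => hx (Subtype.ext h)⟩
  have ha0ord : orderOf a0 = 2 :=
    orderOf_eq_prime ((hA a0).1 ha0A).2 ha01
  -- completeness
  obtain ⟨_, X, _, hXodd, hXθ⟩ := Cfsg.Agent.S1285.result 2 A hEA hA3 θ hθ p hθp
  have hWX : signalizerClosure A θ ≤ X := iSup_le fun a => by
    rw [← hXθ a.1 a.2.1 a.2.2]; exact inf_le_left
  have hWodd : ¬ 2 ∣ Nat.card (signalizerClosure A θ) :=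
    fun h => hXodd (h.trans (Subgroup.card_dvd_of_le hWX))
  have hWtop : signalizerClosure A θ ≠ ⊤ := by
    intro h
    apply hWodd
    rw [← ha0ord]
    exact Subgroup.orderOf_dvd_natCard _ (by rw [h]; trivial)
  have hNA_W := normalizer_le_normalizer_signalizerClosure A θ hequiv
  have hNT_A := normalizer_le_normalizer_omega (T : Subgroup G) A hA
  -- the candidate `M0`
  obtain ⟨M0, hM0top, hNA_M0, hθM0⟩ : ∃ M0 : Subgroup G, M0 ≠ ⊤ ∧
      Subgroup.normalizer (A : Set G) ≤ M0 ∧ ∀ a ∈ A, a ≠ 1 → θ a ≤ M0 := by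
    by_cases hW0 : signalizerClosure A θ = ⊥
    · refine ⟨Subgroup.normalizer (A : Set G), ?_, le_rfl, ?_⟩
      · intro h
        have hAn : A.Normal := Subgroup.normalizer_eq_top_iff.1 h
        rcases hAn.eq_bot_or_eq_top with h0 | h1
        · exact ha01 ((Subgroup.mem_bot).1 (h0 ▸ ha0A))
        · apply hns
          refine isSolvable_of_comm fun x y => ?_
          have hx : x ∈ A := by rw [h1]; trivial
          have hy : y ∈ A := by rw [h1]; trivial
          exact hTab x (hAT hx) y (hAT hy)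
      · intro a ha ha1
        have : θ a ≤ signalizerClosure A θ :=
          le_iSup (fun a : {a : G // a ∈ A ∧ a ≠ 1} => θ (a : G)) ⟨a, ha, ha1⟩
        rw [hW0] at this
        exact this.trans bot_le
    · refine ⟨Subgroup.normalizer (signalizerClosure A θ : Set G), ?_, hNA_W, ?_⟩
      · intro h
        have hWn : (signalizerClosure A θ).Normal := Subgroup.normalizer_eq_top_iff.1 h
        rcases hWn.eq_bot_or_eq_top with h0 | h1
        · exact hW0 h0
        · exact hWtop h1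
      · intro a ha ha1
        exact (le_iSup (fun a : {a : G // a ∈ A ∧ a ≠ 1} => θ (a : G)) ⟨a, ha, ha1⟩).trans
          Subgroup.le_normalizer
  have hNT_M0 : Subgroup.normalizer ((T : Subgroup G) : Set G) ≤ M0 := hNT_A.trans hNA_M0
  have hTM0 : (T : Subgroup G) ≤ M0 := Subgroup.le_normalizer.trans hNT_M0
  -- B6
  have hC : ∀ a ∈ A, a ≠ 1 → Subgroup.centralizer {a} ≤ M0 := by
    intro a ha ha1
    exact (hstar a ha ha1).trans (sup_le (hθM0 a ha ha1) (inf_le_right.trans hNT_M0))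
  refine ⟨M0, ?_, hNT_M0, hC, hstar⟩
  -- B7
  have heven : Even (Nat.card M0) := by
    rw [even_iff_two_dvd, ← ha0ord]
    exact Subgroup.orderOf_dvd_natCard _ (hTM0 (hAT ha0A))
  -- every involution of `M0` is `M0`-conjugate into `A#`
  have hinv : ∀ t ∈ M0, orderOf t = 2 → ∃ m ∈ M0, m * t * m⁻¹ ∈ A ∧ m * t * m⁻¹ ≠ 1 := by
    intro t htM ht
    obtain ⟨m, hm, hmt⟩ := exists_conj_mem_sylow T M0 hTM0 t htM ht
    refine ⟨m, hm, (hA _).2 ⟨hmt, ?_⟩, ?_⟩
    · rw [conj_pow, ← ht, pow_orderOf_eq_one]; group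
    · intro h1
      have : t = 1 := by
        have : t = m⁻¹ * (m * t * m⁻¹) * m := by group
        rw [this, h1]; group
      rw [this, orderOf_one] at ht
      exact absurd ht (by norm_num)
  refine (Cfsg.Agent.S0223.result M0 hM0top heven).2 ⟨?_, ?_⟩
  · intro t htM ht x hx
    obtain ⟨m, hm, hmA, hm1⟩ := hinv t htM ht
    have hx' : t * x = x * t := by
      have := (Subgroup.mem_centralizer_iff.1 hx) t (Set.mem_singleton t)
      exact this
    have h1 : m * x * m⁻¹ ∈ Subgroup.centralizer {m * t * m⁻¹} := by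
      rw [Subgroup.mem_centralizer_iff]
      intro y hy
      rw [Set.mem_singleton_iff] at hy
      subst hy
      calc m * t * m⁻¹ * (m * x * m⁻¹) = m * (t * x) * m⁻¹ := by group
        _ = m * (x * t) * m⁻¹ := by rw [hx']
        _ = m * x * m⁻¹ * (m * t * m⁻¹) := by group
    have h2 := hC _ hmA hm1 h1
    have h3 : x = m⁻¹ * (m * x * m⁻¹) * m := by group
    rw [h3]
    exact mul_mem (mul_mem (inv_mem hm) h2) hm
  · intro t htM s hsM ht hs hts
    obtain ⟨m1, hm1, hm1A, _⟩ := hinv t htM ht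
    obtain ⟨m2, hm2, hm2A, _⟩ := hinv s hsM hs
    obtain ⟨c, hc⟩ := isConj_iff.1 hts
    have hab : ∀ x ∈ (T : Subgroup G), ∀ y ∈ (T : Subgroup G), x * y * x⁻¹ = y := by
      intro x hx y hy
      rw [hTab x hx y hy]; group
    obtain ⟨n, hn, hnab⟩ := Cfsg.Agent.S0076.result T {m1 * t * m1⁻¹} {m2 * s * m2⁻¹}
      (by
        intro y hy
        rw [Set.mem_singleton_iff] at hy
        subst hy
        exact hAT hm1A)
      (by
        intro y hy
        rw [Set.mem_singleton_iff] at hy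
        subst hy
        exact hAT hm2A)
      (by
        intro x hx
        rw [Set.image_singleton, hab x hx _ (hAT hm1A)])
      (by
        intro x hx
        rw [Set.image_singleton, hab x hx _ (hAT hm2A)])
      (m2 * c * m1⁻¹)
      (by
        rw [Set.image_singleton, ← hc]
        congr 1
        group)
    rw [Set.image_singleton, Set.singleton_eq_singleton_iff] at hnab
    refine ⟨m2⁻¹ * n * m1, mul_mem (mul_mem (inv_mem hm2) (hNT_M0 hn)) hm1, ?_⟩
    calc m2⁻¹ * n * m1 * t * (m2⁻¹ * n * m1)⁻¹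
        = m2⁻¹ * (n * (m1 * t * m1⁻¹) * n⁻¹) * m2 := by group
      _ = m2⁻¹ * (m2 * s * m2⁻¹) * m2 := by rw [hnab]
      _ = s := by group

end Cfsg.Agent.Lib.Helper64.S1936Sigm
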