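import Mathlib

/-!
# Transfer evaluated at an element all of whose "foreign" conjugate powers are killed

`transfer_eq_of_forall_not_mem`: if `u ∈ L` and `ϕ (x⁻¹ u^k x) = 1` whenever `x ∉ L` and
`x⁻¹ u^k x ∈ L`, then `transfer ϕ u = ϕ u`.

`exists_hom_of_index_two_chain`: a chain `N < H < L` of index-2 steps together with `s ∈ L \ H`
normalising `N` with `s * s ∈ N` gives a homomorphism `L →* ℤˣ` killing `s` whose restriction to `H`
has kernel `N`.
-/

namespace Cfsg.Agent.Lib.Helper64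

open MulAction Subgroup

theorem transfer_eq_of_forall_not_mem {G : Type*} [Group G] {A : Type*} [CommGroup A]
    (L : Subgroup G) [L.FiniteIndex] (ϕ : L →* A) (u : G) (hu : u ∈ L)
    (key : ∀ x : G, x ∉ L → ∀ k : ℕ, ∀ hk : x⁻¹ * u ^ k * x ∈ L,
      ϕ ⟨x⁻¹ * u ^ k * x, hk⟩ = 1) :
    MonoidHom.transfer ϕ u = ϕ ⟨u, hu⟩ := by
  classical
  have := L.fintypeQuotientOfFiniteIndex
  rw [MonoidHom.transfer_eq_prod_quotient_orbitRel_zpowers_quot]
  set q₀ : Quotient (orbitRel (zpowers u) (G ⧸ L)) := ⟦((1 : G) : G ⧸ L)⟧ with hq₀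
  have hpow : ∀ j : ℤ, u ^ j ∈ L := fun j => L.zpow_mem hu j
  -- general evaluation of a term at a representative in `L`
  have hterm : ∀ (x : G) (hx : x ∈ L) (k : ℕ) (hk : x⁻¹ * u ^ k * x ∈ L), k = 1 →
      ϕ ⟨x⁻¹ * u ^ k * x, hk⟩ = ϕ ⟨u, hu⟩ := by
    intro x hx k hk h1
    subst h1
    have : (⟨x⁻¹ * u ^ 1 * x, hk⟩ : L) = (⟨x, hx⟩ : L)⁻¹ * ⟨u, hu⟩ * ⟨x, hx⟩ := by
      apply Subtype.ext
      simp
    rw [this, map_mul, map_mul, map_inv, mul_comm, ← mul_assoc, mul_inv_cancel, one_mul]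
  rw [Finset.prod_eq_single q₀]
  · -- the distinguished orbit
    have hout : (q₀.out : G ⧸ L) = ((1 : G) : G ⧸ L) := by
      have h1 : q₀.out ∈ orbit (zpowers u) (((1 : G) : G ⧸ L)) := by
        have := Quotient.mk_out (s := orbitRel (zpowers u) (G ⧸ L)) (((1 : G) : G ⧸ L))
        exact this
      obtain ⟨⟨z, hz⟩, hz'⟩ := h1
      rw [← hz']
      obtain ⟨j, rfl⟩ := Subgroup.mem_zpowers_iff.mp hz
      change ((u ^ j) • ((1 : G) : G ⧸ L)) = _
      rw [MulAction.Quotient.smul_coe, smul_eq_mul, mul_one]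
      rw [QuotientGroup.eq]
      simpa using hpow j
    have hx : q₀.out.out ∈ L := by
      have h2 : ((q₀.out.out : G) : G ⧸ L) = ((1 : G) : G ⧸ L) := by
        rw [QuotientGroup.out_eq', hout]
      rw [QuotientGroup.eq] at h2
      simpa using L.inv_mem h2
    apply hterm _ hx
    rw [hout]
    rw [Function.minimalPeriod_eq_one_iff_isFixedPt]
    change u • ((1 : G) : G ⧸ L) = _
    rw [MulAction.Quotient.smul_coe, smul_eq_mul, mul_one, QuotientGroup.eq]
    simpa using hu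
  · intro q _ hq
    apply key
    intro hx
    apply hq
    have h2 : (q.out : G ⧸ L) = ((1 : G) : G ⧸ L) := by
      rw [← QuotientGroup.out_eq' q.out, QuotientGroup.eq]
      simpa using hx
    rw [hq₀, ← h2]
    exact (Quotient.out_eq q).symm
  · intro h
    exact absurd (Finset.mem_univ _) h

/-- A chain `N < H < L` of index-two steps, with `s ∈ L \ H` normalising `N` and `s * s ∈ N`,
gives a homomorphism to `ℤˣ` killing `s` and with kernel `N` on `H`. -/
theorem exists_hom_of_index_two_chain {L : Type*} [Group L] (H N : Subgroup L) (hNH : N ≤ H)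
    (hH : H.index = 2) (hN : N.relIndex H = 2) (s : L) (hs : s ∉ H) (hss : s * s ∈ N)
    (hsN : ∀ n ∈ N, s * n * s⁻¹ ∈ N) :
    ∃ θ : L →* ℤˣ, θ s = 1 ∧ ∀ h ∈ H, (θ h = 1 ↔ h ∈ N) := by
  classical
  -- basic facts
  have hHn : H.Normal := normal_of_index_eq_two hH
  have hsinv : s⁻¹ ∉ H := fun h => hs (by simpa using H.inv_mem h)
  have memH : ∀ g : L, g ∉ H → g * s⁻¹ ∈ H := by
    intro g hg
    rw [mul_mem_iff_of_index_two hH]
    exact ⟨fun h => absurd h hg, fun h => absurd h hsinv⟩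
  have hNmul : ∀ h₁ ∈ H, ∀ h₂ ∈ H, (h₁ * h₂ ∈ N ↔ (h₁ ∈ N ↔ h₂ ∈ N)) := by
    intro h₁ hh₁ h₂ hh₂
    have := mul_mem_iff_of_index_two (H := N.subgroupOf H) hN (a := ⟨h₁, hh₁⟩) (b := ⟨h₂, hh₂⟩)
    simpa [mem_subgroupOf] using this
  have hsN' : ∀ n ∈ N, s⁻¹ * n * s ∈ N := by
    intro n hn
    have h1 := hsN n hn
    have h2 : s⁻¹ * n * s = (s * s)⁻¹ * (s * n * s⁻¹) * (s * s) := by group
    rw [h2]
    exact N.mul_mem (N.mul_mem (N.inv_mem hss) h1) hss
  have hconj : ∀ h : L, (s * h * s⁻¹ ∈ N ↔ h ∈ N) := by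
    intro h
    constructor
    · intro h1
      have := hsN' _ h1
      simpa [mul_assoc] using this
    · exact hsN h
  have hconjH : ∀ h ∈ H, s * h * s⁻¹ ∈ H := fun h hh => hHn.conj_mem h hh s
  -- the subgroup `M = N ∪ N s`
  let M : Subgroup L :=
    { carrier := {g | g ∈ N ∨ g * s⁻¹ ∈ N}
      one_mem' := Or.inl N.one_mem
      mul_mem' := by
        rintro g₁ g₂ (h1 | h1) (h2 | h2)
        · exact Or.inl (N.mul_mem h1 h2)
        · right
          have : g₁ * g₂ * s⁻¹ = g₁ * (g₂ * s⁻¹) := by group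
          rw [this]
          exact N.mul_mem h1 h2
        · right
          have : g₁ * g₂ * s⁻¹ = (g₁ * s⁻¹) * (s * g₂ * s⁻¹) := by group
          rw [this]
          exact N.mul_mem h1 (hsN _ h2)
        · left
          have : g₁ * g₂ = (g₁ * s⁻¹) * (s * (g₂ * s⁻¹) * s⁻¹) * (s * s) := by group
          rw [this]
          exact N.mul_mem (N.mul_mem h1 (hsN _ h2)) hss
      inv_mem' := by
        rintro g (h1 | h1)
        · exact Or.inl (N.inv_mem h1)
        · right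
          have : g⁻¹ * s⁻¹ = (s * s)⁻¹ * (s * (g * s⁻¹)⁻¹ * s⁻¹) := by group
          rw [this]
          exact N.mul_mem (N.inv_mem hss) (hsN _ (N.inv_mem h1)) }
  have hM : ∀ g : L, g ∈ M ↔ (g ∈ N ∨ g * s⁻¹ ∈ N) := fun g => Iff.rfl
  have hMH : ∀ h ∈ H, (h ∈ M ↔ h ∈ N) := by
    intro h hh
    rw [hM]
    constructor
    · rintro (h1 | h1)
      · exact h1
      · exfalso
        apply hsinv
        have : s⁻¹ = h⁻¹ * (h * s⁻¹) := by group
        rw [this]
        exact H.mul_mem (H.inv_mem hh) (hNH h1)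
    · exact Or.inl
  -- `M` has index two
  obtain ⟨h₀, hh₀H, hh₀N, hh₀⟩ := relIndex_eq_two_iff_exists_notMem_and.mp hN
  have hMidx : M.index = 2 := by
    rw [index_eq_two_iff_exists_notMem_and]
    refine ⟨h₀, fun h => hh₀N ((hMH h₀ hh₀H).mp h), fun g => ?_⟩
    by_cases hg : g ∈ H
    · rcases hh₀ g hg with h1 | h1
      · exact Or.inl ((hMH _ (H.mul_mem hg hh₀H)).mpr h1)
      · exact Or.inr ((hMH _ hg).mpr h1)
    · have hg' := memH g hg
      by_cases hgN : g * s⁻¹ ∈ N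
      · exact Or.inr (Or.inr hgN)
      · left
        right
        have e : g * h₀ * s⁻¹ = (g * s⁻¹) * (s * h₀ * s⁻¹) := by group
        rw [e, hNmul _ hg' _ (hconjH h₀ hh₀H)]
        constructor
        · intro h; exact absurd h hgN
        · intro h; exact absurd ((hconj h₀).mp h) hh₀N
  -- the homomorphism
  let θ : L →* ℤˣ :=
    { toFun := fun g => if g ∈ M then 1 else -1
      map_one' := by simp [M.one_mem]
      map_mul' := by
        intro g₁ g₂
        have := mul_mem_iff_of_index_two hMidx (a := g₁) (b := g₂)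
        by_cases h1 : g₁ ∈ M <;> by_cases h2 : g₂ ∈ M <;> simp_all }
  have hθ : ∀ g : L, θ g = if g ∈ M then 1 else -1 := fun g => rfl
  refine ⟨θ, ?_, ?_⟩
  · rw [hθ, if_pos]
    exact Or.inr (by simp [N.one_mem])
  · intro h hh
    rw [hθ, ← hMH h hh]
    by_cases h1 : h ∈ M
    · simp [h1]
    · simp only [h1, if_false, iff_false]
      decide

end Cfsg.Agent.Lib.Helper64
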