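import Mathlib
import Cfsg.Agent.Lib.Helper64.TransferFixed

/-!
# Sharply 3-transitive groups with an invariant index-two subgroup of `G_{ab}` are not simple

Setting: a group `G` acting on `Ω` such that no non-identity element fixes three points and the
two-point stabiliser `G_{ab}` is transitive on the remaining points.  `L` is the setwise stabiliser
of `{a, b}`.

* `sharp3_transfer`: for `ϕ : L →* A` killing an element `s` that swaps `a, b` and fixes a third
  point, the transfer of `ϕ` evaluated at `u ∈ G_{ab}` is `ϕ u`.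
* `sharp3_exists_hom`: from an `s`-invariant subgroup `N` of index two in `G_{ab}` one gets a
  homomorphism `f : G →* ℤˣ` with `f u = -1` for `u ∈ G_{ab} \ N`.
* `sharp3_not_simple`: hence `G` is not simple.
-/

namespace Cfsg.Agent.Lib.Helper64

open MulAction Subgroup

theorem sharp3_transfer {G Ω : Type*} [Group G] [MulAction G Ω] {A : Type*} [CommGroup A]
    (hfix3 : ∀ g : G, ∀ x y z : Ω, x ≠ y → y ≠ z → x ≠ z → g • x = x → g • y = y → g • z = z →
      g = 1)
    {a b c : Ω} (hab : a ≠ b) (hca : c ≠ a) (hcb : c ≠ b)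
    (htr : ∀ x y : Ω, x ≠ a → x ≠ b → y ≠ a → y ≠ b →
      ∃ h : G, h • a = a ∧ h • b = b ∧ h • x = y)
    (L : Subgroup G) [L.FiniteIndex]
    (hL : ∀ g : G, g ∈ L ↔ (g • a = a ∧ g • b = b) ∨ (g • a = b ∧ g • b = a))
    (ϕ : L →* A) (s : G) (hsa : s • a = b) (hsb : s • b = a) (hsc : s • c = c)
    (hϕs : ∀ hs : s ∈ L, ϕ ⟨s, hs⟩ = 1)
    (u : G) (hua : u • a = a) (hub : u • b = b) (hu : u ∈ L) :
    MonoidHom.transfer ϕ u = ϕ ⟨u, hu⟩ := by
  apply transfer_eq_of_forall_not_mem
  intro x hx k hk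
  set v : G := u ^ k with hv
  have hva : v • a = a := by
    rw [hv]
    exact MulAction.mem_stabilizer_iff.mp ((stabilizer G a).pow_mem hua k)
  have hvb : v • b = b := by
    rw [hv]
    exact MulAction.mem_stabilizer_iff.mp ((stabilizer G b).pow_mem hub k)
  have hinj : x • a ≠ x • b := fun h => hab (MulAction.injective x h)
  rcases (hL _).mp hk with ⟨h1, h2⟩ | ⟨h1, h2⟩
  · -- `y` fixes `a` and `b`
    have h1' : v • (x • a) = x • a := by
      have := congrArg (fun t => x • t) h1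
      simpa [mul_smul] using this
    have h2' : v • (x • b) = x • b := by
      have := congrArg (fun t => x • t) h2
      simpa [mul_smul] using this
    by_cases hv1 : v = 1
    · have : (⟨x⁻¹ * v * x, hk⟩ : L) = 1 := by
        apply Subtype.ext
        simp [hv1]
      rw [this, map_one]
    · exfalso
      have hxa : x • a = a ∨ x • a = b := by
        by_contra hcon
        push Not at hcon
        exact hv1 (hfix3 v a b (x • a) hab (Ne.symm hcon.2) (Ne.symm hcon.1) hva hvb h1')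
      have hxb : x • b = a ∨ x • b = b := by
        by_contra hcon
        push Not at hcon
        exact hv1 (hfix3 v a b (x • b) hab (Ne.symm hcon.2) (Ne.symm hcon.1) hva hvb h2')
      apply hx
      rw [hL]
      rcases hxa with h3 | h3 <;> rcases hxb with h4 | h4
      · exact absurd (h3.trans h4.symm) hinj
      · exact Or.inl ⟨h3, h4⟩
      · exact Or.inr ⟨h3, h4⟩
      · exact absurd (h3.trans h4.symm) hinj
  · -- `y` swaps `a` and `b`
    have h1' : v • (x • a) = x • b := by
      have := congrArg (fun t => x • t) h1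
      simpa [mul_smul] using this
    have h2' : v • (x • b) = x • a := by
      have := congrArg (fun t => x • t) h2
      simpa [mul_smul] using this
    have hxa1 : x • a ≠ a := by
      intro h
      rw [h, hva] at h1'
      exact hinj (h.trans h1')
    have hxa2 : x • a ≠ b := by
      intro h
      rw [h, hvb] at h1'
      exact hinj (h.trans h1')
    have hvv : v * v = 1 := by
      apply hfix3 (v * v) a b (x • a) hab (Ne.symm hxa2) (Ne.symm hxa1)
      · rw [mul_smul, hva, hva]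
      · rw [mul_smul, hvb, hvb]
      · rw [mul_smul, h1', h2']
    set y : G := x⁻¹ * v * x with hy
    set c₁ : Ω := x⁻¹ • a with hc₁
    have hyc : y • c₁ = c₁ := by
      rw [hy, hc₁]
      simp [mul_smul, hva]
    have hc₁a : c₁ ≠ a := by
      intro h
      rw [h] at hyc
      rw [hyc] at h1
      exact hab h1
    have hc₁b : c₁ ≠ b := by
      intro h
      rw [h] at hyc
      rw [hyc] at h2
      exact hab h2.symm
    obtain ⟨h, hha, hhb, hhc⟩ := htr c c₁ hca hcb hc₁a hc₁b
    have hhL : h ∈ L := (hL h).mpr (Or.inl ⟨hha, hhb⟩)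
    have hsL : s ∈ L := (hL s).mpr (Or.inr ⟨hsa, hsb⟩)
    have hha' : h⁻¹ • a = a := by rw [inv_smul_eq_iff, hha]
    have hhb' : h⁻¹ • b = b := by rw [inv_smul_eq_iff, hhb]
    have hhc' : h⁻¹ • c₁ = c := by rw [inv_smul_eq_iff, hhc]
    have hyinv_a : y⁻¹ • b = a := by rw [inv_smul_eq_iff, h1]
    have hyinv_b : y⁻¹ • a = b := by rw [inv_smul_eq_iff, h2]
    have hyinv_c : y⁻¹ • c₁ = c₁ := by rw [inv_smul_eq_iff, hyc]
    have hyeq : y⁻¹ * (h * s * h⁻¹) = 1 := by
      apply hfix3 _ a b c₁ hab (Ne.symm hc₁b) (Ne.symm hc₁a)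
      · simp only [mul_smul]
        rw [hha', hsa, hhb, hyinv_a]
      · simp only [mul_smul]
        rw [hhb', hsb, hha, hyinv_b]
      · simp only [mul_smul]
        rw [hhc', hsc, hhc, hyinv_c]
    have hyeq' : y = h * s * h⁻¹ := by
      have := congrArg (fun t => y * t) hyeq
      simpa [mul_assoc] using this.symm
    have : (⟨x⁻¹ * v * x, hk⟩ : L) = (⟨h, hhL⟩ : L) * ⟨s, hsL⟩ * (⟨h, hhL⟩ : L)⁻¹ := by
      apply Subtype.ext
      exact hyeq'
    rw [this, map_mul, map_mul, map_inv, hϕs hsL, mul_one, mul_inv_cancel]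

/-- The setwise stabiliser of the pair `{a, b}`. -/
def pairStab (G : Type*) {Ω : Type*} [Group G] [MulAction G Ω] (a b : Ω) : Subgroup G where
  carrier := {g | (g • a = a ∧ g • b = b) ∨ (g • a = b ∧ g • b = a)}
  one_mem' := Or.inl ⟨one_smul _ _, one_smul _ _⟩
  mul_mem' := by
    rintro g h (⟨h1, h2⟩ | ⟨h1, h2⟩) (⟨h3, h4⟩ | ⟨h3, h4⟩)
    · exact Or.inl ⟨by rw [mul_smul, h3, h1], by rw [mul_smul, h4, h2]⟩
    · exact Or.inr ⟨by rw [mul_smul, h3, h2], by rw [mul_smul, h4, h1]⟩
    · exact Or.inr ⟨by rw [mul_smul, h3, h1], by rw [mul_smul, h4, h2]⟩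
    · exact Or.inl ⟨by rw [mul_smul, h3, h2], by rw [mul_smul, h4, h1]⟩
  inv_mem' := by
    rintro g (⟨h1, h2⟩ | ⟨h1, h2⟩)
    · exact Or.inl ⟨by rw [inv_smul_eq_iff, h1], by rw [inv_smul_eq_iff, h2]⟩
    · exact Or.inr ⟨by rw [inv_smul_eq_iff, h2], by rw [inv_smul_eq_iff, h1]⟩

theorem mem_pairStab {G Ω : Type*} [Group G] [MulAction G Ω] {a b : Ω} (g : G) :
    g ∈ pairStab G a b ↔ (g • a = a ∧ g • b = b) ∨ (g • a = b ∧ g • b = a) := Iff.rfl

/-- From an `s`-invariant subgroup `N` of index two in `G_{ab}` one gets a homomorphism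
`G →* ℤˣ` taking the value `-1` on `G_{ab} \ N`. -/
theorem sharp3_exists_hom {G Ω : Type*} [Group G] [Finite G] [MulAction G Ω]
    (hfix3 : ∀ g : G, ∀ x y z : Ω, x ≠ y → y ≠ z → x ≠ z → g • x = x → g • y = y → g • z = z →
      g = 1)
    {a b c : Ω} (hab : a ≠ b) (hca : c ≠ a) (hcb : c ≠ b)
    (htr : ∀ x y : Ω, x ≠ a → x ≠ b → y ≠ a → y ≠ b →
      ∃ h : G, h • a = a ∧ h • b = b ∧ h • x = y)
    (s : G) (hsa : s • a = b) (hsb : s • b = a) (hsc : s • c = c)
    (N : Subgroup G) (hN : N ≤ stabilizer G a ⊓ stabilizer G b)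
    (hidx : N.relIndex (stabilizer G a ⊓ stabilizer G b) = 2)
    (hsN : ∀ n ∈ N, s * n * s⁻¹ ∈ N) :
    ∃ f : G →* ℤˣ, ∀ u ∈ stabilizer G a ⊓ stabilizer G b, u ∉ N → f u = -1 := by
  classical
  set H : Subgroup G := stabilizer G a ⊓ stabilizer G b with hH
  set L : Subgroup G := pairStab G a b with hLdef
  have hmemH : ∀ g : G, g ∈ H ↔ g • a = a ∧ g • b = b := by
    intro g
    rw [hH, Subgroup.mem_inf, MulAction.mem_stabilizer_iff, MulAction.mem_stabilizer_iff]
  have hHL : H ≤ L := fun g hg => Or.inl ((hmemH g).mp hg)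
  have hsL : s ∈ L := Or.inr ⟨hsa, hsb⟩
  have hsH : s ∉ H := fun h => hab (((hmemH s).mp h).1.symm.trans hsa)
  have hss : s * s = 1 := by
    apply hfix3 (s * s) a b c hab (Ne.symm hcb) (Ne.symm hca)
    · rw [mul_smul, hsa, hsb]
    · rw [mul_smul, hsb, hsa]
    · rw [mul_smul, hsc, hsc]
  -- the chain inside `L`
  have hHidx : (H.subgroupOf L).index = 2 := by
    rw [index_eq_two_iff_exists_notMem_and]
    refine ⟨⟨s, hsL⟩, fun h => hsH (by simpa [mem_subgroupOf] using h), ?_⟩
    rintro ⟨g, hg⟩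
    simp only [mem_subgroupOf, Subgroup.coe_mul]
    rcases hg with ⟨h1, h2⟩ | ⟨h1, h2⟩
    · exact Or.inr ((hmemH g).mpr ⟨h1, h2⟩)
    · left
      rw [hmemH]
      exact ⟨by rw [mul_smul, hsa, h2], by rw [mul_smul, hsb, h1]⟩
  have hNidx : (N.subgroupOf L).relIndex (H.subgroupOf L) = 2 := by
    rw [relIndex_subgroupOf hHL]
    exact hidx
  obtain ⟨θ, hθs, hθH⟩ := exists_hom_of_index_two_chain (H.subgroupOf L) (N.subgroupOf L)
    (fun g hg => by
      rw [mem_subgroupOf] at hg ⊢
      exact hN hg) hHidx hNidx ⟨s, hsL⟩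
    (fun h => hsH (by simpa [mem_subgroupOf] using h))
    (by
      rw [mem_subgroupOf]
      simp only [Subgroup.coe_mul]
      rw [hss]
      exact N.one_mem)
    (by
      rintro ⟨n, hnL⟩ hn
      rw [mem_subgroupOf] at hn ⊢
      simpa using hsN n hn)
  refine ⟨MonoidHom.transfer θ, ?_⟩
  intro u hu huN
  have huL : u ∈ L := hHL hu
  have hua := ((hmemH u).mp hu).1
  have hub := ((hmemH u).mp hu).2
  rw [sharp3_transfer hfix3 hab hca hcb htr L (fun g => Iff.rfl) θ s hsa hsb hsc
    (fun _ => hθs) u hua hub huL]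
  have h1 : ¬ θ ⟨u, huL⟩ = 1 := by
    intro h
    have := (hθH ⟨u, huL⟩ (by rw [mem_subgroupOf]; exact hu)).mp h
    rw [mem_subgroupOf] at this
    exact huN this
  rcases Int.units_eq_one_or (θ ⟨u, huL⟩) with h | h
  · exact absurd h h1
  · exact h

/-- Hence such a group is not simple. -/
theorem sharp3_not_simple {G Ω : Type*} [Group G] [Finite G] [MulAction G Ω]
    (hfix3 : ∀ g : G, ∀ x y z : Ω, x ≠ y → y ≠ z → x ≠ z → g • x = x → g • y = y → g • z = z →
      g = 1)
    {a b c : Ω} (hab : a ≠ b) (hca : c ≠ a) (hcb : c ≠ b)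
    (htr : ∀ x y : Ω, x ≠ a → x ≠ b → y ≠ a → y ≠ b →
      ∃ h : G, h • a = a ∧ h • b = b ∧ h • x = y)
    (s : G) (hsa : s • a = b) (hsb : s • b = a) (hsc : s • c = c)
    (N : Subgroup G) (hN : N ≤ stabilizer G a ⊓ stabilizer G b)
    (hidx : N.relIndex (stabilizer G a ⊓ stabilizer G b) = 2)
    (hsN : ∀ n ∈ N, s * n * s⁻¹ ∈ N) :
    ¬ IsSimpleGroup G := by
  intro hsimple
  obtain ⟨f, hf⟩ := sharp3_exists_hom hfix3 hab hca hcb htr s hsa hsb hsc N hN hidx hsN
  obtain ⟨u, huH, huN, -⟩ := relIndex_eq_two_iff_exists_notMem_and.mp hidx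
  have hfu : f u = -1 := hf u huH huN
  have hua : u • a = a := by
    have := (Subgroup.mem_inf.mp huH).1
    exact MulAction.mem_stabilizer_iff.mp this
  rcases hsimple.eq_bot_or_eq_top_of_normal f.ker inferInstance with hk | hk
  · -- `f` injective: impossible, since `1, u, s` are three distinct elements
    have hinj : Function.Injective f := (MonoidHom.ker_eq_bot_iff f).mp hk
    rcases Int.units_eq_one_or (f s) with h | h
    · have : s = 1 := hinj (h.trans (map_one f).symm)
      rw [this, one_smul] at hsa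
      exact hab hsa
    · have : s = u := hinj (h.trans hfu.symm)
      rw [this, hua] at hsa
      exact hab hsa
  · have : u ∈ f.ker := by rw [hk]; exact Subgroup.mem_top u
    rw [MonoidHom.mem_ker, hfu] at this
    exact absurd this (by decide)

end Cfsg.Agent.Lib.Helper64
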