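import Mathlib
import Cfsg.Prelude
import Cfsg.Agent.Lib.Helper34.NormalPComplement
import Cfsg.Agent.Lib.Helper64.MinNormal
import Cfsg.Agent.Lib.Helper64.MinNormal2
import Cfsg.Agent.Lib.Helper64.IrredGroup

set_option autoImplicit false

namespace Cfsg.Agent.Lib.Helper64

open scoped Pointwise

variable {L : Type*} [Group L]

/-- If a subgroup of order prime to `p` contains all `p'`-elements, the group has a normal `p`-complement. -/
lemma hasNormalPComplement_of_subgroup [Finite L] {p : ℕ} [hp : Fact p.Prime] (K : Subgroup L)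
    (hK : ¬ p ∣ Nat.card K) (hall : ∀ g : L, (orderOf g).Coprime p → g ∈ K) :
    Cfsg.HasNormalPComplement p L := by
  rw [Cfsg.Agent.Lib.Helper34.hasNormalPComplement_iff_pResidual_coprime]
  have hle : Cfsg.pResidual p L ≤ K := by
    unfold Cfsg.pResidual
    rw [Subgroup.closure_le]
    intro g hg
    exact hall g hg
  exact Nat.Coprime.coprime_dvd_left (Subgroup.card_dvd_of_le hle)
    ((Nat.Prime.coprime_iff_not_dvd hp.out).mpr hK).symm

/-- A `p'`-element lies in every normal subgroup of `p`-power index. -/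
lemma mem_of_coprime_of_index_pow [Finite L] {p : ℕ} [hp : Fact p.Prime] (X : Subgroup L) [X.Normal]
    {c : ℕ} (hX : X.index = p ^ c) (g : L) (hg : (orderOf g).Coprime p) : g ∈ X := by
  rw [← QuotientGroup.eq_one_iff]
  have h1 : (g : L ⧸ X) ^ (p ^ c) = 1 := by
    rw [← hX, Subgroup.index_eq_card]; exact pow_card_eq_one'
  have h2 : (g : L ⧸ X) ^ orderOf g = 1 := by
    rw [← QuotientGroup.mk_pow, pow_orderOf_eq_one]; rfl
  have h3 : orderOf (g : L ⧸ X) ∣ Nat.gcd (p ^ c) (orderOf g) :=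
    Nat.dvd_gcd (orderOf_dvd_of_pow_eq_one h1) (orderOf_dvd_of_pow_eq_one h2)
  have h4 : Nat.gcd (p ^ c) (orderOf g) = 1 := Nat.Coprime.pow_left c hg.symm
  rw [h4, Nat.dvd_one] at h3
  exact orderOf_eq_one_iff.mp h3

/-- Step 1 (Burnside transfer modulo `Q`): a normal subgroup `M` with `M ⊓ P = Q`, `M ⊔ P = ⊤`. -/
lemma exists_normal_inf_sylow_eq [Finite L] {p : ℕ} [hp : Fact p.Prime] (P : Sylow p L)
    (Q : Subgroup L) [hQn : Q.Normal] (hQP : Q ≤ P)
    (hcomm : ∀ x ∈ (P : Subgroup L), ∀ y ∈ (P : Subgroup L), x * y * x⁻¹ * y⁻¹ ∈ Q)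
    (hnorm : ∀ n ∈ Subgroup.normalizer ((P : Subgroup L) : Set L),
      ∃ k ∈ Subgroup.centralizer ((P : Subgroup L) : Set L), ∃ x ∈ (P : Subgroup L), n = k * x) :
    ∃ M : Subgroup L, M.Normal ∧ M ⊓ P = Q ∧ M ⊔ P = ⊤ := by
  have hπ : Function.Surjective (QuotientGroup.mk' Q) := QuotientGroup.mk'_surjective Q
  set Pbar : Sylow p (L ⧸ Q) := P.mapSurjective hπ with hPbar
  have hPbar_coe : (Pbar : Subgroup (L ⧸ Q)) = (P : Subgroup L).map (QuotientGroup.mk' Q) :=
    Sylow.coe_mapSurjective _ _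
  -- preimages of elements of the normalizer normalize P
  have hpre : ∀ n : L, QuotientGroup.mk' Q n ∈ Subgroup.normalizer ((Pbar : Subgroup (L ⧸ Q)) : Set (L ⧸ Q)) →
      ∀ x ∈ (P : Subgroup L), n * x * n⁻¹ ∈ (P : Subgroup L) := by
    intro n hn x hx
    have h1 : QuotientGroup.mk' Q x ∈ (Pbar : Subgroup (L ⧸ Q)) := by
      rw [hPbar_coe]; exact ⟨x, hx, rfl⟩
    have h2 := (Subgroup.mem_normalizer_iff.mp hn _).mp h1
    rw [hPbar_coe] at h2
    obtain ⟨y, hy, hyx⟩ := h2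
    have h3 : y⁻¹ * (n * x * n⁻¹) ∈ Q := by
      rw [← QuotientGroup.eq_one_iff, ← QuotientGroup.mk'_apply]
      simp only [map_mul, map_inv]
      rw [hyx]; group
    have h4 : n * x * n⁻¹ = y * (y⁻¹ * (n * x * n⁻¹)) := by group
    rw [h4]
    exact (P : Subgroup L).mul_mem hy (hQP h3)
  have hle : Subgroup.normalizer ((Pbar : Subgroup (L ⧸ Q)) : Set (L ⧸ Q)) ≤
      Subgroup.centralizer ((Pbar : Subgroup (L ⧸ Q)) : Set (L ⧸ Q)) := by
    intro nbar hn
    obtain ⟨n, rfl⟩ := hπ nbar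
    have hnP : n ∈ Subgroup.normalizer ((P : Subgroup L) : Set L) := by
      rw [Subgroup.mem_normalizer_iff]
      intro x
      constructor
      · exact hpre n hn x
      · intro hx
        have hn' : QuotientGroup.mk' Q n⁻¹ ∈
            Subgroup.normalizer ((Pbar : Subgroup (L ⧸ Q)) : Set (L ⧸ Q)) := by
          rw [map_inv]; exact Subgroup.inv_mem _ hn
        have := hpre n⁻¹ hn' _ hx
        have e : n⁻¹ * (n * x * n⁻¹) * n⁻¹⁻¹ = x := by group
        rwa [e] at this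
    obtain ⟨k, hk, x, hx, rfl⟩ := hnorm n hnP
    rw [Subgroup.mem_centralizer_iff]
    intro ybar hy
    have hy' : ybar ∈ (Pbar : Subgroup (L ⧸ Q)) := hy
    rw [hPbar_coe] at hy'
    obtain ⟨y, hyP, rfl⟩ := hy'
    have h1 : y * k = k * y := Subgroup.mem_centralizer_iff.mp hk y hyP
    have h2 : QuotientGroup.mk' Q (x * y * x⁻¹ * y⁻¹) = 1 :=
      (QuotientGroup.eq_one_iff _).mpr (hcomm x hx y hyP)
    have h3 : QuotientGroup.mk' Q x * QuotientGroup.mk' Q y =
        QuotientGroup.mk' Q y * QuotientGroup.mk' Q x := by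
      simp only [map_mul, map_inv] at h2
      calc QuotientGroup.mk' Q x * QuotientGroup.mk' Q y
          = (QuotientGroup.mk' Q x * QuotientGroup.mk' Q y * (QuotientGroup.mk' Q x)⁻¹ *
            (QuotientGroup.mk' Q y)⁻¹) * (QuotientGroup.mk' Q y * QuotientGroup.mk' Q x) := by group
        _ = QuotientGroup.mk' Q y * QuotientGroup.mk' Q x := by rw [h2, one_mul]
    calc QuotientGroup.mk' Q y * QuotientGroup.mk' Q (k * x)
        = QuotientGroup.mk' Q (y * k) * QuotientGroup.mk' Q x := by simp only [map_mul, mul_assoc]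
      _ = QuotientGroup.mk' Q k * (QuotientGroup.mk' Q y * QuotientGroup.mk' Q x) := by
          rw [h1]; simp only [map_mul, mul_assoc]
      _ = QuotientGroup.mk' Q (k * x) * QuotientGroup.mk' Q y := by
          rw [← h3]; simp only [map_mul, mul_assoc]
  have hc := MonoidHom.ker_transferSylow_isComplement' Pbar hle
  set Kbar := (MonoidHom.transferSylow Pbar hle).ker with hKbar
  refine ⟨Kbar.comap (QuotientGroup.mk' Q), inferInstance, ?_, ?_⟩
  · apply le_antisymm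
    · rintro x ⟨hxM, hxP⟩
      have h1 : QuotientGroup.mk' Q x ∈ Kbar ⊓ (Pbar : Subgroup (L ⧸ Q)) := by
        refine ⟨hxM, ?_⟩
        rw [hPbar_coe]; exact ⟨x, hxP, rfl⟩
      rw [hc.disjoint.eq_bot, Subgroup.mem_bot] at h1
      exact (QuotientGroup.eq_one_iff _).mp h1
    · intro x hx
      refine ⟨?_, hQP hx⟩
      show QuotientGroup.mk' Q x ∈ Kbar
      have h1 : QuotientGroup.mk' Q x = 1 := (QuotientGroup.eq_one_iff x).mpr hx
      rw [h1]
      exact Kbar.one_mem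
  · rw [eq_top_iff]
    intro g _
    obtain ⟨⟨⟨kb, hkb⟩, ⟨xb, hxb⟩⟩, hkx⟩ := hc.2 (QuotientGroup.mk' Q g)
    simp only at hkx
    rw [hPbar_coe] at hxb
    obtain ⟨x, hxP, rfl⟩ := hxb
    have h1 : g * x⁻¹ ∈ Kbar.comap (QuotientGroup.mk' Q) := by
      show QuotientGroup.mk' Q (g * x⁻¹) ∈ Kbar
      rw [map_mul, map_inv, ← hkx, mul_inv_cancel_right]
      exact hkb
    have h2 : g = (g * x⁻¹) * x := by group
    rw [h2]
    exact Subgroup.mul_mem _ (Subgroup.mem_sup_left h1) (Subgroup.mem_sup_right hxP)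

/-- conjugation membership -/
lemma mem_conj_smul_iff' {g x : L} {A : Subgroup L} :
    x ∈ MulAut.conj g • A ↔ g⁻¹ * x * g ∈ A := by
  rw [Subgroup.mem_pointwise_smul_iff_inv_smul_mem]
  simp [MulAut.smul_def]

/-- If `M ⊔ P = ⊤` with `M` normal and `P` a `p`-group then `L ⧸ M` is a `p`-group. -/
lemma isPGroup_quotient_of_sup_eq_top {p : ℕ} (P M : Subgroup L) [hMn : M.Normal]
    (hP : IsPGroup p P) (hMP : M ⊔ P = ⊤) : IsPGroup p (L ⧸ M) := by
  intro gbar
  obtain ⟨g, rfl⟩ := QuotientGroup.mk_surjective gbar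
  have hg : g ∈ M ⊔ P := by rw [hMP]; trivial
  obtain ⟨m, hm, x, hx, rfl⟩ := Subgroup.mem_sup_of_normal_left.mp hg
  obtain ⟨k, hk⟩ := hP ⟨x, hx⟩
  refine ⟨k, ?_⟩
  have h1 : x ^ p ^ k = 1 := by
    have := congrArg Subtype.val hk
    simpa using this
  have h2 : ((m * x : L) : L ⧸ M) = (x : L ⧸ M) := by
    rw [QuotientGroup.mk_mul, (QuotientGroup.eq_one_iff m).mpr hm, one_mul]
  rw [h2, ← QuotientGroup.mk_pow, h1]; rfl

/-- Step 2: for each prime `r ≠ p` some Sylow `r`-subgroup of `M` centralizes `Q`. -/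
lemma exists_sylow_centralizing [Finite L] {p : ℕ} [hp : Fact p.Prime] (P : Sylow p L)
    (Q M : Subgroup L) [hQn : Q.Normal] [hMn : M.Normal] (hQP : Q ≤ P) (hMP : M ⊓ P = Q)
    (hMPtop : M ⊔ P = ⊤)
    (hfrat : ∀ P₁ : Subgroup L, P₁ ≤ P → (P : Subgroup L) ≤ P₁ ⊔ Q → (P : Subgroup L) ≤ P₁)
    (r : ℕ) [hr : Fact r.Prime] (hrp : r ≠ p) :
    ∃ R' : Subgroup L, R' ≤ M ∧ IsPGroup r R' ∧
      (∀ k : ℕ, r ^ k ∣ Nat.card M → r ^ k ∣ Nat.card R') ∧
      R' ≤ Subgroup.centralizer (Q : Set L) := by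
  obtain ⟨R⟩ : Nonempty (Sylow r M) := inferInstance
  set R₀ := (R : Subgroup M).map M.subtype with hR₀
  set T := Subgroup.normalizer (R₀ : Set L) with hT
  have hfratt : T ⊔ M = ⊤ := Sylow.normalizer_sup_eq_top R
  obtain ⟨S₁⟩ : Nonempty (Sylow p T) := inferInstance
  set P₁ := (S₁ : Subgroup T).map T.subtype with hP₁
  have hP₁p : IsPGroup p P₁ := S₁.isPGroup'.map _
  have hP₁T : P₁ ≤ T := by
    rintro _ ⟨y, _, rfl⟩; exact y.2
  obtain ⟨P', hP'⟩ := hP₁p.exists_le_sylow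
  obtain ⟨g, rfl⟩ := MulAction.exists_smul_eq L P P'
  have hP₁g : ∀ y ∈ P₁, g⁻¹ * y * g ∈ (P : Subgroup L) := by
    intro y hy
    have := hP' hy
    rw [Sylow.coe_subgroup_smul, mem_conj_smul_iff'] at this
    exact this
  -- Claim A : P₁ ⊔ M = ⊤
  have hQuot : IsPGroup p (L ⧸ M) := isPGroup_quotient_of_sup_eq_top (P : Subgroup L) M P.isPGroup' hMPtop
  have hA : ∀ x : L, ∃ y ∈ P₁, y⁻¹ * x ∈ M := by
    intro x
    let f : T →* L ⧸ M := (QuotientGroup.mk' M).comp T.subtype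
    have hf : Function.Surjective f := by
      intro zbar
      obtain ⟨z, rfl⟩ := QuotientGroup.mk_surjective zbar
      have hz : z ∈ T ⊔ M := by rw [hfratt]; trivial
      obtain ⟨t, ht, m, hm, rfl⟩ := Subgroup.mem_sup_of_normal_right.mp hz
      refine ⟨⟨t, ht⟩, ?_⟩
      show ((t : L) : L ⧸ M) = ((t * m : L) : L ⧸ M)
      rw [QuotientGroup.mk_mul, (QuotientGroup.eq_one_iff m).mpr hm, mul_one]
    have htop := sylow_eq_top_of_isPGroup hQuot (S₁.mapSurjective hf)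
    rw [Sylow.coe_mapSurjective] at htop
    have hx : (QuotientGroup.mk' M x) ∈ (S₁ : Subgroup T).map f := by rw [htop]; trivial
    obtain ⟨y, hy, hyx⟩ := hx
    refine ⟨(y : L), ⟨y, hy, rfl⟩, ?_⟩
    rw [← QuotientGroup.eq_one_iff, QuotientGroup.mk_mul, QuotientGroup.mk_inv]
    have : ((y : L) : L ⧸ M) = (x : L ⧸ M) := hyx
    rw [this, inv_mul_cancel]
  -- Claim B : P ≤ (conj g⁻¹ • P₁) ⊔ Q
  have hP₁'le : MulAut.conj g⁻¹ • P₁ ≤ (P : Subgroup L) := by
    intro z hz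
    rw [mem_conj_smul_iff', inv_inv] at hz
    have := hP₁g _ hz
    have e : g⁻¹ * (g * z * g⁻¹) * g = z := by group
    rwa [e] at this
  have hB : (P : Subgroup L) ≤ MulAut.conj g⁻¹ • P₁ ⊔ Q := by
    intro x hx
    obtain ⟨y, hy, hym⟩ := hA (g * x * g⁻¹)
    have h1 : g⁻¹ * y * g ∈ MulAut.conj g⁻¹ • P₁ := by
      rw [mem_conj_smul_iff', inv_inv]
      have e : g * (g⁻¹ * y * g) * g⁻¹ = y := by group
      rw [e]; exact hy
    have h2 : g⁻¹ * (y⁻¹ * (g * x * g⁻¹)) * g ∈ M := by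
      have := hMn.conj_mem _ hym g⁻¹
      rwa [inv_inv] at this
    have h3 : g⁻¹ * (y⁻¹ * (g * x * g⁻¹)) * g = (g⁻¹ * y * g)⁻¹ * x := by group
    have h4 : (g⁻¹ * y * g)⁻¹ * x ∈ (P : Subgroup L) :=
      (P : Subgroup L).mul_mem ((P : Subgroup L).inv_mem (hP₁g y hy)) hx
    have h5 : (g⁻¹ * y * g)⁻¹ * x ∈ Q := by
      rw [← hMP]; exact ⟨h3 ▸ h2, h4⟩
    have h6 : x = (g⁻¹ * y * g) * ((g⁻¹ * y * g)⁻¹ * x) := by group
    rw [h6]
    exact Subgroup.mul_mem _ (Subgroup.mem_sup_left h1) (Subgroup.mem_sup_right h5)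
  have hPle := hfrat _ hP₁'le hB
  -- so `conj g • P ≤ T`
  have hPT : ∀ x ∈ (P : Subgroup L), g * x * g⁻¹ ∈ T := by
    intro x hx
    have := hPle hx
    rw [mem_conj_smul_iff', inv_inv] at this
    exact hP₁T this
  refine ⟨MulAut.conj g⁻¹ • R₀, ?_, ?_, ?_, ?_⟩
  · intro z hz
    rw [mem_conj_smul_iff', inv_inv] at hz
    obtain ⟨w, _, hw⟩ := hz
    have hwM : (w : L) ∈ M := w.2
    have h1 : g * z * g⁻¹ ∈ M := by
      have : M.subtype w = g * z * g⁻¹ := hw
      rw [← this]; exact hwM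
    have := hMn.conj_mem _ h1 g⁻¹
    have e : g⁻¹ * (g * z * g⁻¹) * g⁻¹⁻¹ = z := by group
    rwa [e] at this
  · have h1 : IsPGroup r R₀ := R.isPGroup'.map _
    exact h1.map (MulAut.conj g⁻¹).toMonoidHom
  · intro k hk
    have h1 : Nat.card (MulAut.conj g⁻¹ • R₀ : Subgroup L) = Nat.card (R : Subgroup M) := by
      have h2 : Nat.card (MulAut.conj g⁻¹ • R₀ : Subgroup L) = Nat.card R₀ :=
        Subgroup.card_map_of_injective (f := (MulAut.conj g⁻¹).toMonoidHom) (MulAut.conj g⁻¹).injective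
      rw [h2, hR₀]
      exact Subgroup.card_map_of_injective (Subgroup.subtype_injective M)
    rw [h1]
    exact R.pow_dvd_card_of_pow_dvd_card hk
  · -- P normalizes R'
    have hnorm : (P : Subgroup L) ≤
        Subgroup.normalizer ((MulAut.conj g⁻¹ • R₀ : Subgroup L) : Set L) := by
      have h1 : MulAut.conj g⁻¹ • T =
          Subgroup.normalizer ((MulAut.conj g⁻¹ • R₀ : Subgroup L) : Set L) :=
        Subgroup.map_equiv_normalizer_eq R₀ (MulAut.conj g⁻¹)
      rw [← h1]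
      intro x hx
      rw [mem_conj_smul_iff', inv_inv]
      exact hPT x hx
    have hQnorm : (MulAut.conj g⁻¹ • R₀ : Subgroup L) ≤ Subgroup.normalizer (Q : Set L) := by
      rw [Subgroup.normalizer_eq_top]; exact le_top
    have hQp : IsPGroup p Q := P.isPGroup'.to_le hQP
    have hR'r : IsPGroup r (MulAut.conj g⁻¹ • R₀ : Subgroup L) := by
      have h1 : IsPGroup r R₀ := R.isPGroup'.map _
      exact h1.map (MulAut.conj g⁻¹).toMonoidHom
    have hdisj : Q ⊓ (MulAut.conj g⁻¹ • R₀ : Subgroup L) = ⊥ :=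
      (IsPGroup.disjoint_of_ne p r hrp.symm Q _ hQp hR'r).eq_bot
    exact le_centralizer_of_normalize_of_disjoint Q _ (hQP.trans hnorm) hQnorm hdisj

/-- If for every prime `r ≠ p` the full `r`-part of `|L|` divides `|X|` then `X` has `p`-power index. -/
lemma index_eq_pow_of_forall_dvd [Finite L] {p : ℕ} [hp : Fact p.Prime] (X : Subgroup L)
    (h : ∀ r : ℕ, r.Prime → r ≠ p → ∀ k : ℕ, r ^ k ∣ Nat.card L → r ^ k ∣ Nat.card X) :
    ∃ e : ℕ, X.index = p ^ e := by
  refine ⟨_, Nat.eq_prime_pow_of_unique_prime_dvd Subgroup.index_ne_zero_of_finite ?_⟩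
  intro d hd hdvd
  by_contra hne
  have hL0 : Nat.card L ≠ 0 := Nat.card_pos.ne'
  have h1 := h d hd hne _ (Nat.ordProj_dvd (Nat.card L) d)
  have h2 : d ^ ((Nat.card L).factorization d + 1) ∣ Nat.card L := by
    have h3 : d ^ ((Nat.card L).factorization d + 1) ∣ Nat.card X * X.index := by
      rw [pow_succ]
      exact Nat.mul_dvd_mul h1 hdvd
    rwa [X.card_mul_index] at h3
  exact Nat.pow_succ_factorization_not_dvd hL0 hd h2

/-- **Special case of Tate's theorem** (with the transfer step included). Let `P` be a Sylow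
`p`-subgroup of `L`, `Q ≤ P` normal in `L` with `P/Q` abelian and `Q` consisting of non-generators of `P`.
If `N_L(P) = P C_L(P)` then `L` has a normal `p`-complement. -/
theorem hasNormalPComplement_of_frattini [Finite L] {p : ℕ} [hp : Fact p.Prime] (P : Sylow p L)
    (Q : Subgroup L) [hQn : Q.Normal] (hQP : Q ≤ P)
    (hcomm : ∀ x ∈ (P : Subgroup L), ∀ y ∈ (P : Subgroup L), x * y * x⁻¹ * y⁻¹ ∈ Q)
    (hnorm : ∀ n ∈ Subgroup.normalizer ((P : Subgroup L) : Set L),
      ∃ k ∈ Subgroup.centralizer ((P : Subgroup L) : Set L), ∃ x ∈ (P : Subgroup L), n = k * x)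
    (hfrat : ∀ P₁ : Subgroup L, P₁ ≤ P → (P : Subgroup L) ≤ P₁ ⊔ Q → (P : Subgroup L) ≤ P₁) :
    Cfsg.HasNormalPComplement p L := by
  obtain ⟨M, hMn, hMP, hMPtop⟩ := exists_normal_inf_sylow_eq P Q hQP hcomm hnorm
  haveI := hMn
  have hQM : Q ≤ M := by rw [← hMP]; exact inf_le_left
  set C := M ⊓ Subgroup.centralizer (Q : Set L) with hC
  have hCn : C.Normal := inferInstance
  -- M has p-power index
  have hQuot : IsPGroup p (L ⧸ M) := isPGroup_quotient_of_sup_eq_top (P : Subgroup L) M P.isPGroup' hMPtop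
  obtain ⟨c, hc⟩ := IsPGroup.iff_card.mp hQuot
  have hMidx : M.index = p ^ c := hc
  -- C has p-power index
  obtain ⟨e, he⟩ : ∃ e : ℕ, C.index = p ^ e := by
    apply index_eq_pow_of_forall_dvd
    intro r hr hrp k hk
    haveI : Fact r.Prime := ⟨hr⟩
    obtain ⟨R', hR'M, _, hR'card, hR'Q⟩ :=
      exists_sylow_centralizing P Q M hQP hMP hMPtop hfrat r hrp
    have h1 : r ^ k ∣ Nat.card M := by
      rw [← M.card_mul_index, hMidx] at hk
      exact Nat.Coprime.dvd_of_dvd_mul_right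
        (Nat.Coprime.pow k c ((Nat.coprime_primes hr hp.out).mpr hrp)) hk
    exact (hR'card k h1).trans (Subgroup.card_dvd_of_le (le_inf hR'M hR'Q))
  -- every p-subgroup of M lies in Q
  have hpsub : ∀ X : Subgroup L, IsPGroup p X → X ≤ M → X ≤ Q := by
    intro X hX hXM x hx
    obtain ⟨P', hP'⟩ := hX.exists_le_sylow
    obtain ⟨g, rfl⟩ := MulAction.exists_smul_eq L P P'
    have h1 := hP' hx
    rw [Sylow.coe_subgroup_smul, mem_conj_smul_iff'] at h1
    have h2 : g⁻¹ * x * g ∈ M := by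
      have := hMn.conj_mem _ (hXM hx) g⁻¹
      rwa [inv_inv] at this
    have h3 : g⁻¹ * x * g ∈ Q := by rw [← hMP]; exact ⟨h2, h1⟩
    have := hQn.conj_mem _ h3 g
    have e : g * (g⁻¹ * x * g) * g⁻¹ = x := by group
    rwa [e] at this
  -- a Sylow p-subgroup of C is central in C
  obtain ⟨Pc⟩ : Nonempty (Sylow p C) := inferInstance
  have hPc : (Pc : Subgroup C) ≤ Subgroup.center C := by
    intro z hz
    have hzQ : (z : L) ∈ Q := by
      apply hpsub ((Pc : Subgroup C).map C.subtype) (Pc.isPGroup'.map _)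
      · rintro _ ⟨y, _, rfl⟩
        exact y.2.1
      · exact ⟨z, hz, rfl⟩
    rw [Subgroup.mem_center_iff]
    intro y
    have hy : (y : L) ∈ Subgroup.centralizer (Q : Set L) := y.2.2
    apply Subtype.ext
    have := Subgroup.mem_centralizer_iff.mp hy (z : L) hzQ
    simpa using this.symm
  obtain ⟨K, hKn, hK⟩ := Cfsg.Agent.Lib.Helper34.exists_normal_complement_of_sylow_le_center Pc hPc
  haveI := hKn
  refine hasNormalPComplement_of_subgroup (K.map C.subtype) ?_ ?_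
  · rw [Subgroup.card_map_of_injective (Subgroup.subtype_injective C)]
    have := Cfsg.Agent.Lib.Helper34.card_coprime_of_isComplement' Pc K hK
    exact fun hd => (Nat.Prime.coprime_iff_not_dvd hp.out).mp this.symm hd
  · intro g hg
    have hgC : g ∈ C := mem_of_coprime_of_index_pow C he g hg
    have h1 : (orderOf (⟨g, hgC⟩ : C)).Coprime p := by
      rw [Subgroup.orderOf_mk]; exact hg
    have h2 := Cfsg.Agent.Lib.Helper34.mem_of_coprime_orderOf_of_isComplement' Pc K hK ⟨g, hgC⟩ h1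
    exact ⟨⟨g, hgC⟩, h2, rfl⟩

end Cfsg.Agent.Lib.Helper64
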