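import Mathlib
import Cfsg.Prelude.Def_LieExceptional
import Cfsg.Agent.Lib.Helper59.Zassenhaus
import Cfsg.Agent.Lib.Helper19.ZassFrob
import Cfsg.Agent.Lib.Helper64.Sharp3NotSimple
import Cfsg.Agent.Lib.Helper64.ZassEven
import Cfsg.Agent.S0739
import Cfsg.Agent.S0740
import Cfsg.Agent.S0741

/-!
# Two-point stabilisers of simple Zassenhaus groups are cyclic and inverted by an involution

`zass_simple_cyclic`: the statement S0345, from the statement S0729 (passed as a hypothesis
`Stmt0729 Ω`) for the sharply 3-transitive case.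
-/

set_option autoImplicit false

namespace Cfsg.Agent.Lib.Helper64

open MulAction Cfsg.Agent.Lib.Helper59

/-- The statement S0729 for permutation groups on the fixed set `Ω`. -/
def Stmt0729 (Ω : Type*) : Prop :=
  ∀ [Fintype Ω] [DecidableEq Ω], Even (Fintype.card Ω) → 6 ≤ Fintype.card Ω →
    ∀ (G : Subgroup (Equiv.Perm Ω)), MulAction.IsMultiplyPretransitive G Ω 3 →
      (∀ x : Fin 3 ↪ Ω, MulAction.stabilizer G x = ⊥) →
      ∀ {a b c : Ω}, a ≠ b → a ≠ c → b ≠ c → ∀ s : G, s • a = b → s • b = a → s • c = c →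
        ∃ N : Subgroup G, N ≤ MulAction.stabilizer G a ⊓ MulAction.stabilizer G b ∧
          (N.subgroupOf (MulAction.stabilizer G a ⊓ MulAction.stabilizer G b)).Normal ∧
          N.relIndex (MulAction.stabilizer G a ⊓ MulAction.stabilizer G b) = 2 ∧
          ∀ n ∈ N, s * n * s⁻¹ ∈ N

section

variable {G Ω : Type*} [Group G] [Finite G] [MulAction G Ω] [Fintype Ω]

omit [Finite G] [Fintype Ω] in
/-- A Zassenhaus group is not commutative. -/
theorem zass_not_comm (hZ : Cfsg.IsZassenhausGroup G Ω) {a b : Ω} (hab : a ≠ b)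
    (hcomm : ∀ x y : G, x * y = y * x) : False := by
  obtain ⟨x, hx1, hxa, hxb⟩ := zass_stab2_ne_bot hZ hab
  obtain ⟨g, hga, hgb⟩ := Cfsg.Agent.Lib.Helper19.zass_exists_fix_move hZ hab
  apply hx1
  apply zass_three hZ x a b (g • b) hab (Ne.symm hgb)
  · intro h
    apply hab
    apply MulAction.injective g
    change g • a = g • b
    rw [hga, h]
  · exact hxa
  · exact hxb
  · rw [← mul_smul, hcomm x g, mul_smul, hxb]

/-- The case of odd two-point stabiliser: S0739 applies since a simple group has no normal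
`q`-complements. -/
theorem zass_simple_cyclic_odd (hZ : Cfsg.IsZassenhausGroup G Ω) [IsSimpleGroup G]
    {a b : Ω} (hab : a ≠ b)
    (hodd : Odd (Nat.card ↥(stabilizer G a ⊓ stabilizer G b))) :
    IsCyclic ↥(stabilizer G a ⊓ stabilizer G b) ∧
      ∃ v : G, orderOf v = 2 ∧ v • a = b ∧ v • b = a ∧
        ∀ h ∈ stabilizer G a ⊓ stabilizer G b, v * h * v⁻¹ = h⁻¹ := by
  have hnil : ∀ q : ℕ, q.Prime → q ∣ Nat.card ↥(stabilizer G a ⊓ stabilizer G b) →
      ¬ ∃ N : Subgroup G, N.Normal ∧ N.index = q ^ (Nat.card G).factorization q := by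
    rintro q hq hqd ⟨N, hNn, hNidx⟩
    have hqG : q ∣ Nat.card G := hqd.trans (Subgroup.card_subgroup_dvd_card _)
    have hkpos : 0 < (Nat.card G).factorization q :=
      hq.factorization_pos_of_dvd Nat.card_pos.ne' hqG
    rcases IsSimpleGroup.eq_bot_or_eq_top_of_normal N hNn with h | h
    · rw [h, Subgroup.index_bot] at hNidx
      have : Fact q.Prime := ⟨hq⟩
      have hp : IsPGroup q G := IsPGroup.of_card hNidx
      have hcn : Nontrivial (Subgroup.center G) := hp.center_nontrivial
      have hctop : Subgroup.center G = ⊤ := by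
        rcases IsSimpleGroup.eq_bot_or_eq_top_of_normal (Subgroup.center G) inferInstance
          with h1 | h1
        · exfalso
          rw [Subgroup.nontrivial_iff_ne_bot] at hcn
          exact hcn h1
        · exact h1
      apply zass_not_comm hZ hab
      intro x y
      have hy : y ∈ Subgroup.center G := by rw [hctop]; exact Subgroup.mem_top y
      exact (Subgroup.mem_center_iff.mp hy) x
    · rw [h, Subgroup.index_top] at hNidx
      have : 1 < q ^ (Nat.card G).factorization q := Nat.one_lt_pow hkpos.ne' hq.one_lt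
      omega
  obtain ⟨hcyc, -, hinv⟩ := Cfsg.Agent.S0739.result hZ hab hodd hnil
  obtain ⟨⟨v, hvo, hva, hvb⟩, -, -⟩ := Cfsg.Agent.S0740.result hZ hab
  exact ⟨hcyc, v, hvo, hva, hvb, hinv v hva hvb⟩

/-- The case `2 d = n - 1` with `d` even. -/
theorem zass_cyclic_even_half (hZ : Cfsg.IsZassenhausGroup G Ω) {a b : Ω} (hab : a ≠ b)
    (heven : Even (Nat.card ↥(stabilizer G a ⊓ stabilizer G b)))
    (hd : Fintype.card Ω - 2 = 2 * Nat.card ↥(stabilizer G a ⊓ stabilizer G b)) :
    IsCyclic ↥(stabilizer G a ⊓ stabilizer G b) ∧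
      ∃ v : G, orderOf v = 2 ∧ v • a = b ∧ v • b = a ∧
        ∀ h ∈ stabilizer G a ⊓ stabilizer G b, v * h * v⁻¹ = h⁻¹ := by
  obtain ⟨⟨v, hvo, hva, hvb⟩, -, -⟩ := Cfsg.Agent.S0740.result hZ hab
  refine ⟨Cfsg.Agent.Lib.Helper19.zass_isCyclic_of_comm hZ hab
    (zass_stab2_comm hZ hab heven hd), v, hvo, hva, hvb,
    zass_swap_inverts hZ hab heven hd v hva hvb⟩

/-- The sharply 3-transitive case `d = n - 1`, `d` even: the group is not simple. -/
theorem zass_not_simple_of_sharp (hZ : Cfsg.IsZassenhausGroup G Ω) (h729 : Stmt0729 Ω)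
    {a b : Ω} (hab : a ≠ b)
    (heven : Even (Nat.card ↥(stabilizer G a ⊓ stabilizer G b)))
    (hd : Nat.card ↥(stabilizer G a ⊓ stabilizer G b) = Fintype.card Ω - 2) :
    ¬ IsSimpleGroup G := by
  classical
  intro hsimple
  have hfix3 : ∀ g : G, ∀ x y z : Ω, x ≠ y → y ≠ z → x ≠ z → g • x = x → g • y = y → g • z = z →
      g = 1 := fun g x y z hxy hyz hxz hx hy hz => zass_three hZ g x y z hxy hyz hxz hx hy hz
  have htr := zass_stab2_trans_of_card hZ hab hd
  -- a third point
  obtain ⟨x₀, hx₀1, hx₀a, hx₀b⟩ := zass_stab2_ne_bot hZ hab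
  have hex : ∃ c : Ω, x₀ • c ≠ c := by
    by_contra hcon
    push Not at hcon
    apply hx₀1
    have := hZ.1
    apply FaithfulSMul.eq_of_smul_eq_smul (α := Ω)
    intro e
    rw [hcon e, one_smul]
  obtain ⟨c, hc⟩ := hex
  have hca : c ≠ a := fun h => hc (by rw [h, hx₀a])
  have hcb : c ≠ b := fun h => hc (by rw [h, hx₀b])
  -- an element swapping `a, b` and fixing `c`
  obtain ⟨g₀, hg₀a, hg₀b⟩ := zass_two_trans hZ a b b a hab (Ne.symm hab)
  have hg₀ca : g₀ • c ≠ a := by
    intro h
    apply hcb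
    apply MulAction.injective g₀
    change g₀ • c = g₀ • b
    rw [h, hg₀b]
  have hg₀cb : g₀ • c ≠ b := by
    intro h
    apply hca
    apply MulAction.injective g₀
    change g₀ • c = g₀ • a
    rw [h, hg₀a]
  obtain ⟨h₀, hh₀a, hh₀b, hh₀c⟩ := htr (g₀ • c) c hg₀ca hg₀cb hca hcb
  set s : G := h₀ * g₀ with hs
  have hsa : s • a = b := by rw [hs, mul_smul, hg₀a, hh₀b]
  have hsb : s • b = a := by rw [hs, mul_smul, hg₀b, hh₀a]
  have hsc : s • c = c := by rw [hs, mul_smul, hh₀c]
  -- the size of `Ω`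
  set d := Nat.card ↥(stabilizer G a ⊓ stabilizer G b) with hddef
  have hdpos : 0 < d := Nat.card_pos
  obtain ⟨m, hm⟩ := heven
  by_cases h4 : d = 2
  · -- four points: the trivial subgroup has index two
    refine sharp3_not_simple hfix3 hab hca hcb htr s hsa hsb hsc ⊥ bot_le ?_ ?_ hsimple
    · rw [Subgroup.relIndex_bot_left, ← hddef, h4]
    · intro n hn
      rw [Subgroup.mem_bot] at hn
      rw [hn, mul_one, mul_inv_cancel]
      exact Subgroup.one_mem _
  · -- at least six points: pass to the permutation group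
    have hcard6 : 6 ≤ Fintype.card Ω := by omega
    have hevenΩ : Even (Fintype.card Ω) := ⟨m + 1, by omega⟩
    set G' : Subgroup (Equiv.Perm Ω) := (MulAction.toPermHom G Ω).range with hG'
    set ι : G →* G' := (MulAction.toPermHom G Ω).rangeRestrict with hι
    have hιsurj : Function.Surjective ι := (MulAction.toPermHom G Ω).rangeRestrict_surjective
    have hιsmul : ∀ (g : G) (x : Ω), ι g • x = g • x := fun g x => rfl
    -- three-transitivity
    have h3 : MulAction.IsMultiplyPretransitive G' Ω 3 := by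
      refine ⟨fun x y => ?_⟩
      have hx01 : x 0 ≠ x 1 := fun h => by simpa using x.injective h
      have hx02 : x 0 ≠ x 2 := fun h => by simpa using x.injective h
      have hx12 : x 1 ≠ x 2 := fun h => by simpa using x.injective h
      have hy01 : y 0 ≠ y 1 := fun h => by simpa using y.injective h
      have hy02 : y 0 ≠ y 2 := fun h => by simpa using y.injective h
      have hy12 : y 1 ≠ y 2 := fun h => by simpa using y.injective h
      obtain ⟨g₁, hg₁0, hg₁1⟩ := zass_two_trans hZ (x 0) (x 1) a b hx01 hab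
      obtain ⟨g₂, hg₂0, hg₂1⟩ := zass_two_trans hZ (y 0) (y 1) a b hy01 hab
      have h1a : g₁ • x 2 ≠ a := by
        intro h
        apply hx02
        apply MulAction.injective g₁
        change g₁ • x 0 = g₁ • x 2
        rw [h, hg₁0]
      have h1b : g₁ • x 2 ≠ b := by
        intro h
        apply hx12
        apply MulAction.injective g₁
        change g₁ • x 1 = g₁ • x 2
        rw [h, hg₁1]
      have h2a : g₂ • y 2 ≠ a := by
        intro h
        apply hy02
        apply MulAction.injective g₂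
        change g₂ • y 0 = g₂ • y 2
        rw [h, hg₂0]
      have h2b : g₂ • y 2 ≠ b := by
        intro h
        apply hy12
        apply MulAction.injective g₂
        change g₂ • y 1 = g₂ • y 2
        rw [h, hg₂1]
      obtain ⟨h, hha, hhb, hhx⟩ := htr (g₁ • x 2) (g₂ • y 2) h1a h1b h2a h2b
      refine ⟨ι (g₂⁻¹ * h * g₁), ?_⟩
      ext i
      rw [Function.Embedding.smul_apply, hιsmul]
      fin_cases i
      · change (g₂⁻¹ * h * g₁) • x 0 = y 0
        rw [mul_smul, mul_smul, hg₁0, hha, inv_smul_eq_iff, hg₂0]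
      · change (g₂⁻¹ * h * g₁) • x 1 = y 1
        rw [mul_smul, mul_smul, hg₁1, hhb, inv_smul_eq_iff, hg₂1]
      · change (g₂⁻¹ * h * g₁) • x 2 = y 2
        rw [mul_smul, mul_smul, hhx, inv_smul_smul]
    have hfix3' : ∀ g : G', ∀ x y z : Ω, x ≠ y → y ≠ z → x ≠ z → g • x = x → g • y = y →
        g • z = z → g = 1 := by
      intro g' x y z hxy hyz hxz hx hy hz
      obtain ⟨g, rfl⟩ := hιsurj g'
      rw [hιsmul] at hx hy hz
      rw [hfix3 g x y z hxy hyz hxz hx hy hz, map_one]
    have hsharp : ∀ x : Fin 3 ↪ Ω, MulAction.stabilizer G' x = ⊥ := by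
      intro x
      rw [eq_bot_iff]
      intro g' hg'
      rw [MulAction.mem_stabilizer_iff] at hg'
      rw [Subgroup.mem_bot]
      have hx01 : x 0 ≠ x 1 := fun h => by simpa using x.injective h
      have hx02 : x 0 ≠ x 2 := fun h => by simpa using x.injective h
      have hx12 : x 1 ≠ x 2 := fun h => by simpa using x.injective h
      have hi : ∀ i, g' • x i = x i := by
        intro i
        have := DFunLike.congr_fun hg' i
        exact this
      exact hfix3' g' (x 0) (x 1) (x 2) hx01 hx12 hx02 (hi 0) (hi 1) (hi 2)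
    have htr' : ∀ x y : Ω, x ≠ a → x ≠ b → y ≠ a → y ≠ b →
        ∃ h : G', h • a = a ∧ h • b = b ∧ h • x = y := by
      intro x y hxa hxb hya hyb
      obtain ⟨h, h1, h2, h3⟩ := htr x y hxa hxb hya hyb
      exact ⟨ι h, h1, h2, h3⟩
    obtain ⟨N, hN, -, hNidx, hsN⟩ := h729 hevenΩ hcard6 G' h3 hsharp hab (Ne.symm hca)
      (Ne.symm hcb) (ι s) hsa hsb hsc
    have hnt : Nontrivial G' := by
      refine ⟨⟨ι s, 1, ?_⟩⟩
      intro h
      have : ι s • a = (1 : G') • a := by rw [h]
      rw [hιsmul, one_smul, hsa] at this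
      exact hab this.symm
    have hsimple' : IsSimpleGroup G' :=
      IsSimpleGroup.isSimpleGroup_of_surjective ι hιsurj
    exact sharp3_not_simple hfix3' hab hca hcb htr' (ι s) hsa hsb hsc N hN hNidx hsN hsimple'

/-- S0345 from S0729. -/
theorem zass_simple_cyclic (hZ : Cfsg.IsZassenhausGroup G Ω) [IsSimpleGroup G]
    (h729 : Stmt0729 Ω) {a b : Ω} (hab : a ≠ b) :
    IsCyclic ↥(stabilizer G a ⊓ stabilizer G b) ∧
      ∃ v : G, orderOf v = 2 ∧ v • a = b ∧ v • b = a ∧
        ∀ h ∈ stabilizer G a ⊓ stabilizer G b, v * h * v⁻¹ = h⁻¹ := by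
  rcases Nat.even_or_odd (Nat.card ↥(stabilizer G a ⊓ stabilizer G b)) with heven | hodd
  · have h741 := Cfsg.Agent.S0741.result hZ hab heven
    -- `d ∣ n - 1`
    obtain ⟨x₀, hx₀1, hx₀a, hx₀b⟩ := zass_stab2_ne_bot hZ hab
    have hex : ∃ c : Ω, x₀ • c ≠ c := by
      by_contra hcon
      push Not at hcon
      apply hx₀1
      have := hZ.1
      apply FaithfulSMul.eq_of_smul_eq_smul (α := Ω)
      intro e
      rw [hcon e, one_smul]
    obtain ⟨c, hc⟩ := hex
    have hca : c ≠ a := fun h => hc (by rw [h, hx₀a])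
    have hcb : c ≠ b := fun h => hc (by rw [h, hx₀b])
    have hle : Nat.card ↥(stabilizer G a ⊓ stabilizer G b) ≤ Fintype.card Ω - 2 := by
      rw [← zass_stab2_orbit_ncard hZ hab hca hcb, ← ncard_compl_pair hab]
      exact Set.ncard_le_ncard (stab2Orb_subset hca hcb)
    by_cases hd : Nat.card ↥(stabilizer G a ⊓ stabilizer G b) = Fintype.card Ω - 2
    · exact absurd ‹IsSimpleGroup G› (zass_not_simple_of_sharp hZ h729 hab heven hd)
    · -- two orbits
      have hc' : c ∈ ({a, b} : Set Ω)ᶜ := by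
        simp only [Set.mem_compl_iff, Set.mem_insert_iff, Set.mem_singleton_iff, not_or]
        exact ⟨hca, hcb⟩
      have hne : stab2Orb G a b c ≠ ({a, b} : Set Ω)ᶜ := by
        intro h
        apply hd
        rw [← zass_stab2_orbit_ncard hZ hab hca hcb, h, ncard_compl_pair hab]
      obtain ⟨y, hy, hyc⟩ : ∃ y ∈ ({a, b} : Set Ω)ᶜ, y ∉ stab2Orb G a b c := by
        by_contra hcon
        push Not at hcon
        exact hne (Set.Subset.antisymm (stab2Orb_subset hca hcb) hcon)
      simp only [Set.mem_compl_iff, Set.mem_insert_iff, Set.mem_singleton_iff, not_or] at hy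
      have hdisj : Disjoint (stab2Orb G a b c) (stab2Orb G a b y) := by
        rw [Set.disjoint_left]
        intro w hw1 hw2
        apply hyc
        obtain ⟨h₁, h₁a, h₁b, h₁c⟩ := mem_stab2Orb.mp hw1
        obtain ⟨h₂, h₂a, h₂b, h₂y⟩ := mem_stab2Orb.mp hw2
        have h₂a' : h₂⁻¹ • a = a := by rw [inv_smul_eq_iff, h₂a]
        have h₂b' : h₂⁻¹ • b = b := by rw [inv_smul_eq_iff, h₂b]
        refine mem_stab2Orb.mpr ⟨h₂⁻¹ * h₁, ?_, ?_, ?_⟩
        · rw [mul_smul, h₁a, h₂a']
        · rw [mul_smul, h₁b, h₂b']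
        · rw [mul_smul, h₁c, ← h₂y, inv_smul_smul]
      have hunion : (stab2Orb G a b c ∪ stab2Orb G a b y).ncard ≤ Fintype.card Ω - 2 := by
        rw [← ncard_compl_pair hab]
        exact Set.ncard_le_ncard
          (Set.union_subset (stab2Orb_subset hca hcb) (stab2Orb_subset hy.1 hy.2))
      rw [Set.ncard_union_eq hdisj, zass_stab2_orbit_ncard hZ hab hca hcb,
        zass_stab2_orbit_ncard hZ hab hy.1 hy.2] at hunion
      exact zass_cyclic_even_half hZ hab heven (by omega)
  · exact zass_simple_cyclic_odd hZ hab hodd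

end

end Cfsg.Agent.Lib.Helper64
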