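import Mathlib
import Cfsg.Prelude.Def_LieExceptional
import Cfsg.Agent.Lib.Helper64.ZassCyclic

/-!
# A simple Zassenhaus group with even two-point stabiliser has `2 d ≤ n - 1`

`zass_simple_even_half` is literally the hypothesis `hd` of S0742 (given S0729 as `Stmt0729 Ω`).
-/

set_option autoImplicit false

namespace Cfsg.Agent.Lib.Helper64

open MulAction Cfsg.Agent.Lib.Helper59

section

variable {G Ω : Type*} [Group G] [MulAction G Ω] [Fintype Ω]

/-- If the two-point stabiliser is not transitive on the remaining points, it has at least two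
orbits there. -/
theorem zass_two_orbits (hZ : Cfsg.IsZassenhausGroup G Ω) {a b : Ω} (hab : a ≠ b)
    (hd : Nat.card ↥(stabilizer G a ⊓ stabilizer G b) ≠ Fintype.card Ω - 2) :
    2 * Nat.card ↥(stabilizer G a ⊓ stabilizer G b) ≤ Fintype.card Ω - 2 := by
  obtain ⟨x₀, hx₀1, hx₀a, hx₀b⟩ := zass_stab2_ne_bot hZ hab
  have hex : ∃ c : Ω, x₀ • c ≠ c := by
    by_contra hcon
    push Not at hcon
    apply hx₀1
    have := hZ.1
    apply FaithfulSMul.eq_of_smul_eq_smul (α := Ω)
    intro e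
    rw [hcon e, one_smul]
  obtain ⟨c, hc⟩ := hex
  have hca : c ≠ a := fun h => hc (by rw [h, hx₀a])
  have hcb : c ≠ b := fun h => hc (by rw [h, hx₀b])
  have hne : stab2Orb G a b c ≠ ({a, b} : Set Ω)ᶜ := by
    intro h
    apply hd
    rw [← zass_stab2_orbit_ncard hZ hab hca hcb, h, ncard_compl_pair hab]
  obtain ⟨y, hy, hyc⟩ : ∃ y ∈ ({a, b} : Set Ω)ᶜ, y ∉ stab2Orb G a b c := by
    by_contra hcon
    push Not at hcon
    exact hne (Set.Subset.antisymm (stab2Orb_subset hca hcb) hcon)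
  simp only [Set.mem_compl_iff, Set.mem_insert_iff, Set.mem_singleton_iff, not_or] at hy
  have hdisj : Disjoint (stab2Orb G a b c) (stab2Orb G a b y) := by
    rw [Set.disjoint_left]
    intro w hw1 hw2
    apply hyc
    obtain ⟨h₁, h₁a, h₁b, h₁c⟩ := mem_stab2Orb.mp hw1
    obtain ⟨h₂, h₂a, h₂b, h₂y⟩ := mem_stab2Orb.mp hw2
    have h₂a' : h₂⁻¹ • a = a := by rw [inv_smul_eq_iff, h₂a]
    have h₂b' : h₂⁻¹ • b = b := by rw [inv_smul_eq_iff, h₂b]
    refine mem_stab2Orb.mpr ⟨h₂⁻¹ * h₁, ?_, ?_, ?_⟩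
    · rw [mul_smul, h₁a, h₂a']
    · rw [mul_smul, h₁b, h₂b']
    · rw [mul_smul, h₁c, ← h₂y, inv_smul_smul]
  have hunion : (stab2Orb G a b c ∪ stab2Orb G a b y).ncard ≤ Fintype.card Ω - 2 := by
    rw [← ncard_compl_pair hab]
    exact Set.ncard_le_ncard
      (Set.union_subset (stab2Orb_subset hca hcb) (stab2Orb_subset hy.1 hy.2))
  rw [Set.ncard_union_eq hdisj, zass_stab2_orbit_ncard hZ hab hca hcb,
    zass_stab2_orbit_ncard hZ hab hy.1 hy.2] at hunion
  omega

/-- In a simple Zassenhaus group with two-point stabiliser of even order `d`, `2 d ≤ n - 1`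
(the hypothesis of S0742), given the statement S0729. -/
theorem zass_simple_even_half [Finite G] (hZ : Cfsg.IsZassenhausGroup G Ω) [IsSimpleGroup G]
    (h729 : Stmt0729 Ω) {a b : Ω} (hab : a ≠ b)
    (heven : Even (Nat.card ↥(stabilizer G a ⊓ stabilizer G b))) :
    2 * Nat.card ↥(stabilizer G a ⊓ stabilizer G b) ≤ Fintype.card Ω - 2 := by
  by_cases hd : Nat.card ↥(stabilizer G a ⊓ stabilizer G b) = Fintype.card Ω - 2
  · exact absurd ‹IsSimpleGroup G› (zass_not_simple_of_sharp hZ h729 hab heven hd)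
  · exact zass_two_orbits hZ hab hd

end

end Cfsg.Agent.Lib.Helper64
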